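import Groth.Agent.Node12.Loc.Locus
import Groth.Agent.S1592

/-!
# Nodal families and base change
-/

set_option autoImplicit false
set_option linter.style.haveILetI false
set_option maxHeartbeats 1600000
set_option synthInstance.maxHeartbeats 100000
set_option backward.isDefEq.respectTransparency.types false

universe u

open CategoryTheory Limits AlgebraicGeometry TopologicalSpace

noncomputable section

namespace Groth.Agent.Node12.Loc

variable {X X' S S' : Scheme.{u}}

theorem flat_specMap_field {k K : Type u} [Field k] [Field K] (φ : k →+* K) :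
    Flat (Spec.map (CommRingCat.ofHom φ)) := by
  rw [HasRingHomProperty.Spec_iff (P := @Flat)]
  algebraize [φ]
  exact RingHom.flat_algebraMap_iff.mpr inferInstance

/-- Nodes are invariant under extensions of the ground field. -/
theorem isNode_iff_of_isPullback {k K : Type u} [Field k] [Field K] [Algebra k K] {X Z : Scheme.{u}}
    [X.Over (Spec (CommRingCat.of k))] [LocallyOfFiniteType (X ↘ (Spec (CommRingCat.of k)))]
    [Z.Over (Spec (CommRingCat.of K))] (p : Z ⟶ X)
    (hK : IsPullback p (Z ↘ Spec (CommRingCat.of K)) (X ↘ Spec (CommRingCat.of k))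
      (Spec.map (CommRingCat.ofHom (algebraMap k K)))) (y : Z) :
    Curv2.IsNode k X (p y) ↔ Curv2.IsNode K Z y := by
  let Ω := AlgebraicClosure K
  have : LocallyOfFiniteType (Z ↘ Spec (CommRingCat.of K)) :=
    MorphismProperty.of_isPullback (P := @LocallyOfFiniteType) hK ‹_›
  let : (Curv2.bc K Z Ω).Over (Spec (CommRingCat.of Ω)) := ⟨Curv2.bcSnd K Z Ω⟩
  have hΩ : IsPullback (Curv2.bcFst K Z Ω) ((Curv2.bc K Z Ω) ↘ Spec (CommRingCat.of Ω))
      (Z ↘ Spec (CommRingCat.of K)) (Spec.map (CommRingCat.ofHom (algebraMap K Ω))) :=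
    IsPullback.of_hasPullback _ _
  have hsq : IsPullback (Curv2.bcFst K Z Ω ≫ p)
      ((Curv2.bc K Z Ω) ↘ Spec (CommRingCat.of Ω)) (X ↘ Spec (CommRingCat.of k))
      (Spec.map (CommRingCat.ofHom (algebraMap k Ω))) := by
    have h := hΩ.paste_horiz hK
    rwa [← Spec.map_comp, ← CommRingCat.ofHom_comp, ← IsScalarTower.algebraMap_eq k K Ω] at h
  constructor
  · intro h
    obtain ⟨hx, hsep, hQ⟩ := (Node12.isNode_iff _).1 h
    have hy := Node12.isClosed_singleton_of_isPullback hK y hx
    have : Surjective (Spec.map (CommRingCat.ofHom (algebraMap K Ω))) :=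
      ⟨fun s => ⟨IsLocalRing.closedPoint Ω, Subsingleton.elim _ _⟩⟩
    obtain ⟨z, rfl⟩ := (Curv2.bcFst K Z Ω).surjective y
    exact ⟨hy, z, rfl, @Node12.isOrdDoublePt_of _ _ _ _ _ _ _ _ _ _ _ _ hsq z hsep hQ
      (Node12.isClosed_singleton_of_isPullback hΩ z hy)⟩
  · rintro ⟨-, z, rfl, hz⟩
    obtain ⟨hx, hsep, hQ, -⟩ := Node12.of_isOrdDoublePt hsq z hz
    exact (Node12.isNode_iff _).2 ⟨hx, hsep, hQ⟩

/-- Smoothness near a point passes to base changes. -/
theorem smooth_nhd_of_isPullback {A B T T' : Scheme.{u}} {p : B ⟶ A} {b : B ⟶ T'} {a : A ⟶ T} {c : T' ⟶ T}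
    (h : IsPullback p b a c) [LocallyOfFinitePresentation a] [LocallyOfFinitePresentation b] (z : B)
    (hU : ∃ U : A.Opens, p z ∈ U ∧ Smooth (U.ι ≫ a)) : ∃ U : B.Opens, z ∈ U ∧ Smooth (U.ι ≫ b) := by
  have h1 : p z ∈ a.smoothLocus := (Scheme.Hom.mem_smoothLocus).2 ((Unr55.exists_smooth_iff a _).1 hU)
  have h2 : z ∈ b.smoothLocus := Open62.preimage_smoothLocus_le h h1
  exact (Unr55.exists_smooth_iff b z).2 ((Scheme.Hom.mem_smoothLocus).1 h2)

/-- Dimension one and at worst nodal singularities pass to field extensions. -/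
theorem nodal_bc (k : Type u) [Field k] (X : Scheme.{u}) [X.Over (Spec (CommRingCat.of k))]
    [LocallyOfFiniteType (X ↘ (Spec (CommRingCat.of k)))] (K : Type u) [Field K] [Algebra k K]
    (hequi : ∀ Z ∈ irreducibleComponents (X : Type u), topologicalKrullDim Z = 1) (hX : Curv2.AtWorstNodal k X) :
    (∀ Z ∈ irreducibleComponents (Curv2.bc k X K : Type u), topologicalKrullDim Z = 1) ∧
      @Curv2.AtWorstNodal K _ (Curv2.bc k X K) ⟨Curv2.bcSnd k X K⟩ := by
  let iB : (Curv2.bc k X K).Over (Spec (CommRingCat.of K)) := ⟨Curv2.bcSnd k X K⟩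
  have hK : IsPullback (Curv2.bcFst k X K) ((Curv2.bc k X K) ↘ Spec (CommRingCat.of K))
      (X ↘ Spec (CommRingCat.of k)) (Spec.map (CommRingCat.ofHom (algebraMap k K))) :=
    IsPullback.of_hasPullback _ _
  refine ⟨fun T hT => ?_, fun z _ => ?_⟩
  · have h := FBase64.image_topologicalKrullDim_components_bc (X ↘ Spec (CommRingCat.of k)) K
    have key : ∀ T' ∈ irreducibleComponents ↥(FBase.bc (X ↘ Spec (CommRingCat.of k)) K),
        topologicalKrullDim ↥T' = 1 := fun T' hT' => by
      obtain ⟨Z, hZ, hZT⟩ := (Set.ext_iff.1 h (topologicalKrullDim ↥T')).1 (Set.mem_image_of_mem _ hT')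
      exact hZT.symm.trans (hequi Z hZ)
    exact key T hT
  rcases smooth_or_node_of_nodal k X hequi hX (Curv2.bcFst k X K z) with hU | hn
  · have : LocallyOfFinitePresentation (X ↘ Spec (CommRingCat.of k)) := inferInstance
    have : LocallyOfFinitePresentation ((Curv2.bc k X K) ↘ Spec (CommRingCat.of K)) :=
      MorphismProperty.of_isPullback (P := @LocallyOfFinitePresentation) hK ‹_›
    exact Or.inl (smooth_nhd_of_isPullback hK z hU)
  · exact Or.inr ((isNode_iff_of_isPullback (Curv2.bcFst k X K) hK z).1 hn)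

/-- The fibre of a base change is the base change of the fibre. -/
theorem exists_fibre_bc {f : X ⟶ S} {g : S' ⟶ S} {f' : X' ⟶ S'} {g' : X' ⟶ X} (h : IsPullback g' f' f g)
    (s' : S') : ∃ ν : f'.fiber s' ⟶ f.fiber (g s'), ν ≫ f.fiberι (g s') = f'.fiberι s' ≫ g' ∧
      IsPullback ν (f'.fiberToSpecResidueField s') (f.fiberToSpecResidueField (g s'))
        (Spec.map (g.residueFieldMap s')) := by
  have sqP := (IsPullback.of_hasPullback f' (S'.fromSpecResidueField s')).paste_horiz h
  rw [← Scheme.Hom.SpecMap_residueFieldMap_fromSpecResidueField] at sqP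
  have sqU : IsPullback (f.fiberι (g s')) (f.fiberToSpecResidueField (g s')) f
      (S.fromSpecResidueField (g s')) := IsPullback.of_hasPullback _ _
  have hw : (f'.fiberι s' ≫ g') ≫ f =
      (f'.fiberToSpecResidueField s' ≫ Spec.map (g.residueFieldMap s')) ≫ S.fromSpecResidueField (g s') :=
    sqP.w.trans (Category.assoc _ _ _).symm
  refine ⟨sqU.lift _ _ hw, sqU.lift_fst _ _ _, IsPullback.of_right ?_ (sqU.lift_snd _ _ _) sqU⟩
  rw [sqU.lift_fst]
  exact sqP

/-- Nodal families are stable under base change. -/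
theorem isNodalFamily_of_isPullback {f : X ⟶ S} {g : S' ⟶ S} {f' : X' ⟶ S'} {g' : X' ⟶ X}
    (h : IsPullback g' f' f g) (hf : Curv2.IsNodalFamily f) : Curv2.IsNodalFamily f' := by
  obtain ⟨hflat, hlfp, hfib⟩ := hf
  refine ⟨MorphismProperty.of_isPullback (P := @Flat) h hflat,
    MorphismProperty.of_isPullback (P := @LocallyOfFinitePresentation) h hlfp, fun s' => ?_⟩
  obtain ⟨hequi, hnod⟩ := hfib (g s')
  let k := S.residueField (g s')
  let K := S'.residueField s'
  let _ : Algebra k K := (g.residueFieldMap s').hom.toAlgebra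
  let iF : (f.fiber (g s')).Over (Spec (CommRingCat.of k)) := ⟨f.fiberToSpecResidueField (g s')⟩
  let iF' : (f'.fiber s').Over (Spec (CommRingCat.of K)) := ⟨f'.fiberToSpecResidueField s'⟩
  let B := Curv2.bc k (f.fiber (g s')) K
  let iB : B.Over (Spec (CommRingCat.of K)) := ⟨Curv2.bcSnd k (f.fiber (g s')) K⟩
  have hF : LocallyOfFiniteType ((f.fiber (g s')) ↘ Spec (CommRingCat.of k)) :=
    (inferInstance : LocallyOfFiniteType (pullback.snd f (S.fromSpecResidueField (g s'))))
  have hB : LocallyOfFiniteType (B ↘ Spec (CommRingCat.of K)) :=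
    (inferInstance : LocallyOfFiniteType (pullback.snd ((f.fiber (g s')) ↘ Spec (CommRingCat.of k))
      (Spec.map (CommRingCat.ofHom (algebraMap k K)))))
  obtain ⟨ν, -, sqν⟩ := exists_fibre_bc h s'
  have sqB : IsPullback (Curv2.bcFst k (f.fiber (g s')) K) (Curv2.bcSnd k (f.fiber (g s')) K)
      (f.fiberToSpecResidueField (g s')) (Spec.map (g.residueFieldMap s')) := IsPullback.of_hasPullback _ _
  let i : f'.fiber s' ≅ B := sqν.isoIsPullback _ _ sqB
  have hi : i.hom ≫ (B ↘ Spec (CommRingCat.of K)) = (f'.fiber s') ↘ Spec (CommRingCat.of K) :=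
    IsPullback.isoIsPullback_hom_snd _ _ _ _
  obtain ⟨hequiB, hnodB⟩ := nodal_bc k (f.fiber (g s')) K hequi hnod
  exact atWorstNodal_of_etale K B hequiB hnodB i.hom hi

/-- A union of opens on which the morphism is a nodal family is one. -/
theorem isNodalFamily_of_opens (f : X ⟶ S) (U : X.Opens) {ι : Type u} (V : ι → X.Opens) (hle : ∀ i, V i ≤ U)
    (hcov : ∀ x ∈ U, ∃ i, x ∈ V i) (h : ∀ i, Curv2.IsNodalFamily ((V i).ι ≫ f)) :
    Curv2.IsNodalFamily (U.ι ≫ f) := by
  refine S1593.result (U.ι ≫ f) ι (fun i => (V i : Scheme.{u})) (fun i => X.homOfLE (hle i)) ?_ ?_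
  · rintro ⟨x, hx⟩
    obtain ⟨i, hi⟩ := hcov x hx
    refine ⟨i, ⟨x, hi⟩, ?_⟩
    apply U.ι.isEmbedding.injective
    rw [← Scheme.Hom.comp_apply, Scheme.homOfLE_ι]
    rfl
  · intro i
    rw [← Category.assoc, Scheme.homOfLE_ι]
    exact h i

/-- A nodal family smooth of some relative dimension on a nonempty source has relative dimension one. -/
theorem relDim_eq_one (f : X ⟶ S) (n : ℕ) [SmoothOfRelativeDimension n f] (hf : Curv2.IsNodalFamily f) (x : X) :
    n = 1 := by
  have : SmoothOfRelativeDimension n (f.fiberToSpecResidueField (f x)) :=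
    have := smoothOfRelativeDimension_isStableUnderBaseChange n
    MorphismProperty.pullback_snd _ _ inferInstance
  have hZ := irreducibleComponent_mem_irreducibleComponents (f.asFiber x)
  have h1 := @Var76.SmoothFibre.dim_component (↑(S.residueField (f x)) : Type u) _ (f.fiber (f x))
    (f.fiberToSpecResidueField (f x)) n ‹_› _ hZ
  rw [(hf.2.2 (f x)).1 _ hZ] at h1
  exact_mod_cast h1.symm

/-- A point of a base change with a nodal neighbourhood maps to a point with a nodal neighbourhood. -/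
theorem exists_nodal_nhd_of_bc {f : X ⟶ S} [Flat f] [LocallyOfFinitePresentation f] {g : S' ⟶ S}
    {f' : X' ⟶ S'} {g' : X' ⟶ X} (h : IsPullback g' f' f g) (V : X'.Opens)
    (hV : Curv2.IsNodalFamily (V.ι ≫ f')) (v : V) :
    ∃ W : X.Opens, g' (V.ι v) ∈ W ∧ Curv2.IsNodalFamily (W.ι ≫ f) := by
  have : Flat f' := MorphismProperty.of_isPullback (P := @Flat) h ‹_›
  have : LocallyOfFinitePresentation f' := MorphismProperty.of_isPullback (P := @LocallyOfFinitePresentation) h ‹_›
  obtain ⟨ν, hν, sqν⟩ := exists_fibre_bc h (f' (V.ι v))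
  let z := f'.asFiber (V.ι v)
  have hx : f.fiberι (g (f' (V.ι v))) (ν z) = g' (V.ι v) := by
    rw [← Scheme.Hom.comp_apply, hν, Scheme.Hom.comp_apply, Scheme.Hom.fiberι_asFiber]
  rcases good_of_opens f' V v (good_of_nodalFamily _ hV v) with hU | hn
  · have hs : V.ι v ∈ f'.smoothLocus := (Scheme.Hom.mem_smoothLocus).2 ((Unr55.exists_smooth_iff f' _).1 hU)
    have hz : z ∈ (f'.fiberToSpecResidueField (f' (V.ι v))).smoothLocus := by
      rw [smoothLocus_fibre_iff, Scheme.Hom.fiberι_asFiber]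
      exact hs
    have : Flat (Spec.map (g.residueFieldMap (f' (V.ι v)))) := flat_specMap_field _
    rw [Open62.smoothLocus_of_isPullback_flat sqν] at hz
    have hfx : g' (V.ι v) ∈ f.smoothLocus := by
      rw [← hx]
      exact (smoothLocus_fibre_iff f _ _).1 hz
    obtain ⟨n, U, hxU, hsm, hn⟩ := exists_smoothRelDim_nhd f _ hfx
    have hvs : v ∈ (V.ι ≫ f').smoothLocus := by
      rw [← Scheme.Hom.preimage_smoothLocus_eq]
      exact hs
    have : LocallyOfFinitePresentation (V.ι ≫ f') := inferInstance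
    obtain ⟨m, U', hvU', hsm', hm⟩ := exists_smoothRelDim_nhd (V.ι ≫ f') v hvs
    have hm1 : m = 1 := relDim_eq_one (U'.ι ≫ V.ι ≫ f') m (S1592.result _ hV U'.ι) ⟨v, hvU'⟩
    have h1 : FlatMor.fibreDimAt f (g' (V.ι v)) = (m : WithBot ℕ∞) :=
      ((FibDim94.fibreDimAt_eq_of_isPullback h (V.ι v)).symm.trans
        (Desc59.EtaleDim.fibreDimAt_eq f' (V.ι ≫ f') V.ι (𝟙 _) (Category.comp_id _) v)).trans hm
    have hn1 : n = 1 := by
      rw [hn] at h1
      exact (by exact_mod_cast h1 : n = m).trans hm1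
    subst hn1
    exact ⟨U, hxU, isNodalFamily_of_smooth_one _⟩
  · refine exists_nodal_nhd_of_node f _ ?_
    rw [← hx]
    refine (nodeAt_iff f _ _).2 ?_
    let _ : Algebra (S.residueField (g (f' (V.ι v)))) (S'.residueField (f' (V.ι v))) :=
      (g.residueFieldMap (f' (V.ι v))).hom.toAlgebra
    let iF : (f.fiber (g (f' (V.ι v)))).Over (Spec (CommRingCat.of (S.residueField (g (f' (V.ι v)))))) :=
      ⟨f.fiberToSpecResidueField (g (f' (V.ι v)))⟩
    let iF' : (f'.fiber (f' (V.ι v))).Over (Spec (CommRingCat.of (S'.residueField (f' (V.ι v))))) :=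
      ⟨f'.fiberToSpecResidueField (f' (V.ι v))⟩
    have : LocallyOfFiniteType ((f.fiber (g (f' (V.ι v)))) ↘ Spec (CommRingCat.of (S.residueField (g (f' (V.ι v)))))) :=
      (inferInstance : LocallyOfFiniteType (pullback.snd f (S.fromSpecResidueField (g (f' (V.ι v))))))
    exact (isNode_iff_of_isPullback (k := (S.residueField (g (f' (V.ι v))) : Type u))
      (K := (S'.residueField (f' (V.ι v)) : Type u)) ν sqν z).2 hn

end Groth.Agent.Node12.Loc
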