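import Groth.Agent.Node12.Quad
import Groth.Agent.Unr55.Coordinates
import Mathlib.RingTheory.Etale.Field
import Mathlib.RingTheory.Smooth.Basic
import Mathlib.RingTheory.Unramified.Basic
import Mathlib.LinearAlgebra.Dual.Lemmas

/-!
# Coordinates at a quadratic point of a fibre
-/

set_option autoImplicit false
set_option linter.style.haveILetI false
set_option maxHeartbeats 1600000
set_option synthInstance.maxHeartbeats 100000
set_option backward.isDefEq.respectTransparency.types false

universe u

open IsLocalRing TensorProduct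

noncomputable section

namespace Groth.Agent.Node12.Loc

variable (k A : Type u) [CommRing k] [CommRing A] [IsLocalRing A] [IsNoetherianRing A] [Algebra k A]

/-- A derivation to the residue field separating two generators of the maximal ideal. -/
theorem exists_derivation [Algebra.FormallySmooth k (ResidueField A)] {x y : A}
    (hm : maximalIdeal A = Ideal.span {x, y}) (hpr : ∀ g, maximalIdeal A ≠ Ideal.span {g}) :
    ∃ D : Derivation k A (ResidueField A), D x = 1 ∧ D y = 0 := by
  have hxm : x ∈ maximalIdeal A := hm ▸ Ideal.subset_span (by simp)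
  have hym : y ∈ maximalIdeal A := hm ▸ Ideal.subset_span (by simp)
  let I : Ideal A := Ideal.span {y} ⊔ maximalIdeal A ^ 2
  let B := A ⧸ I
  let K := ResidueField A
  have hI : I ≤ maximalIdeal A :=
    sup_le ((Ideal.span_singleton_le_iff_mem _).2 hym) (Ideal.pow_le_self two_ne_zero)
  let π : B →ₐ[k] K := Ideal.Quotient.liftₐ I (IsScalarTower.toAlgHom k A K) fun a ha =>
    (residue_eq_zero_iff a).2 (hI ha)
  have hπ : Function.Surjective π := fun c => by
    obtain ⟨a, rfl⟩ := residue_surjective c
    exact ⟨Ideal.Quotient.mk I a, rfl⟩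
  have hker : RingHom.ker (π : B →+* K) = (maximalIdeal A).map (Ideal.Quotient.mk I) := by
    refine le_antisymm (fun b hb => ?_) (Ideal.map_le_iff_le_comap.2 fun a ha => (residue_eq_zero_iff a).2 ha)
    obtain ⟨a, rfl⟩ := Ideal.Quotient.mk_surjective b
    exact Ideal.mem_map_of_mem _ ((residue_eq_zero_iff a).1 hb)
  have hsq : RingHom.ker (π : B →+* K) ^ 2 = ⊥ := by
    rw [hker, ← Ideal.map_pow, Ideal.map_eq_bot_iff_le_ker, Ideal.mk_ker]
    exact le_sup_right
  let s : K →ₐ[k] B := Algebra.FormallySmooth.liftOfSurjective (AlgHom.id k K) π hπ ⟨2, hsq⟩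
  have hs : ∀ c, π (s c) = c := Algebra.FormallySmooth.liftOfSurjective_apply _ _ _ _
  let xb : B := Ideal.Quotient.mk I x
  have hxb : ∀ b ∈ RingHom.ker (π : B →+* K), xb * b = 0 := fun b hb => by
    have h1 : xb * b ∈ RingHom.ker (π : B →+* K) ^ 2 := by
      rw [pow_two]
      exact Ideal.mul_mem_mul (hker ▸ Ideal.mem_map_of_mem _ hxm) hb
    rwa [hsq, Ideal.mem_bot] at h1
  have hxne : xb ≠ 0 := fun h => by
    refine hpr y (le_antisymm (le_span_of_le_sup_sq ?_) ((Ideal.span_singleton_le_iff_mem _).2 hym))
    rw [← pow_two]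
    conv_lhs => rw [hm]
    refine Ideal.span_le.2 ?_
    rintro a (rfl | rfl)
    · exact Ideal.Quotient.eq_zero_iff_mem.1 h
    · exact Ideal.mem_sup_left (Ideal.mem_span_singleton_self _)
  let E : K →ₗ[k] B :=
    { toFun := fun c => s c * xb
      map_add' := fun a b => by rw [map_add, add_mul]
      map_smul' := fun t a => by rw [map_smul, smul_mul_assoc, RingHom.id_apply] }
  have hE : Function.Injective E := by
    rw [injective_iff_map_eq_zero]
    intro c hc
    by_contra h0
    have hc' : s c * xb = 0 := hc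
    exact hxne (((IsUnit.mk0 c h0).map s).mul_right_eq_zero.1 hc')
  have hex : ∀ a : A, ∃ c : K, E c = Ideal.Quotient.mk I a - s (residue A a) := fun a => by
    have h1 : Ideal.Quotient.mk I a - s (residue A a) ∈ RingHom.ker (π : B →+* K) := by
      show π (Ideal.Quotient.mk I a - s (residue A a)) = 0
      rw [map_sub, hs]
      exact sub_self _
    obtain ⟨t, ht, hta⟩ := Ideal.mem_map_iff_of_surjective _ Ideal.Quotient.mk_surjective |>.1 (hker ▸ h1)
    rw [hm, Ideal.mem_span_pair] at ht
    obtain ⟨r, r', rfl⟩ := ht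
    refine ⟨residue A r, ?_⟩
    rw [← hta, map_add, map_mul, map_mul,
      show Ideal.Quotient.mk I y = 0 from
        Ideal.Quotient.eq_zero_iff_mem.2 (Ideal.mem_sup_left (Ideal.mem_span_singleton_self _)), mul_zero, add_zero]
    have h2 : Ideal.Quotient.mk I r - s (residue A r) ∈ RingHom.ker (π : B →+* K) := by
      show π (Ideal.Quotient.mk I r - s (residue A r)) = 0
      rw [map_sub, hs]
      exact sub_self _
    have h3 := hxb _ h2
    rw [mul_sub, sub_eq_zero] at h3
    show s (residue A r) * xb = _
    rw [mul_comm, ← h3, mul_comm]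
  choose d hd using hex
  refine ⟨Derivation.mk' { toFun := d, map_add' := fun a b => hE ?_, map_smul' := fun t a => hE ?_ } ?_, hE ?_, hE ?_⟩
  · rw [map_add, hd, hd, hd, map_add, map_add, map_add]; ring
  · rw [map_smul, hd, hd, show residue A (t • a) = t • residue A a from map_smul (IsScalarTower.toAlgHom k A K) t a,
      map_smul s, RingHom.id_apply, smul_sub]
    rfl
  · intro a b
    refine hE ?_
    have hsm : ∀ (z : A) (c : K), E (z • c) = s (residue A z) * E c := fun z c => by
      show s (z • c) * xb = s (residue A z) * (s c * xb)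
      rw [Algebra.smul_def, ResidueField.algebraMap_eq, map_mul, mul_assoc]
    show E (d (a * b)) = E (a • d b + b • d a)
    rw [map_add, hsm, hsm, hd, hd, hd, map_mul, map_mul, map_mul]
    have ha : Ideal.Quotient.mk I a - s (residue A a) ∈ RingHom.ker (π : B →+* K) := by
      show π (_ - _) = 0; rw [map_sub, hs]; exact sub_self _
    have hb : Ideal.Quotient.mk I b - s (residue A b) ∈ RingHom.ker (π : B →+* K) := by
      show π (_ - _) = 0; rw [map_sub, hs]; exact sub_self _
    have h1 : (Ideal.Quotient.mk I a - s (residue A a)) * (Ideal.Quotient.mk I b - s (residue A b)) = 0 := by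
      rw [← Ideal.mem_bot, ← hsq, pow_two]; exact Ideal.mul_mem_mul ha hb
    linear_combination h1
  · show E (d x) = E 1
    rw [hd, (residue_eq_zero_iff x).2 hxm, map_zero, sub_zero]
    show xb = s 1 * xb
    rw [map_one, one_mul]
  · show E (d y) = E 0
    rw [hd, (residue_eq_zero_iff y).2 hym, map_zero, sub_zero, map_zero]
    exact Ideal.Quotient.eq_zero_iff_mem.2 (Ideal.mem_sup_left (Ideal.mem_span_singleton_self _))

end Groth.Agent.Node12.Loc

namespace Groth.Agent.Node12.Loc

variable {R S : Type u} [CommRing R] [CommRing S] [Algebra R S] [Algebra.FinitePresentation R S]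
  (Q : Ideal S) [Q.IsPrime] (I : Ideal S)
  {k A : Type u} [Field k] [Algebra R k] [CommRing A] [IsLocalRing A] [IsNoetherianRing A] [Algebra R A]
  [Algebra k A] [IsScalarTower R k A]

/-- At a quadratic point of a fibre with separable residue field, finitely many equations and two
preimages of generators of the maximal ideal form etale coordinates of the ambient space. -/
theorem exists_coordinates (hsm : Algebra.IsSmoothAt R Q) [Algebra.FormallyUnramified R k] [Algebra.IsSeparable k (ResidueField A)]
    (φ : Localization.AtPrime Q →ₐ[R] A) (hφ : Function.Surjective φ)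
    (hker : RingHom.ker φ.toRingHom =
      (I ⊔ (Q.comap (algebraMap R S)).map (algebraMap R S)).map (algebraMap S (Localization.AtPrime Q)))
    {x y : A} (hm : maximalIdeal A = Ideal.span {x, y}) (hpr : ∀ g, maximalIdeal A ≠ Ideal.span {g}) :
    ∃ (r : ℕ) (g : Fin r → S) (u v : S), (∀ i, g i ∈ I) ∧ u ∈ Q ∧ v ∈ Q ∧
      maximalIdeal A = Ideal.span {φ (algebraMap S _ u), φ (algebraMap S _ v)} ∧
      ∃ f ∉ Q, (MvPolynomial.aeval (fun j => algebraMap S (Localization.Away f) (Sum.elim g ![u, v] j)) :
        MvPolynomial (Fin r ⊕ Fin 2) R →ₐ[R] Localization.Away f).toRingHom.Etale := by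
  classical
  let L := Localization.AtPrime Q
  let κ := ResidueField L
  let K := ResidueField A
  have : IsLocalHom φ.toRingHom := IsLocalHom.of_surjective φ.toRingHom hφ
  -- numerators of the generators
  have hnum : ∀ a ∈ maximalIdeal A, ∃ a' ∈ Q, ∃ w : A, IsUnit w ∧ φ (algebraMap S L a') = w * a := by
    intro a ha
    obtain ⟨l, rfl⟩ := hφ a
    obtain ⟨⟨a', w⟩, e⟩ := IsLocalization.surj Q.primeCompl l
    refine ⟨a', ?_, φ (algebraMap S L w), (IsLocalization.map_units L w).map φ, ?_⟩
    · refine (IsLocalization.AtPrime.to_map_mem_maximal_iff L Q a').1 ?_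
      rw [← e]
      exact Ideal.mul_mem_right _ _ ((mem_maximalIdeal _).2 fun hu => (mem_maximalIdeal _).1 ha (hu.map φ))
    · rw [← e, map_mul, mul_comm]
  obtain ⟨u, huQ, wu, hwu, hu⟩ := hnum x (hm ▸ Ideal.subset_span (by simp))
  obtain ⟨v, hvQ, wv, hwv, hv⟩ := hnum y (hm ▸ Ideal.subset_span (by simp))
  have hm' : maximalIdeal A = Ideal.span {φ (algebraMap S L u), φ (algebraMap S L v)} := by
    rw [hm, hu, hv, Ideal.span_insert, Ideal.span_insert, Ideal.span_singleton_mul_left_unit hwu,
      Ideal.span_singleton_mul_left_unit hwv]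
  have : Algebra.FormallyEtale k K := Algebra.FormallyEtale.of_isSeparable k K
  have : Algebra.FormallyUnramified R K := Algebra.FormallyUnramified.comp R k K
  -- the residue field of the fibre as a module over the local ring
  let res : L →+* K := (residue A).comp φ.toRingHom
  letI : Algebra L K := res.toAlgebra
  have : IsScalarTower R L K := IsScalarTower.of_algebraMap_eq fun t => by
    show algebraMap R K t = residue A (φ (algebraMap R L t))
    rw [φ.commutes]
    rfl
  have hres : ∀ l : L, algebraMap L K l = residue A (φ l) := fun l => rfl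
  have hres0 : ∀ l ∈ maximalIdeal L, algebraMap L K l = 0 := fun l hl => by
    rw [hres]
    exact (residue_eq_zero_iff _).2 (map_nonunit φ.toRingHom l hl)
  let ι : κ →ₗ[L] K :=
    { toFun := ResidueField.map φ.toRingHom
      map_add' := fun a b => map_add _ a b
      map_smul' := fun l a => by
        obtain ⟨a, rfl⟩ := residue_surjective a
        show ResidueField.map φ.toRingHom (residue L (l * a)) = algebraMap L K l * residue A (φ a)
        rw [hres, ← map_mul, ← map_mul]
        rfl }
  have hι : Function.Injective ι := (ResidueField.map φ.toRingHom).injective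
  have hιone : ι 1 = 1 := map_one (ResidueField.map φ.toRingHom)
  -- the differentials killed on the equations
  let V := κ ⊗[L] Ω[L⁄R]
  let T : Set V := Unr55.Coord.δ R Q '' (I : Set S)
  obtain ⟨b, hbT, hbspan, hbli⟩ := exists_linearIndependent κ T
  have hbfin : b.Finite := hbli.setFinite
  have := hbfin.fintype
  let r := Fintype.card b
  let eb := (Fintype.equivFin b).symm
  choose pre hpre hpre' using fun z : b => hbT z.2
  let g : Fin r → S := fun i => pre (eb i)
  have hgI : ∀ i, g i ∈ I := fun i => hpre (eb i)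
  have hgδ : ∀ i, Unr55.Coord.δ R Q (g i) = (eb i : V) := fun i => hpre' (eb i)
  have hspan : Submodule.span κ (Set.range fun i => Unr55.Coord.δ R Q (g i)) = Submodule.span κ T := by
    rw [← hbspan]
    congr 1
    ext z
    simp only [hgδ, Set.mem_range]
    exact ⟨fun ⟨i, hi⟩ => hi ▸ (eb i).2, fun hz => ⟨eb.symm ⟨z, hz⟩, by rw [Equiv.apply_symm_apply]⟩⟩
  -- evaluation of derivations of the fibre
  have hkill : ∀ a ∈ I, φ (algebraMap S L a) = 0 := fun a ha => by
    show φ.toRingHom (algebraMap S L a) = 0
    rw [← RingHom.mem_ker, hker]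
    exact Ideal.mem_map_of_mem _ (Ideal.mem_sup_left ha)
  have hΨ : ∀ D : Derivation R A K, ∃ Ψ : V →ₗ[L] K, ∀ (c : κ) (s : S),
      Ψ (c • Unr55.Coord.δ R Q s) = ι c * D (φ (algebraMap S L s)) := by
    intro D
    let d : Derivation R L K := Derivation.mk' (D.toLinearMap ∘ₗ φ.toLinearMap) fun a c => by
      show D (φ (a * c)) = algebraMap L K a * D (φ c) + algebraMap L K c * D (φ a)
      rw [map_mul, Derivation.leibniz, Algebra.smul_def, Algebra.smul_def]
      rfl
    refine ⟨TensorProduct.lift ((LinearMap.mul L K).compl₂ d.liftKaehlerDifferential ∘ₗ ι), fun c s => ?_⟩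
    simp only [Unr55.Coord.δ, TensorProduct.smul_tmul', smul_eq_mul, mul_one]
    show ι c * d.liftKaehlerDifferential (KaehlerDifferential.D R L (algebraMap S L s)) = _
    rw [Derivation.liftKaehlerDifferential_comp_D]
    rfl
  obtain ⟨Dx, hDx, hDx'⟩ := exists_derivation k A hm' hpr
  obtain ⟨Dy, hDy, hDy'⟩ := exists_derivation k A (x := φ (algebraMap S L v)) (y := φ (algebraMap S L u))
    (hm'.trans (by rw [Set.pair_comm])) hpr
  obtain ⟨Ψx, hΨx⟩ := hΨ (Dx.restrictScalars R)
  obtain ⟨Ψy, hΨy⟩ := hΨ (Dy.restrictScalars R)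
  have hT0 : ∀ (D : Derivation R A K) (Ψ : V →ₗ[L] K), (∀ (c : κ) (s : S),
      Ψ (c • Unr55.Coord.δ R Q s) = ι c * D (φ (algebraMap S L s))) → ∀ z ∈ Submodule.span κ T, Ψ z = 0 := by
    intro D Ψ hD z hz
    obtain ⟨c, hc, rfl⟩ := Submodule.mem_span_set.1 hz
    rw [Finsupp.sum, map_sum]
    refine Finset.sum_eq_zero fun w hw => ?_
    obtain ⟨s, hs, rfl⟩ := hc hw
    rw [hD, hkill s hs, map_zero, mul_zero]
  -- linear independence
  have hli : LinearIndependent κ (fun j => Unr55.Coord.δ R Q (Sum.elim g ![u, v] j)) := by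
    have e : (fun j => Unr55.Coord.δ R Q (Sum.elim g ![u, v] j)) =
        Sum.elim (fun i => Unr55.Coord.δ R Q (g i)) ![Unr55.Coord.δ R Q u, Unr55.Coord.δ R Q v] := by
      funext j
      rcases j with i | i
      · rfl
      · fin_cases i <;> rfl
    rw [e]
    have hxy : ∀ cu cv : κ, Ψx (cu • Unr55.Coord.δ R Q u + cv • Unr55.Coord.δ R Q v) = ι cu ∧
        Ψy (cu • Unr55.Coord.δ R Q u + cv • Unr55.Coord.δ R Q v) = ι cv := by
      intro cu cv
      rw [map_add, map_add, hΨx, hΨx, hΨy, hΨy, Derivation.restrictScalars_apply,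
        Derivation.restrictScalars_apply, Derivation.restrictScalars_apply, Derivation.restrictScalars_apply,
        hDx, hDx', hDy, hDy']
      simp
    refine LinearIndependent.sum_type ?_ ?_ ?_
    · have h1 : (fun i => Unr55.Coord.δ R Q (g i)) = (fun z : b => (z : V)) ∘ eb := funext hgδ
      rw [h1]
      exact hbli.comp _ eb.injective
    · rw [LinearIndependent.pair_iff]
      intro cu cv h0
      obtain ⟨h1, h2⟩ := hxy cu cv
      rw [h0, map_zero] at h1 h2
      exact ⟨hι (h1.symm.trans (map_zero ι).symm), hι (h2.symm.trans (map_zero ι).symm)⟩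
    · rw [Submodule.disjoint_def]
      intro z hz hz'
      rw [hspan] at hz
      rw [Matrix.range_cons, Matrix.range_cons, Matrix.range_empty, Set.union_empty, Set.singleton_union,
        Submodule.mem_span_pair] at hz'
      obtain ⟨cu, cv, rfl⟩ := hz'
      obtain ⟨h1, h2⟩ := hxy cu cv
      rw [hT0 _ _ hΨx _ hz] at h1
      rw [hT0 _ _ hΨy _ hz] at h2
      rw [hι (h1.symm.trans (map_zero ι).symm), hι (h2.symm.trans (map_zero ι).symm), zero_smul, zero_smul, add_zero]
  -- spanning
  have hall : Submodule.span κ (Set.range fun j => Unr55.Coord.δ R Q (Sum.elim g ![u, v] j)) = ⊤ := by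
    by_contra hne
    obtain ⟨ψ, hψ0, hψ⟩ := Submodule.exists_dual_map_eq_bot_of_lt_top (lt_top_iff_ne_top.2 hne) inferInstance
    have hψj : ∀ j, ψ (Unr55.Coord.δ R Q (Sum.elim g ![u, v] j)) = 0 := fun j => by
      have h1 := Submodule.mem_map_of_mem (f := ψ) (Submodule.subset_span (R := κ)
        (show Unr55.Coord.δ R Q (Sum.elim g ![u, v] j) ∈ Set.range (fun j => Unr55.Coord.δ R Q (Sum.elim g ![u, v] j))
          from ⟨j, rfl⟩))
      rw [hψ, Submodule.mem_bot] at h1
      exact h1
    let d : Derivation R L K :=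
      (ι ∘ₗ (ψ.restrictScalars L) ∘ₗ TensorProduct.mk L κ Ω[L⁄R] 1).compDer (KaehlerDifferential.D R L)
    have hdδ : ∀ s : S, d (algebraMap S L s) = ι (ψ (Unr55.Coord.δ R Q s)) := fun s => rfl
    have hdI : ∀ s ∈ I, d (algebraMap S L s) = 0 := fun s hs => by
      have h1 : Unr55.Coord.δ R Q s ∈ Submodule.span κ (Set.range fun i => Unr55.Coord.δ R Q (g i)) :=
        hspan.ge (Submodule.subset_span ⟨s, hs, rfl⟩)
      have h2 : Submodule.span κ (Set.range fun i => Unr55.Coord.δ R Q (g i)) ≤ LinearMap.ker ψ :=
        Submodule.span_le.2 (Set.range_subset_iff.2 fun i => hψj (Sum.inl i))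
      rw [hdδ, LinearMap.mem_ker.1 (h2 h1), map_zero]
    have hdker : ∀ l : L, φ l = 0 → d l = 0 := by
      intro l hl
      have hl' : l ∈ RingHom.ker φ.toRingHom := hl
      rw [hker, Ideal.map_sup, sup_comm, Ideal.map_map, ← IsScalarTower.algebraMap_eq] at hl'
      have hle : ∀ a ∈ (I.map (algebraMap S L)), algebraMap L K a = 0 ∧ d a = 0 := by
        intro a ha
        refine Submodule.span_induction (p := fun a _ => algebraMap L K a = 0 ∧ d a = 0) ?_ ?_ ?_ ?_ ha
        · rintro _ ⟨s, hs, rfl⟩
          refine ⟨?_, hdI s hs⟩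
          rw [hres, hkill s hs, map_zero]
        · exact ⟨map_zero _, map_zero _⟩
        · rintro a c - - ⟨h1, h2⟩ ⟨h3, h4⟩
          exact ⟨by rw [map_add, h1, h3, add_zero], by rw [map_add, h2, h4, add_zero]⟩
        · rintro t a - ⟨h1, h2⟩
          refine ⟨by rw [smul_eq_mul, map_mul, h1, mul_zero], ?_⟩
          rw [smul_eq_mul, Derivation.leibniz, h2, smul_zero, zero_add, Algebra.smul_def, h1, zero_mul]
      have hle' : ∀ a ∈ ((Q.comap (algebraMap R S)).map (algebraMap R L)), algebraMap L K a = 0 ∧ d a = 0 := by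
        intro a ha
        refine Submodule.span_induction (p := fun a _ => algebraMap L K a = 0 ∧ d a = 0) ?_ ?_ ?_ ?_ ha
        · rintro _ ⟨t, ht, rfl⟩
          refine ⟨hres0 _ ?_, Derivation.map_algebraMap _ _⟩
          rw [IsScalarTower.algebraMap_apply R S L]
          exact (IsLocalization.AtPrime.to_map_mem_maximal_iff L Q _).2 ht
        · exact ⟨map_zero _, map_zero _⟩
        · rintro a c - - ⟨h1, h2⟩ ⟨h3, h4⟩
          exact ⟨by rw [map_add, h1, h3, add_zero], by rw [map_add, h2, h4, add_zero]⟩
        · rintro t a - ⟨h1, h2⟩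
          refine ⟨by rw [smul_eq_mul, map_mul, h1, mul_zero], ?_⟩
          rw [smul_eq_mul, Derivation.leibniz, h2, smul_zero, zero_add, Algebra.smul_def, h1, zero_mul]
      obtain ⟨a, ha, c, hc, rfl⟩ := Submodule.mem_sup.1 hl'
      rw [map_add, (hle' a ha).2, (hle c hc).2, add_zero]
    have hdm : ∀ l ∈ maximalIdeal L, d l = 0 := by
      intro l hl
      have h1 : φ l ∈ maximalIdeal A := map_nonunit φ.toRingHom l hl
      rw [hm', Ideal.mem_span_pair] at h1
      obtain ⟨a, c, hac⟩ := h1
      obtain ⟨a, rfl⟩ := hφ a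
      obtain ⟨c, rfl⟩ := hφ c
      have h2 : φ (l - (a * algebraMap S L u + c * algebraMap S L v)) = 0 := by
        rw [map_sub, map_add, map_mul, map_mul, hac, sub_self]
      have h3 := hdker _ h2
      rw [map_sub, sub_eq_zero] at h3
      have hu0 : d (algebraMap S L u) = 0 := by rw [hdδ, show ψ (Unr55.Coord.δ R Q u) = 0 from hψj (Sum.inr 0), map_zero]
      have hv0 : d (algebraMap S L v) = 0 := by rw [hdδ, show ψ (Unr55.Coord.δ R Q v) = 0 from hψj (Sum.inr 1), map_zero]
      rw [h3, map_add, Derivation.leibniz, Derivation.leibniz, hu0, hv0, smul_zero, zero_add, smul_zero,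
        zero_add, Algebra.smul_def, Algebra.smul_def,
        hres0 _ ((IsLocalization.AtPrime.to_map_mem_maximal_iff L Q _).2 huQ),
        hres0 _ ((IsLocalization.AtPrime.to_map_mem_maximal_iff L Q _).2 hvQ), zero_mul, zero_mul, add_zero]
    have hres' : Function.Surjective (algebraMap L K) := fun c => by
      obtain ⟨a, rfl⟩ := residue_surjective c
      obtain ⟨l, rfl⟩ := hφ a
      exact ⟨l, rfl⟩
    choose sec hsec using hres'
    have hdc : ∀ l l' : L, algebraMap L K l = algebraMap L K l' → d l = d l' := by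
      intro l l' h
      rw [← sub_eq_zero, ← map_sub]
      refine hdm _ ((mem_maximalIdeal _).2 fun hu => ?_)
      have := hu.map (algebraMap L K)
      rw [map_sub, h, sub_self] at this
      exact not_isUnit_zero this
    have hdall : ∀ l, d l = 0 := by
      let dK : Derivation R K K := Derivation.mk'
        { toFun := fun c => d (sec c)
          map_add' := fun a c => by rw [← map_add]; exact hdc _ _ (by rw [hsec, map_add, hsec, hsec])
          map_smul' := fun t a => by
            rw [RingHom.id_apply, ← Derivation.map_smul]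
            exact hdc _ _ (by rw [hsec, Algebra.smul_def, Algebra.smul_def, map_mul, hsec,
              ← IsScalarTower.algebraMap_apply]) } fun a c => by
        show d (sec (a * c)) = a * d (sec c) + c * d (sec a)
        rw [hdc (sec (a * c)) (sec a * sec c) (by rw [hsec, map_mul, hsec, hsec]), Derivation.leibniz,
          Algebra.smul_def, Algebra.smul_def, hsec, hsec]
      have h0 : dK.liftKaehlerDifferential = 0 := LinearMap.ext fun z => by
        rw [Subsingleton.elim z 0, map_zero, map_zero]
      intro l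
      have h1 : dK (algebraMap L K l) = 0 := by
        rw [← Derivation.liftKaehlerDifferential_comp_D dK, h0, LinearMap.zero_apply]
      exact (hdc _ _ (hsec _).symm).trans h1
    refine hψ0 (LinearMap.ext_on_range (Unr55.Coord.span_range_δ R Q) fun s => ?_)
    exact hι (((hdδ s).symm.trans (hdall _)).trans (map_zero ι).symm)
  obtain ⟨f, hf, het⟩ := Unr55.Coord.exists_etale_aeval R Q hsm (Sum.elim g ![u, v]) hli hall
  exact ⟨r, g, u, v, hgI, huQ, hvQ, hm', f, hf, het⟩

end Groth.Agent.Node12.Loc
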