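import Groth.Agent.Node12.Loc.CplNode
import Groth.Agent.FlatMor68.FibreStalk
import Groth.Agent.Curves2.NodePoint
import Groth.Prelude.Def_Curv2
import Mathlib.AlgebraicGeometry.Morphisms.FiniteType
import Mathlib.RingTheory.EssentialFiniteness

/-!
# Completion of a flat morphism at a rational node of a fibre
-/

set_option autoImplicit false
set_option linter.style.haveILetI false
set_option maxHeartbeats 1600000
set_option synthInstance.maxHeartbeats 100000
set_option backward.isDefEq.respectTransparency.types false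

universe u

open CategoryTheory Limits AlgebraicGeometry IsLocalRing

noncomputable section

namespace Groth.Agent.Node12.Loc

/-- The quotient map from a local ring to the local ring of the fibre. -/
theorem exists_fibre_quot {T S : Scheme.{u}} (f : T ⟶ S) (s : S) (z : f.fiber s) (x : T) (hzx : f.fiberι s z = x) :
    ∃ π : T.presheaf.stalk x ⟶ (f.fiber s).presheaf.stalk z, Function.Surjective π ∧
      RingHom.ker π.hom = (maximalIdeal (S.presheaf.stalk (f x))).map (f.stalkMap x).hom ∧
      Spec.map π ≫ T.fromSpecStalk x = (f.fiber s).fromSpecStalk z ≫ f.fiberι s := by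
  subst hzx
  exact ⟨(f.fiberι s).stalkMap z, FlatMor68.FibreStalk.fiberι_stalkMap_surjective f s z,
    FlatMor68.FibreStalk.ker_fiberι_stalkMap f s z, Scheme.SpecMap_stalkMap_fromSpecStalk _⟩

/-- Local rings over a Noetherian local ring of the base are Noetherian. -/
theorem isNoetherianRing_stalk_of_lft {T S : Scheme.{u}} (f : T ⟶ S) [LocallyOfFiniteType f] (t : T)
    [IsNoetherianRing (S.presheaf.stalk (f t))] : IsNoetherianRing (T.presheaf.stalk t) := by
  algebraize [(f.stalkMap t).hom]
  have : Algebra.EssFiniteType (S.presheaf.stalk (f t)) (T.presheaf.stalk t) := by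
    rw [← RingHom.essFiniteType_algebraMap, RingHom.algebraMap_toAlgebra]
    exact LocallyOfFiniteType.stalkMap f t
  exact Algebra.EssFiniteType.isNoetherianRing (S.presheaf.stalk (f t)) (T.presheaf.stalk t)

section Fibre

attribute [local instance] Curv2.stalkAlgebra

/-- The completion at a rational node of a fibre of a flat morphism. -/
theorem exists_cpl_family {T S : Scheme.{u}} (f : T ⟶ S) [LocallyOfFiniteType f] (t : T)
    [IsNoetherianRing (S.presheaf.stalk (f t))] (hfl : (f.stalkMap t).hom.Flat)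
    (a b c : S.residueField (f t)) (hd : b ^ 2 - 4 * a * c ≠ 0)
    (e : Curv2.cpl ((f.fiber (f t)).presheaf.stalk (f.asFiber t)) ≃+*
      (MvPowerSeries (Fin 2) (S.residueField (f t)) ⧸ Ideal.span {quadSer a b c}))
    (he : letI : (f.fiber (f t)).Over (Spec (CommRingCat.of (S.residueField (f t)))) :=
        ⟨f.fiberToSpecResidueField (f t)⟩
      ∀ r : S.residueField (f t), e (algebraMap _ _
        (Curv2.stalkMap (S.residueField (f t)) (f.fiber (f t)) (f.asFiber t) r)) =
          Ideal.Quotient.mk _ (MvPowerSeries.C r)) :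
    ∃ a' b' c' : Curv2.cpl (S.presheaf.stalk (f t)),
      (∀ (ρ : Curv2.cpl (S.presheaf.stalk (f t)) →+* S.residueField (f t)),
        (∀ r, ρ (algebraMap _ _ r) = residue (S.presheaf.stalk (f t)) r) → ρ a' = a ∧ ρ b' = b ∧ ρ c' = c) ∧
      IsUnit (b' ^ 2 - 4 * a' * c') ∧
      ∃ h ∈ maximalIdeal (Curv2.cpl (S.presheaf.stalk (f t))),
        ∃ E : Curv2.cpl (T.presheaf.stalk t) ≃+*
            MvPowerSeries (Fin 2) (Curv2.cpl (S.presheaf.stalk (f t))) ⧸
              Ideal.span {quadSer a' b' c' - MvPowerSeries.C h},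
          ∀ r, E (algebraMap (T.presheaf.stalk t) _ ((f.stalkMap t).hom r)) =
            Ideal.Quotient.mk _ (MvPowerSeries.C (algebraMap _ _ r)) := by
  let iF : (f.fiber (f t)).Over (Spec (CommRingCat.of (S.residueField (f t)))) :=
    ⟨f.fiberToSpecResidueField (f t)⟩
  have := isNoetherianRing_stalk_of_lft f t
  haveI : IsLocalHom (f.stalkMap t).hom := f.toLRSHom.prop t
  obtain ⟨π, hπ, hker, hspec⟩ := exists_fibre_quot f (f t) (f.asFiber t) t (f.fiberι_asFiber t)
  let sA : S.residueField (f t) ⟶ (f.fiber (f t)).presheaf.stalk (f.asFiber t) :=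
    CommRingCat.ofHom (Curv2.stalkMap (S.residueField (f t)) (f.fiber (f t)) (f.asFiber t))
  have hcomp : f.stalkMap t ≫ π = S.residue (f t) ≫ sA := by
    apply Spec.map_injective
    rw [← cancel_mono (S.fromSpecStalk (f t)), Spec.map_comp, Spec.map_comp, Category.assoc,
      Scheme.SpecMap_stalkMap_fromSpecStalk, reassoc_of% hspec, f.fiber_fac, Category.assoc]
    exact (Category.assoc _ _ _).symm.trans
      (congrArg (· ≫ S.fromSpecResidueField (f t)) (Curves2.fromSpecStalk_struct
        ((f.fiber (f t)) ↘ Spec (CommRingCat.of (S.residueField (f t)))) (f.asFiber t)))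
  refine exists_cpl_quad (O := S.presheaf.stalk (f t)) (f.stalkMap t).hom hfl π.hom hπ hker a b c hd e fun r => ?_
  rw [show π.hom ((f.stalkMap t).hom r) = sA.hom (S.residue (f t) r) from
    RingHom.congr_fun (congrArg CommRingCat.Hom.hom hcomp) r]
  exact he _

end Fibre

end Groth.Agent.Node12.Loc

namespace Groth.Agent.Node12.Loc

attribute [local instance] Curv2.stalkAlgebra

/-- The completion at a split node of a fibre of a flat morphism. -/
theorem exists_cpl_family_split {T S : Scheme.{u}} (f : T ⟶ S) [LocallyOfFiniteType f] (t : T)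
    [IsNoetherianRing (S.presheaf.stalk (f t))] (hfl : (f.stalkMap t).hom.Flat)
    (ht : @Curv2.IsOrdDoublePt (S.residueField (f t)) _ ((f.fiber (f t)).presheaf.stalk (f.asFiber t)) _
      (@Curv2.stalkAlgebra (S.residueField (f t)) _ (f.fiber (f t)) ⟨f.fiberToSpecResidueField (f t)⟩ (f.asFiber t)) _) :
    ∃ h ∈ maximalIdeal (Curv2.cpl (S.presheaf.stalk (f t))),
      ∃ E : Curv2.cpl (T.presheaf.stalk t) ≃+*
          (MvPowerSeries (Fin 2) (Curv2.cpl (S.presheaf.stalk (f t))) ⧸
            Ideal.span {(MvPowerSeries.X 0 * MvPowerSeries.X 1 - MvPowerSeries.C h :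
              MvPowerSeries (Fin 2) (Curv2.cpl (S.presheaf.stalk (f t))))}),
        ∀ r : S.presheaf.stalk (f t),
          E (algebraMap (T.presheaf.stalk t) _ ((f.stalkMap t).hom r)) =
            Ideal.Quotient.mk _ (MvPowerSeries.C (algebraMap _ _ r)) := by
  let iF : (f.fiber (f t)).Over (Spec (CommRingCat.of (S.residueField (f t)))) :=
    ⟨f.fiberToSpecResidueField (f t)⟩
  let k : Type u := S.residueField (f t)
  obtain ⟨e, he⟩ := ht
  have hI : Ideal.span {(MvPowerSeries.X 0 * MvPowerSeries.X 1 : MvPowerSeries (Fin 2) k)} =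
      Ideal.span {quadSer (0 : k) 1 0} := by simp [quadSer]
  obtain ⟨a, b, c, habc, hu, h, hh, E, hE⟩ := exists_cpl_family f t hfl (0 : k) 1 0 (by norm_num)
    (e.trans (Ideal.quotEquivOfEq hI)) fun r => by
      refine (RingEquiv.trans_apply _ _ _).trans ((congrArg (Ideal.quotEquivOfEq hI) (he r)).trans ?_)
      rw [Ideal.quotEquivOfEq_mk]
  let A := Curv2.cpl (S.presheaf.stalk (f t))
  haveI : IsNoetherianRing A := Cohen12.isNoetherianRing_completion (S.presheaf.stalk (f t))
  haveI : IsAdicComplete (maximalIdeal A) A := Cohen12.isAdicComplete_completion (S.presheaf.stalk (f t))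
  haveI : IsAdicComplete (maximalIdeal k) k :=
    Unr55.SmoothPS.isAdicComplete_of_pow_eq_bot _ (N := 1) (by rw [pow_one, maximalIdeal_eq_bot])
  obtain ⟨ρ, hρ⟩ := Cohen12.exists_extension (S.presheaf.stalk (f t)) (residue (S.presheaf.stalk (f t)))
    (Ideal.map_le_iff_le_comap.2 fun x hx => by
      rw [Ideal.mem_comap, (residue_eq_zero_iff x).2 hx]
      exact zero_mem _)
  obtain ⟨ha, hb, hc⟩ := habc ρ hρ
  have hm : ∀ x : A, ρ x = 0 → x ∈ maximalIdeal A := fun x hx => by
    rw [mem_maximalIdeal, mem_nonunits_iff]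
    intro hu'
    exact not_isUnit_zero (hx ▸ hu'.map ρ)
  have hbu : IsUnit b := by
    by_contra hn
    exact (mem_maximalIdeal _).1 (sub_mem (Ideal.pow_mem_of_mem _ ((mem_maximalIdeal b).2 hn) 2 two_pos)
      (Ideal.mul_mem_left _ (4 * a) (hm c hc))) hu
  obtain ⟨φ, hφ⟩ := exists_split_equiv (hm a ha) (hm c hc) hbu
  have hmap : Ideal.span {quadSer a b c - MvPowerSeries.C h} =
      (Ideal.span {(MvPowerSeries.X 0 * MvPowerSeries.X 1 - MvPowerSeries.C h : MvPowerSeries (Fin 2) A)}).map
        φ.toRingEquiv.toRingHom := by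
    rw [Ideal.map_span, Set.image_singleton, ← hφ]
    congr 2
    show _ = φ _
    rw [map_sub]
    congr 1
    exact (φ.commutes h).symm
  refine ⟨h, hh, E.trans (Ideal.quotientEquiv _ _ φ.toRingEquiv hmap).symm, fun r => ?_⟩
  rw [RingEquiv.trans_apply, hE, RingEquiv.symm_apply_eq, Ideal.quotientEquiv_mk]
  exact congrArg _ (φ.commutes _).symm

end Groth.Agent.Node12.Loc
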