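import Groth.Agent.QS97.Translate
import Groth.Agent.QS97.Hessian
import Groth.Agent.QS97.Formal
import Groth.Agent.Cohen12.PowerSeries
import Groth.Agent.Cohen12.Completion
import Groth.Agent.EGA4H10.CplQuot
import Groth.Agent.Unr55.SmoothPS
import Groth.Agent.LA18.ColonKilling

/-!
# The completed local ring at a node of a fibre
-/

set_option autoImplicit false
set_option linter.style.haveILetI false
set_option maxHeartbeats 1600000
set_option synthInstance.maxHeartbeats 100000

universe u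

open IsLocalRing

noncomputable section

namespace Groth.Agent.Node12.Loc

/-- A binary quadratic form in power series. -/
abbrev quadSer {R : Type u} [CommRing R] (a b c : R) : MvPowerSeries (Fin 2) R :=
  MvPowerSeries.C a * MvPowerSeries.X 0 ^ 2 + MvPowerSeries.C b * MvPowerSeries.X 0 * MvPowerSeries.X 1 +
    MvPowerSeries.C c * MvPowerSeries.X 1 ^ 2

theorem quadSer_eq {R : Type u} [CommRing R] (q : Fin 2 → Fin 2 → R) :
    VanCyc.quadEval (fun i j => MvPowerSeries.C (q i j)) (MvPowerSeries.X : Fin 2 → MvPowerSeries (Fin 2) R) =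
      quadSer (q 0 0) (q 0 1) (q 1 1) := by
  simp [VanCyc.quadEval, Fin.sum_univ_two, quadSer, pow_two, mul_assoc]

/-- Ring maps from power series to a Noetherian local ring agreeing on constants and variables agree. -/
theorem powerSeries_hom_ext {A C : Type u} [CommRing A] [CommRing C] [IsLocalRing C] [IsNoetherianRing C] {n : ℕ}
    {f g : MvPowerSeries (Fin n) A →+* C} (hX : ∀ i, f (MvPowerSeries.X i) ∈ maximalIdeal C)
    (h : ∀ a, f (MvPowerSeries.C a) = g (MvPowerSeries.C a))
    (h' : ∀ i, f (MvPowerSeries.X i) = g (MvPowerSeries.X i)) : f = g := by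
  refine RingHom.ext fun s => sub_eq_zero.1 ?_
  rw [← Ideal.mem_bot, ← Ideal.iInf_pow_eq_bot_of_isLocalRing (maximalIdeal C) (maximalIdeal.isMaximal C).ne_top,
    Ideal.mem_iInf]
  intro N
  obtain ⟨P, hP⟩ := FSPow12.exists_approx N s
  rw [FSPow12.ker_constantCoeff] at hP
  have key : ∀ φ : MvPowerSeries (Fin n) A →+* C, (∀ i, φ (MvPowerSeries.X i) ∈ maximalIdeal C) →
      φ s - φ P ∈ maximalIdeal C ^ N := fun φ hφ => by
    rw [← map_sub]
    have h1 := Ideal.mem_map_of_mem φ hP
    rw [Ideal.map_pow] at h1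
    refine Ideal.pow_right_mono ?_ N h1
    rw [Ideal.map_span, Ideal.span_le]
    rintro _ ⟨_, ⟨i, rfl⟩, rfl⟩
    exact hφ i
  have heq : f P = g P := by
    have : f.comp MvPolynomial.coeToMvPowerSeries.ringHom = g.comp MvPolynomial.coeToMvPowerSeries.ringHom :=
      MvPolynomial.ringHom_ext (fun a => by simpa using h a) fun i => by simpa using h' i
    exact RingHom.congr_fun this P
  have := sub_mem (key f hX) (key g fun i => h' i ▸ hX i)
  rw [heq] at this
  simpa using this

/-- A series with coefficients in a finitely generated ideal is a combination of its generators. -/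
theorem exists_series_comb {A : Type u} [CommRing A] {n m : ℕ} (g : Fin m → A) (s : MvPowerSeries (Fin n) A)
    (h : ∀ d, MvPowerSeries.coeff d s ∈ Ideal.span (Set.range g)) :
    ∃ H : Fin m → MvPowerSeries (Fin n) A, s = ∑ i, MvPowerSeries.C (g i) * H i := by
  choose c hc using fun d => (Ideal.mem_span_range_iff_exists_fun).1 (h d)
  refine ⟨fun i => fun d => c d i, MvPowerSeries.ext fun d => ?_⟩
  rw [map_sum, ← hc d]
  refine Finset.sum_congr rfl fun i _ => ?_
  rw [MvPowerSeries.coeff_C_mul]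
  exact mul_comm _ _

section Normal

variable {A : Type u} [CommRing A] [IsNoetherianRing A] [IsLocalRing A] [IsAdicComplete (maximalIdeal A) A]

/-- Normal form of a series whose reduction is a nondegenerate binary quadratic form. -/
theorem exists_quad_normal {k : Type u} [Field k] (ρ : A →+* k) (hρ : ∀ x, ρ x = 0 ↔ x ∈ maximalIdeal A)
    (F : MvPowerSeries (Fin 2) A) {a b c : k} (hd : b ^ 2 - 4 * a * c ≠ 0)
    (hF : MvPowerSeries.map ρ F = quadSer a b c) :
    ∃ (a' b' c' : A) (h : A) (e : MvPowerSeries (Fin 2) A ≃ₐ[A] MvPowerSeries (Fin 2) A),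
      ρ a' = a ∧ ρ b' = b ∧ ρ c' = c ∧ IsUnit (b' ^ 2 - 4 * a' * c') ∧ h ∈ maximalIdeal A ∧
      e F = quadSer a' b' c' - MvPowerSeries.C h := by
  let _ : WithIdeal A := ⟨maximalIdeal A⟩
  let q : Fin 2 → Fin 2 → k := fun i j => if i = 0 then (if j = 0 then a else b) else c
  have hq : quadSer a b c = VanCyc.quadEval (fun i j => MvPowerSeries.C (q i j))
      (MvPowerSeries.X : Fin 2 → MvPowerSeries (Fin 2) k) := by
    rw [quadSer_eq]
    simp [q]
  have hcoef : ∀ d, ρ (MvPowerSeries.coeff d F) = MvPowerSeries.coeff d (VanCyc.quadEval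
      (fun i j => MvPowerSeries.C (q i j)) (MvPowerSeries.X : Fin 2 → MvPowerSeries (Fin 2) k)) := fun d => by
    rw [← hq, ← hF, MvPowerSeries.coeff_map]
  have hunit : ∀ x : A, ρ x ≠ 0 → IsUnit x := fun x hx => by
    by_contra hu
    exact hx ((hρ x).2 ((mem_maximalIdeal x).2 hu))
  have hquad : ∀ G : MvPowerSeries (Fin 2) A, (∀ d, MvPowerSeries.coeff d G - MvPowerSeries.coeff d F ∈ maximalIdeal A) →
      ρ (VanCyc.quadPart G 0 0) = a ∧ ρ (VanCyc.quadPart G 0 1) = b ∧ ρ (VanCyc.quadPart G 1 1) = c := by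
    intro G hG
    have h1 : ∀ {i j : Fin 2}, i ≤ j → ρ (VanCyc.quadPart G i j) = q i j := by
      intro i j hij
      rw [QS97.quadPart_eq G hij]
      have h2 := (hρ _).2 (hG (QS97.pairExp i j))
      rw [map_sub, sub_eq_zero] at h2
      rw [h2, hcoef, QS97.coeff_quadEval_pairExp q hij]
    exact ⟨h1 le_rfl, by simpa [q] using h1 (show (0 : Fin 2) ≤ 1 by decide), by simpa [q] using h1 (le_refl (1 : Fin 2))⟩
  have hdisc : ∀ G : MvPowerSeries (Fin 2) A, (∀ d, MvPowerSeries.coeff d G - MvPowerSeries.coeff d F ∈ maximalIdeal A) →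
      IsUnit (VanCyc.quadPart G 0 1 ^ 2 - 4 * VanCyc.quadPart G 0 0 * VanCyc.quadPart G 1 1) := by
    intro G hG
    obtain ⟨ha, hb, hc⟩ := hquad G hG
    refine hunit _ ?_
    rw [map_sub, map_mul, map_mul, map_pow, ha, hb, hc, map_ofNat]
    exact hd
  have hdet : ∀ G : MvPowerSeries (Fin 2) A, (VanCyc.polarMatrix (VanCyc.quadPart G)).det =
      -(VanCyc.quadPart G 0 1 ^ 2 - 4 * VanCyc.quadPart G 0 0 * VanCyc.quadPart G 1 1) := fun G => by
    rw [Matrix.det_fin_two]
    simp [VanCyc.polarMatrix]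
    ring
  have hlin : ∀ d : Fin 2 →₀ ℕ, d.degree ≠ 2 → MvPowerSeries.coeff d F ∈ maximalIdeal A := fun d hd2 => by
    rw [← hρ, hcoef, QS97.coeff_quadEval_of_ne_two q hd2]
  obtain ⟨τ, hτ1, hτ2⟩ := QS97.exists_translate_critical (le_refl (maximalIdeal A)) F
    (fun j => hlin _ (by rw [Finsupp.degree_single]; decide))
    (by
      have h1 : QS97.hess F = VanCyc.polarMatrix (VanCyc.quadPart F) :=
        Matrix.ext fun j i => QS97.coeff_single_pderiv F i j
      rw [h1, hdet, IsUnit.neg_iff]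
      exact hdisc F fun d => by simp)
  let G := τ F
  let h₀ := MvPowerSeries.constantCoeff G
  have hG : ∀ d, MvPowerSeries.coeff d G - MvPowerSeries.coeff d F ∈ maximalIdeal A := hτ2
  have hh₀ : h₀ ∈ maximalIdeal A := by
    have h1 := add_mem (hG 0) (hlin 0 (by simp))
    rw [sub_add_cancel, MvPowerSeries.coeff_zero_eq_constantCoeff_apply] at h1
    exact h1
  let q' := VanCyc.quadPart G
  have hnd : VanCyc.QuadNondeg q' := by
    show IsUnit (VanCyc.polarMatrix q').det
    rw [hdet, IsUnit.neg_iff]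
    exact hdisc G hG
  have hlow : VanCyc.NoLowTerms (G - MvPowerSeries.C h₀) := by
    refine ⟨by simp [h₀], fun i => ?_⟩
    rw [map_sub, MvPowerSeries.coeff_C, if_neg (by simp [Finsupp.single_eq_zero])]
    simpa [QS97.lin, G] using hτ1 i
  have hqp : VanCyc.quadPart (G - MvPowerSeries.C h₀) = q' := by
    funext i j
    unfold VanCyc.quadPart q' VanCyc.quadPart
    have hne : ∀ d : Fin 2 →₀ ℕ, d.degree = 2 → MvPowerSeries.coeff d (G - MvPowerSeries.C h₀) = MvPowerSeries.coeff d G := by
      intro d hd2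
      rw [map_sub, MvPowerSeries.coeff_C, if_neg (fun h => by rw [h, map_zero] at hd2; omega), sub_zero]
    split_ifs
    · exact hne _ (by rw [Finsupp.degree_single])
    · exact hne _ (by rw [map_add, Finsupp.degree_single, Finsupp.degree_single])
    · rfl
  obtain ⟨-, h3⟩ := QS97.exists_quad_decomp _ hlow
  rw [hqp] at h3
  obtain ⟨-, ψ, -, -, -, hψ⟩ := QS97.exists_normalize q' hnd h₀ (m := 2) le_rfl G (by
    convert h3 using 1
    ring)
  obtain ⟨ha, hb, hc⟩ := hquad G hG
  refine ⟨q' 0 0, q' 0 1, q' 1 1, -h₀, τ.trans ψ, ha, hb, hc, hdisc G hG, neg_mem hh₀, ?_⟩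
  rw [AlgEquiv.trans_apply, hψ, quadSer_eq, map_neg, sub_neg_eq_add]

end Normal

/-- A kernel is principal when it is so modulo an ideal of the base and the target is flat. -/
theorem ker_eq_span_of_flat {O S B T : Type u} [CommRing O] [CommRing S] [CommRing B] [CommRing T]
    [IsNoetherianRing S] (c : O →+* S) (Φ : S →+* B) (hs : Function.Surjective Φ) (hfl : (Φ.comp c).Flat)
    (θ : S →+* T) {m : ℕ} (g : Fin m → O)
    (hθ : ∀ x ∈ RingHom.ker θ, x ∈ Ideal.span (Set.range fun i => c (g i)))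
    (hjac : Ideal.span (Set.range fun i => c (g i)) ≤ (⊥ : Ideal S).jacobson) {F : S} (hF : Φ F = 0)
    (hgen : ∀ x ∈ RingHom.ker Φ, ∃ H, θ x = θ (H * F)) : RingHom.ker Φ = Ideal.span {F} := by
  refine le_antisymm ?_ ((Ideal.span_singleton_le_iff_mem _).2 hF)
  refine Submodule.le_of_le_smul_of_le_jacobson_bot (IsNoetherian.noetherian _) hjac fun x hx => ?_
  obtain ⟨H, hH⟩ := hgen x hx
  obtain ⟨Hs, hHs⟩ := Ideal.mem_span_range_iff_exists_fun.1
    (hθ (x - H * F) (by rw [RingHom.mem_ker, map_sub, hH, sub_self]))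
  let _ : Algebra O B := (Φ.comp c).toAlgebra
  haveI : Module.Flat O B := hfl
  have h0 : ∑ i, g i • Φ (Hs i) = 0 := by
    have h1 : Φ (x - H * F) = 0 := by rw [map_sub, map_mul, hF, mul_zero, RingHom.mem_ker.1 hx, sub_zero]
    rw [← hHs, map_sum] at h1
    rw [← h1]
    refine Finset.sum_congr rfl fun i _ => ?_
    rw [map_mul, mul_comm]
    rfl
  obtain ⟨l, α, y, hy, hα⟩ := Module.Flat.isTrivialRelation_of_sum_smul_eq_zero (R := O) (M := B) (f := g)
    (x := fun i => Φ (Hs i)) h0
  choose Y hY using fun t => hs (y t)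
  have hmem : ∀ i, Hs i - ∑ t, c (α i t) * Y t ∈ RingHom.ker Φ := fun i => by
    rw [RingHom.mem_ker, map_sub, map_sum, sub_eq_zero]
    refine (hy i).trans (Finset.sum_congr rfl fun t _ => ?_)
    rw [map_mul, hY]
    rfl
  have hx' : x - H * F = ∑ i, c (g i) * (Hs i - ∑ t, c (α i t) * Y t) := by
    have h2 : ∑ i, c (g i) * ∑ t, c (α i t) * Y t = 0 := by
      simp only [Finset.mul_sum]
      rw [Finset.sum_comm]
      refine Finset.sum_eq_zero fun t _ => ?_
      simp only [← mul_assoc, ← Finset.sum_mul, ← map_mul, ← map_sum, hα t, map_zero, zero_mul]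
    simp only [mul_sub, Finset.sum_sub_distrib, h2, sub_zero, ← hHs]
    exact Finset.sum_congr rfl fun i _ => mul_comm _ _
  rw [← sub_add_cancel x (H * F)]
  refine Submodule.add_mem _ (Submodule.mem_sup_right ?_)
    (Submodule.mem_sup_left (Ideal.mem_span_singleton'.2 ⟨H, rfl⟩))
  rw [hx']
  exact Submodule.sum_mem _ fun i _ => Submodule.smul_mem_smul (Ideal.subset_span ⟨i, rfl⟩) (hmem i)

/-- Deformations of a rational node: the completion is cut out by a quadratic form plus a constant. -/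
theorem exists_cpl_quad {O P P' : Type u} [CommRing O] [IsLocalRing O] [IsNoetherianRing O] [CommRing P]
    [IsLocalRing P] [IsNoetherianRing P] [CommRing P'] [IsLocalRing P'] (φ : O →+* P) [IsLocalHom φ]
    (hfl : φ.Flat) (π : P →+* P') (hπ : Function.Surjective π) (hker : RingHom.ker π = (maximalIdeal O).map φ)
    (a b c : ResidueField O) (hd : b ^ 2 - 4 * a * c ≠ 0)
    (e : AdicCompletion (maximalIdeal P') P' ≃+* MvPowerSeries (Fin 2) (ResidueField O) ⧸ Ideal.span {quadSer a b c})
    (he : ∀ r, e (algebraMap P' _ (π (φ r))) = Ideal.Quotient.mk _ (MvPowerSeries.C (residue O r))) :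
    ∃ a' b' c' : AdicCompletion (maximalIdeal O) O,
      (∀ (ρ : AdicCompletion (maximalIdeal O) O →+* ResidueField O), (∀ r, ρ (algebraMap O _ r) = residue O r) →
        ρ a' = a ∧ ρ b' = b ∧ ρ c' = c) ∧ IsUnit (b' ^ 2 - 4 * a' * c') ∧
      ∃ h ∈ maximalIdeal (AdicCompletion (maximalIdeal O) O),
        ∃ E : AdicCompletion (maximalIdeal P) P ≃+*
            MvPowerSeries (Fin 2) (AdicCompletion (maximalIdeal O) O) ⧸
              Ideal.span {quadSer a' b' c' - MvPowerSeries.C h},
          ∀ r, E (algebraMap P _ (φ r)) = Ideal.Quotient.mk _ (MvPowerSeries.C (algebraMap O _ r)) := by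
  let k := ResidueField O
  let A := AdicCompletion (maximalIdeal O) O
  let B := AdicCompletion (maximalIdeal P) P
  haveI : IsNoetherianRing A := Cohen12.isNoetherianRing_completion O
  haveI : IsAdicComplete (maximalIdeal A) A := Cohen12.isAdicComplete_completion O
  haveI : IsNoetherianRing B := Cohen12.isNoetherianRing_completion P
  haveI : IsAdicComplete (maximalIdeal B) B := Cohen12.isAdicComplete_completion P
  haveI : IsAdicComplete (maximalIdeal k) k :=
    Unr55.SmoothPS.isAdicComplete_of_pow_eq_bot _ (N := 1) (by rw [pow_one, maximalIdeal_eq_bot])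
  obtain ⟨ρ, hρO⟩ := Cohen12.exists_extension O (residue O) (Ideal.map_le_iff_le_comap.2 fun x hx => by
    rw [Ideal.mem_comap, (residue_eq_zero_iff x).2 hx]
    exact zero_mem _)
  have hρs : Function.Surjective ρ := fun y => by
    obtain ⟨r, rfl⟩ := residue_surjective y
    exact ⟨_, hρO r⟩
  have hρ : ∀ x, ρ x = 0 ↔ x ∈ maximalIdeal A := fun x => by
    rw [← eq_maximalIdeal (RingHom.ker_isMaximal_of_surjective ρ hρs)]
    exact RingHom.mem_ker.symm
  let j : O →+* B := (algebraMap P B).comp φ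
  haveI : Module.Flat P B := AdicCompletion.flat_of_isNoetherian _
  have hjfl : j.Flat := RingHom.Flat.comp hfl (RingHom.flat_algebraMap_iff.mpr inferInstance)
  obtain ⟨σ, hσ⟩ := Cohen12.exists_extension O j (Ideal.map_le_iff_le_comap.2 fun x hx => by
    rw [Ideal.mem_comap, RingHom.comp_apply, AdicCompletion.maximalIdeal_eq_map (R := P)]
    exact Ideal.mem_map_of_mem _ (map_nonunit φ x hx))
  let _ : Algebra P P' := π.toAlgebra
  let Q : Ideal (MvPowerSeries (Fin 2) k) := Ideal.span {quadSer a b c}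
  let πh : B →+* MvPowerSeries (Fin 2) k ⧸ Q := e.toRingHom.comp (EGA4H10.cplMap P P' hπ)
  have hπs : Function.Surjective πh := e.surjective.comp (EGA4H10.cplMap_surjective P P' hπ)
  have hπk : RingHom.ker πh = (maximalIdeal O).map j := by
    rw [← Ideal.map_map, ← hker, show RingHom.ker π = RingHom.ker (algebraMap P P') from rfl,
      ← EGA4H10.ker_cplMap P P' hπ]
    ext x
    simp only [RingHom.mem_ker, πh, RingHom.comp_apply]
    exact map_eq_zero_iff e.toRingHom e.injective
  have hπj : ∀ r, πh (j r) = Ideal.Quotient.mk Q (MvPowerSeries.C (residue O r)) := fun r => by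
    show e (EGA4H10.cplMap P P' hπ (algebraMap P _ (φ r))) = _
    rw [EGA4H10.cplMap_algebraMap]
    exact he r
  have hπσ : ∀ x, πh (σ x) = Ideal.Quotient.mk Q (MvPowerSeries.C (ρ x)) := by
    intro x
    obtain ⟨r, hr⟩ := Cohen12.exists_sub_mem_pow O 1 x
    rw [pow_one] at hr
    have h1 : πh (σ (x - algebraMap O A r)) = 0 := by
      rw [← RingHom.mem_ker, hπk]
      have h2 := Ideal.mem_map_of_mem σ hr
      rw [AdicCompletion.maximalIdeal_eq_map (R := O), Ideal.map_map,
        show σ.comp (algebraMap O A) = j from RingHom.ext hσ] at h2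
      exact h2
    rw [map_sub, map_sub, sub_eq_zero, hσ, hπj] at h1
    have h3 : ρ x = residue O r := by rw [← hρO, ← sub_eq_zero, ← map_sub]; exact (hρ _).2 hr
    rw [h1, h3]
  haveI : Nontrivial (MvPowerSeries (Fin 2) k ⧸ Q) := Ideal.Quotient.nontrivial_iff.2 fun h => by
    have h1 : Q ≤ maximalIdeal (MvPowerSeries (Fin 2) k) := by
      rw [Ideal.span_singleton_le_iff_mem, CAlg6.mem_maximalIdeal_iff]
      simp [quadSer]
    exact (maximalIdeal.isMaximal _).ne_top (top_le_iff.1 (h ▸ h1))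
  haveI : IsLocalRing (MvPowerSeries (Fin 2) k ⧸ Q) :=
    IsLocalRing.of_surjective' (Ideal.Quotient.mk Q) Ideal.Quotient.mk_surjective
  haveI : IsNoetherianRing (MvPowerSeries (Fin 2) k ⧸ Q) := inferInstance
  haveI : IsLocalHom πh := hπs.isLocalHom
  haveI : IsLocalHom (Ideal.Quotient.mk Q) := Ideal.Quotient.mk_surjective.isLocalHom
  choose w hw using fun i => hπs (Ideal.Quotient.mk Q (MvPowerSeries.X i))
  have hXmem : ∀ i, Ideal.Quotient.mk Q (MvPowerSeries.X i) ∈ maximalIdeal (MvPowerSeries (Fin 2) k ⧸ Q) := fun i =>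
    map_nonunit (Ideal.Quotient.mk Q) _ (CAlg6.mem_maximalIdeal_iff.2 (MvPowerSeries.constantCoeff_X i))
  have hwm : ∀ i, w i ∈ maximalIdeal B := fun i => by
    rw [mem_maximalIdeal, mem_nonunits_iff]
    exact fun hu => (mem_maximalIdeal _).1 (hw i ▸ hXmem i) (hu.map πh)
  obtain ⟨Φ, hΦC, hΦX⟩ := LA18.exists_powerSeries_hom (maximalIdeal B) σ w hwm
  let S := MvPowerSeries (Fin 2) A
  haveI : IsNoetherianRing S := Cohen12.isNoetherianRing_powerSeries A 2
  haveI : IsAdicComplete (maximalIdeal S) S := Cohen12.isAdicComplete_powerSeries 2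
  have hcomm : πh.comp Φ = (Ideal.Quotient.mk Q).comp (MvPowerSeries.map ρ) :=
    powerSeries_hom_ext (fun i => by rw [RingHom.comp_apply, hΦX, hw]; exact hXmem i)
      (fun x => by simp [hΦC, hπσ]) fun i => by simp [hΦX, hw]
  have hcomm' : ∀ s, πh (Φ s) = Ideal.Quotient.mk Q (MvPowerSeries.map ρ s) := RingHom.congr_fun hcomm
  have hmapρ : Function.Surjective (MvPowerSeries.map ρ : S →+* MvPowerSeries (Fin 2) k) := fun g =>
    ⟨fun d => Function.surjInv hρs (g d), MvPowerSeries.ext fun d => by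
      rw [MvPowerSeries.coeff_map]; exact Function.surjInv_eq hρs _⟩
  let I : Ideal S := (maximalIdeal O).map ((MvPowerSeries.C (σ := Fin 2)).comp (algebraMap O A))
  have hIΦ : I.map Φ = (maximalIdeal O).map j := by
    rw [Ideal.map_map]
    congr 1
    exact RingHom.ext fun r => (hΦC _).trans (hσ r)
  have hIm : I ≤ maximalIdeal S := Ideal.map_le_iff_le_comap.2 fun r hr => by
    rw [Ideal.mem_comap, RingHom.comp_apply, Cohen12.mem_maximalIdeal_powerSeries, MvPowerSeries.constantCoeff_C,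
      AdicCompletion.maximalIdeal_eq_map (R := O)]
    exact Ideal.mem_map_of_mem _ hr
  have hΦloc : (maximalIdeal S).map Φ ≤ maximalIdeal B := by
    rw [Cohen12.maximalIdeal_powerSeries, Ideal.map_sup, sup_le_iff, Ideal.map_map]
    refine ⟨Ideal.map_le_iff_le_comap.2 fun x hx => ?_, ?_⟩
    · rw [Ideal.mem_comap, RingHom.comp_apply, hΦC, mem_maximalIdeal, mem_nonunits_iff]
      intro hu
      have h1 := hu.map πh
      rw [hπσ, (hρ x).2 hx, map_zero, map_zero] at h1
      exact not_isUnit_zero h1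
    · rw [Ideal.map_span, Ideal.span_le]
      rintro _ ⟨_, ⟨i, rfl⟩, rfl⟩
      rw [hΦX]
      exact hwm i
  have hΦs : Function.Surjective Φ := by
    refine CAlg6.surjective_of_cotangent Φ hΦloc ?_ ?_
    · intro y
      obtain ⟨y, rfl⟩ := residue_surjective y
      obtain ⟨g, hg⟩ := Ideal.Quotient.mk_surjective (πh y)
      obtain ⟨x, hx⟩ := hρs (MvPowerSeries.constantCoeff g)
      refine ⟨MvPowerSeries.C x, ?_⟩
      rw [RingHom.comp_apply, hΦC, eq_comm, ← sub_eq_zero, ← map_sub, residue_eq_zero_iff, mem_maximalIdeal,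
        mem_nonunits_iff]
      intro hu
      have h1 := hu.map πh
      rw [map_sub, hπσ, ← hg, ← map_sub, hx] at h1
      exact (mem_maximalIdeal _).1 (map_nonunit (Ideal.Quotient.mk Q) _
        (CAlg6.mem_maximalIdeal_iff.2 (by simp))) h1
    · refine le_sup_of_le_left fun y hy => ?_
      obtain ⟨g, hg⟩ := Ideal.Quotient.mk_surjective (πh y)
      obtain ⟨G, rfl⟩ := hmapρ g
      have h1 : y - Φ G ∈ I.map Φ := by
        rw [hIΦ, ← hπk, RingHom.mem_ker, map_sub, hcomm', hg, sub_self]
      have h2 : y - Φ G ∈ maximalIdeal B := (Ideal.map_mono hIm).trans hΦloc h1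
      have hG : G ∈ maximalIdeal S := by
        rw [mem_maximalIdeal, mem_nonunits_iff]
        intro hu
        exact (mem_maximalIdeal _).1 (by simpa using sub_mem hy h2) (hu.map Φ)
      rw [← sub_add_cancel y (Φ G)]
      exact add_mem (Ideal.map_mono hIm h1) (Ideal.mem_map_of_mem Φ hG)
  obtain ⟨Q₀, hQ₀⟩ := hmapρ (quadSer a b c)
  obtain ⟨G₀, hG₀, hΦG⟩ := (Ideal.mem_map_iff_of_surjective Φ hΦs).1 (show Φ Q₀ ∈ I.map Φ by
    rw [hIΦ, ← hπk, RingHom.mem_ker, hcomm', hQ₀, Ideal.Quotient.eq_zero_iff_mem]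
    exact Ideal.mem_span_singleton_self _)
  let F := Q₀ - G₀
  have hρI : ∀ s ∈ I, MvPowerSeries.map ρ s = 0 := by
    intro s hs
    refine (Ideal.map_le_iff_le_comap.2 (fun r hr => ?_) : I ≤ RingHom.ker (MvPowerSeries.map ρ)) hs
    rw [Ideal.mem_comap, RingHom.mem_ker, RingHom.comp_apply, MvPowerSeries.map_C, hρO,
      (residue_eq_zero_iff r).2 hr, map_zero]
  have hFρ : MvPowerSeries.map ρ F = quadSer a b c := by rw [map_sub, hQ₀, hρI G₀ hG₀, sub_zero]
  have hFΦ : Φ F = 0 := by rw [map_sub, hΦG, sub_self]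
  obtain ⟨m, g, hg⟩ : ∃ (m : ℕ) (g : Fin m → O), Ideal.span (Set.range g) = maximalIdeal O :=
    Submodule.fg_iff_exists_fin_generating_family.1 (IsNoetherian.noetherian _)
  have hmA : maximalIdeal A = Ideal.span (Set.range fun i => algebraMap O A (g i)) := by
    refine (AdicCompletion.maximalIdeal_eq_map (R := O)).trans ((congrArg (Ideal.map (algebraMap O A)) hg.symm).trans ?_)
    rw [Ideal.map_span, ← Set.range_comp]
    rfl
  let cS : O →+* S := (MvPowerSeries.C (σ := Fin 2)).comp (algebraMap O A)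
  have hcS : Φ.comp cS = j := RingHom.ext fun r => (hΦC _).trans (hσ r)
  have hI' : Ideal.span (Set.range fun i => cS (g i)) = I := by
    refine Eq.trans ?_ (congrArg (Ideal.map cS) hg)
    rw [Ideal.map_span, ← Set.range_comp]
    rfl
  have hkerΦ : RingHom.ker Φ = Ideal.span {F} := by
    refine ker_eq_span_of_flat cS Φ hΦs (hcS.symm ▸ hjfl) (MvPowerSeries.map ρ) g (fun x hx => ?_)
      (hI'.le.trans (hIm.trans (IsLocalRing.maximalIdeal_le_jacobson _))) hFΦ fun x hx => ?_
    · obtain ⟨Hs, rfl⟩ := exists_series_comb (fun i => algebraMap O A (g i)) x fun d => by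
        rw [← hmA, ← hρ, ← MvPowerSeries.coeff_map, RingHom.mem_ker.1 hx, map_zero]
      exact Ideal.sum_mem _ fun i _ => Ideal.mul_mem_right _ _ (Ideal.subset_span ⟨i, rfl⟩)
    · obtain ⟨t, ht⟩ := Ideal.mem_span_singleton'.1 (show MvPowerSeries.map ρ x ∈ Q by
        rw [← Ideal.Quotient.eq_zero_iff_mem, ← hcomm', RingHom.mem_ker.1 hx, map_zero])
      obtain ⟨H, rfl⟩ := hmapρ t
      exact ⟨H, by rw [map_mul, hFρ, ht]⟩
  obtain ⟨a', b', c', h, τ, ha, hb, hc, hdu, hh, hτ⟩ := exists_quad_normal ρ hρ F hd hFρ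
  refine ⟨a', b', c', fun ρ' hρ' => ?_, hdu, h, hh, ?_⟩
  · have hρρ : ∀ x, ρ' x = ρ x := fun x => by
      obtain ⟨r, hr⟩ := Cohen12.exists_sub_mem_pow O 1 x
      rw [pow_one, AdicCompletion.maximalIdeal_eq_map (R := O)] at hr
      have key : ∀ ψ : A →+* k, (∀ r, ψ (algebraMap O A r) = residue O r) → ψ x = residue O r := fun ψ hψ => by
        rw [← hψ r, ← sub_eq_zero, ← map_sub]
        refine (Ideal.map_le_iff_le_comap.2 (fun t ht => ?_) :
          (maximalIdeal O).map (algebraMap O A) ≤ RingHom.ker ψ) hr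
        rw [Ideal.mem_comap, RingHom.mem_ker, hψ, (residue_eq_zero_iff t).2 ht]
      rw [key ρ' hρ', key ρ hρO]
    simp only [hρρ]
    exact ⟨ha, hb, hc⟩
  let E := (RingHom.quotientKerEquivOfSurjective hΦs).symm.trans ((Ideal.quotEquivOfEq hkerΦ).trans
    (Ideal.quotientEquiv (Ideal.span {F}) (Ideal.span {quadSer a' b' c' - MvPowerSeries.C h}) τ.toRingEquiv
      (by rw [Ideal.map_span, Set.image_singleton, ← hτ]; rfl)))
  refine ⟨E, fun r => ?_⟩
  have h1 : algebraMap P B (φ r) = RingHom.quotientKerEquivOfSurjective hΦs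
      (Ideal.Quotient.mk _ (MvPowerSeries.C (algebraMap O A r))) := by
    rw [RingHom.quotientKerEquivOfSurjective_apply_mk, hΦC, hσ]
    rfl
  show E (algebraMap P B (φ r)) = _
  rw [h1]
  simp only [E, RingEquiv.trans_apply, RingEquiv.symm_apply_apply, Ideal.quotEquivOfEq_mk, Ideal.quotientEquiv_mk]
  exact congrArg _ (τ.commutes _)

end Groth.Agent.Node12.Loc

namespace Groth.Agent.Node12.Loc

section Split

variable {A : Type u} [CommRing A] [IsLocalRing A] [IsAdicComplete (maximalIdeal A) A]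

/-- A quadratic form congruent to a product of the coordinates splits over a complete local ring. -/
theorem exists_split_equiv {a b c : A} (ha : a ∈ maximalIdeal A) (hc : c ∈ maximalIdeal A) (hb : IsUnit b) :
    ∃ φ : MvPowerSeries (Fin 2) A ≃ₐ[A] MvPowerSeries (Fin 2) A,
      φ (MvPowerSeries.X 0 * MvPowerSeries.X 1) = quadSer a b c := by
  classical
  haveI : HenselianRing A (maximalIdeal A) := inferInstance
  obtain ⟨s, hs, hs0⟩ := HenselianRing.is_henselian (I := maximalIdeal A)
    (Polynomial.X ^ 2 + Polynomial.C b * Polynomial.X + Polynomial.C (a * c))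
    (by monicity!) 0 (by simpa using Ideal.mul_mem_right c _ ha) (by simpa using hb.map _)
  rw [sub_zero] at hs0
  have hsb : IsUnit (s + b) := by
    by_contra h
    have h1 := sub_mem ((mem_maximalIdeal _).2 h) hs0
    rw [add_sub_cancel_left] at h1
    exact (mem_maximalIdeal _).1 h1 hb
  obtain ⟨u, hu⟩ := hsb.exists_right_inv
  let t := -a * u
  simp only [Polynomial.IsRoot.def, Polynomial.eval_add, Polynomial.eval_pow, Polynomial.eval_mul,
    Polynomial.eval_C, Polynomial.eval_X] at hs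
  have hct : c * t = s := by linear_combination (-u) * hs + s * hu
  have h0 : c * t ^ 2 + b * t + a = 0 := by linear_combination t * hct - a * hu
  let L : Fin 2 → MvPowerSeries (Fin 2) A :=
    ![MvPowerSeries.X 1 - MvPowerSeries.C t * MvPowerSeries.X 0,
      MvPowerSeries.C c * MvPowerSeries.X 1 + MvPowerSeries.C (b + c * t) * MvPowerSeries.X 0]
  have hL0 : ∀ i, MvPowerSeries.constantCoeff (L i) = 0 := fun i => by fin_cases i <;> simp [L]
  have hsub : MvPowerSeries.HasSubst L := MvPowerSeries.hasSubst_of_constantCoeff_zero hL0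
  let φ : MvPowerSeries (Fin 2) A →ₐ[A] MvPowerSeries (Fin 2) A := MvPowerSeries.substAlgHom hsub
  have hφX : ∀ i, φ (MvPowerSeries.X i) = L i := fun i => MvPowerSeries.substAlgHom_X hsub i
  have hbij : Function.Bijective φ := by
    refine CAlg6.bijective_of_isUnit_det φ (fun i => by rw [hφX]; exact hL0 i) ?_
    have key : ∀ d e : A, ∀ j, MvPowerSeries.coeff (Finsupp.single j 1)
        (MvPowerSeries.C d * MvPowerSeries.X (1 : Fin 2) + MvPowerSeries.C e * MvPowerSeries.X 0) =
        if j = 0 then e else d := fun d e j => by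
      rw [map_add, MvPowerSeries.coeff_C_mul, MvPowerSeries.coeff_C_mul, MvPowerSeries.coeff_X, MvPowerSeries.coeff_X]
      fin_cases j <;> simp [Finsupp.single_eq_single_iff]
    have k0 : L 0 = MvPowerSeries.C 1 * MvPowerSeries.X 1 + MvPowerSeries.C (-t) * MvPowerSeries.X 0 := by
      simp [L, map_neg]; ring
    have k1 : L 1 = MvPowerSeries.C c * MvPowerSeries.X 1 + MvPowerSeries.C (b + c * t) * MvPowerSeries.X 0 := rfl
    rw [Matrix.det_fin_two]
    simp only [Matrix.of_apply, hφX, k0, k1, key, if_true, one_ne_zero, if_false]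
    by_contra hn
    rw [← mem_nonunits_iff, ← mem_maximalIdeal] at hn
    have h2 : b ∈ maximalIdeal A := by
      have h3 := add_mem (neg_mem hn) (Ideal.mul_mem_left _ (-2 : A) hs0)
      convert h3 using 1
      linear_combination (-2 : A) * hct
    exact (mem_maximalIdeal _).1 h2 hb
  refine ⟨AlgEquiv.ofBijective φ hbij, ?_⟩
  show φ _ = _
  rw [map_mul, hφX, hφX]
  simp only [L, Matrix.cons_val_zero, Matrix.cons_val_one, quadSer, map_add, map_mul]
  have h3 := congrArg (MvPowerSeries.C (σ := Fin 2)) h0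
  simp only [map_add, map_mul, map_pow, map_zero] at h3
  linear_combination (-(MvPowerSeries.X 0 ^ 2 : MvPowerSeries (Fin 2) A)) * h3

end Split

end Groth.Agent.Node12.Loc
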