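import Groth.Agent.Node12.Loc.BaseChange
import Mathlib.RingTheory.DiscreteValuationRing.TFAE
import Mathlib.RingTheory.RingHom.StandardSmooth
import Mathlib.RingTheory.Unramified.LocalRing
import Mathlib.RingTheory.Filtration
import Mathlib.RingTheory.QuasiFinite.Basic

/-!
# Local structure of nodal families over discrete valuation rings
-/

set_option autoImplicit false
set_option linter.style.haveILetI false
set_option maxHeartbeats 1600000
set_option synthInstance.maxHeartbeats 100000
set_option backward.isDefEq.respectTransparency.types false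

universe u

open CategoryTheory Limits AlgebraicGeometry IsLocalRing

noncomputable section

namespace Groth.Agent.Node12.Loc

/-- A Noetherian local ring with maximal ideal generated by a regular element is a discrete valuation ring. -/
theorem isDvr_of_span {B : Type u} [CommRing B] [IsLocalRing B] [IsNoetherianRing B] {π : B}
    (hm : maximalIdeal B = Ideal.span {π}) (hπ : π ∈ nonZeroDivisors B) :
    ∃ (_ : IsDomain B), IsDiscreteValuationRing B ∧ Irreducible π := by
  have hex : ∀ a : B, a ≠ 0 → ∃ (n : ℕ) (v : B), IsUnit v ∧ a = π ^ n * v := by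
    intro a ha
    obtain ⟨n, hn⟩ : ∃ n, a ∉ maximalIdeal B ^ n := by
      by_contra hcon
      push Not at hcon
      refine ha ?_
      rw [← Ideal.mem_bot, ← Ideal.iInf_pow_eq_bot_of_isLocalRing (maximalIdeal B) (maximalIdeal.isMaximal B).ne_top,
        Ideal.mem_iInf]
      exact hcon
    induction n generalizing a with
    | zero => simp at hn
    | succ n ih =>
      by_cases hu : IsUnit a
      · exact ⟨0, a, hu, by simp⟩
      · obtain ⟨b, rfl⟩ := Ideal.mem_span_singleton.1 (hm ▸ (mem_maximalIdeal a).2 hu)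
        obtain ⟨m, v, hv, rfl⟩ := ih b (fun h => ha (by simp [h])) fun h => hn (by
          rw [pow_succ']
          exact Ideal.mul_mem_mul (hm ▸ Ideal.mem_span_singleton_self π) h)
        exact ⟨m + 1, v, hv, by ring⟩
  have hdom : IsDomain B := by
    have : NoZeroDivisors B := ⟨fun {a b} hab => by
      by_contra h
      push Not at h
      obtain ⟨n, v, hv, rfl⟩ := hex a h.1
      obtain ⟨m, w, hw, rfl⟩ := hex b h.2
      exact zero_notMem_nonZeroDivisors (hab ▸ mul_mem (mul_mem (pow_mem hπ n) hv.mem_nonZeroDivisors)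
        (mul_mem (pow_mem hπ m) hw.mem_nonZeroDivisors))⟩
    exact NoZeroDivisors.to_isDomain B
  have hnf : ¬ IsField B := by
    rw [isField_iff_maximalIdeal_eq, hm, Ideal.span_singleton_eq_bot]
    exact fun h => zero_notMem_nonZeroDivisors (h ▸ hπ)
  have hdvr : IsDiscreteValuationRing B :=
    ((IsDiscreteValuationRing.TFAE B hnf).out 4 0).1 (⟨π, by rw [hm]⟩ : (maximalIdeal B).IsPrincipal)
  exact ⟨hdom, hdvr, (IsDiscreteValuationRing.irreducible_iff_uniformizer π).2 hm⟩

/-- Near a prime over the closed point an etale algebra over a discrete valuation ring is one. -/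
theorem exists_dvr_away {R A : Type u} [CommRing R] [IsDomain R] [IsDiscreteValuationRing R] [CommRing A]
    [Algebra R A] [Algebra.Etale R A] (ϖ : R) (hϖ : Irreducible ϖ) (q : Ideal A) [q.IsPrime]
    (hq : q.comap (algebraMap R A) = maximalIdeal R) :
    ∃ s, s ∉ q ∧ ∃ (_ : IsDomain (Localization.Away s)), IsDiscreteValuationRing (Localization.Away s) ∧
      Irreducible (algebraMap R (Localization.Away s) ϖ) := by
  classical
  haveI : Algebra.QuasiFinite R A := inferInstance
  haveI : Finite (PrimeSpectrum R) := Finite.of_injective (fun p : PrimeSpectrum R => decide (p.asIdeal = ⊥))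
    fun p p' h => PrimeSpectrum.ext (by
      have hmax : ∀ x : PrimeSpectrum R, x.asIdeal ≠ ⊥ → x.asIdeal = maximalIdeal R := fun x hx =>
        IsLocalRing.eq_maximalIdeal (Ideal.IsPrime.isMaximal x.isPrime hx)
      by_cases hp : p.asIdeal = ⊥ <;> by_cases hp' : p'.asIdeal = ⊥
      · rw [hp, hp']
      · exact absurd ((decide_eq_decide.1 h).1 hp) hp'
      · exact absurd ((decide_eq_decide.1 h).2 hp') hp
      · rw [hmax p hp, hmax p' hp'])
  have hfin : Finite (PrimeSpectrum A) := by
    have h := Algebra.QuasiFinite.finite_comap_preimage (R := R) (S := A) (Set.finite_univ (α := PrimeSpectrum R))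
    rw [Set.preimage_univ] at h
    exact Set.finite_univ_iff.1 h
  have := Fintype.ofFinite (PrimeSpectrum A)
  let t : PrimeSpectrum A → A := fun p =>
    if h : p.asIdeal ≤ q then 1 else (Set.not_subset.1 h).choose
  let s : A := ∏ p, t p
  have hs : s ∉ q := by
    intro hs
    obtain ⟨p, -, hp⟩ := (Ideal.IsPrime.prod_mem_iff).1 hs
    simp only [t] at hp
    split_ifs at hp with h
    · exact (inferInstance : q.IsPrime).ne_top ((Ideal.eq_top_iff_one q).2 hp)
    · exact (Set.not_subset.1 h).choose_spec.2 hp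
  have hsp : ∀ p : PrimeSpectrum A, s ∉ p.asIdeal → p.asIdeal ≤ q := by
    intro p hp
    by_contra h
    refine hp (Ideal.mem_of_dvd _ (Finset.dvd_prod_of_mem t (Finset.mem_univ p)) ?_)
    simp only [t, dif_neg h]
    exact (Set.not_subset.1 h).choose_spec.1
  let L := Localization.Away s
  have hunit : ∀ a ∈ q.primeCompl, IsUnit (algebraMap A L a) := by
    intro a ha
    by_contra hu
    obtain ⟨M, hM, haM⟩ := exists_max_ideal_of_mem_nonunits (mem_nonunits_iff.2 hu)
    haveI := hM
    refine ha (hsp ⟨M.comap (algebraMap A L), inferInstance⟩ (fun h => hM.ne_top ?_) haM)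
    exact Ideal.eq_top_of_isUnit_mem _ h (IsLocalization.map_units L (⟨s, 1, pow_one s⟩ : Submonoid.powers s))
  have hloc : IsLocalization.AtPrime L q := IsLocalization.of_le (Submonoid.powers s) q.primeCompl
    (by rintro _ ⟨n, rfl⟩ h; exact hs (Ideal.IsPrime.mem_of_pow_mem ‹_› n h)) hunit
  haveI : IsLocalRing L := IsLocalization.AtPrime.isLocalRing L q
  haveI : Algebra.Etale A L := Algebra.Etale.of_isLocalizationAway s
  haveI : Algebra.Etale R L := Algebra.Etale.comp R A L
  haveI : IsNoetherianRing A := Algebra.FiniteType.isNoetherianRing R A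
  haveI : IsNoetherianRing L := IsLocalization.isNoetherianRing (Submonoid.powers s) L inferInstance
  haveI : IsLocalHom (algebraMap R L) := by
    refine ((IsLocalRing.local_hom_TFAE _).out 0 4).2 ?_
    rw [IsScalarTower.algebraMap_eq R A L, ← Ideal.comap_comap,
      show (maximalIdeal L).comap (algebraMap A L) = q from IsLocalization.AtPrime.under_maximalIdeal L q, hq]
  have hm : maximalIdeal L = Ideal.span {algebraMap R L ϖ} := by
    rw [← Algebra.FormallyUnramified.map_maximalIdeal (R := R) (S := L), hϖ.maximalIdeal_eq, Ideal.map_span,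
      Set.image_singleton]
  have hnzd : algebraMap R L ϖ ∈ nonZeroDivisors L := by
    refine mem_nonZeroDivisors_iff_right.2 fun z hz => ?_
    have hreg : IsSMulRegular L (algebraMap R L ϖ) :=
      IsSMulRegular.of_flat (IsSMulRegular.of_ne_zero hϖ.ne_zero)
    refine hreg ?_
    show algebraMap R L ϖ • z = algebraMap R L ϖ • (0 : L)
    rw [smul_eq_mul, mul_comm, hz, smul_zero]
  exact ⟨s, hs, isDvr_of_span hm hnzd⟩

/-- The homomorphism out of the standard nodal family with given values of the coordinates. -/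
def nodeLift {R B : Type u} [CommRing R] [CommRing B] [Algebra R B] (r : R) (v : Fin 2 → B)
    (h : v 0 * v 1 = algebraMap R B r) : NodeRing r →ₐ[R] B :=
  Ideal.Quotient.liftₐ _ (MvPolynomial.aeval v) fun x hx => by
    obtain ⟨x, rfl⟩ := Ideal.mem_span_singleton'.1 hx
    simp [h]

theorem nodeLift_var {R B : Type u} [CommRing R] [CommRing B] [Algebra R B] (r : R) (v : Fin 2 → B)
    (h : v 0 * v 1 = algebraMap R B r) (i : Fin 2) : nodeLift r v h (nodeVar r i) = v i :=
  MvPolynomial.aeval_X v i

theorem nodeHom_ext {R B : Type u} [CommRing R] [CommRing B] [Algebra R B] {r : R} {f g : NodeRing r →ₐ[R] B}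
    (h : ∀ i, f (nodeVar r i) = g (nodeVar r i)) : f = g :=
  Ideal.Quotient.algHom_ext R (MvPolynomial.algHom_ext h)

theorem nodeUnit_rel {R : Type u} [CommRing R] (b c d : R) (h : b * c = d) :
    algebraMap R (NodeRing c) b * nodeVar c 0 * nodeVar c 1 = algebraMap R (NodeRing c) d := by
  rw [mul_assoc, nodeVar_mul, ← map_mul, h]

/-- Scaling the first coordinate by a unit. -/
def nodeUnitEquiv {R : Type u} [CommRing R] (a : Rˣ) (r : R) : NodeRing ((a : R) * r) ≃ₐ[R] NodeRing r :=
  AlgEquiv.ofAlgHom
    (nodeLift _ ![algebraMap R _ (a : R) * nodeVar r 0, nodeVar r 1] (nodeUnit_rel _ _ _ rfl))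
    (nodeLift _ ![algebraMap R _ (↑a⁻¹ : R) * nodeVar ((a : R) * r) 0, nodeVar ((a : R) * r) 1]
      (nodeUnit_rel _ _ _ (a.inv_mul_cancel_left r)))
    (nodeHom_ext fun i => by
      simp only [AlgHom.comp_apply, AlgHom.id_apply, nodeLift_var]
      fin_cases i
      · simp only [Matrix.cons_val_zero, Fin.zero_eta, map_mul, AlgHom.commutes, nodeLift_var]
        rw [← mul_assoc, ← map_mul]
        simp
      · simp [nodeLift_var])
    (nodeHom_ext fun i => by
      simp only [AlgHom.comp_apply, AlgHom.id_apply, nodeLift_var]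
      fin_cases i
      · simp only [Matrix.cons_val_zero, Fin.zero_eta, map_mul, AlgHom.commutes, nodeLift_var]
        rw [← mul_assoc, ← map_mul]
        simp
      · simp [nodeLift_var])

/-- An etale algebra over the affine line lies etale over the standard family with parameter one
where the coordinate is a unit. -/
theorem etale_to_nodeRing_one {R B : Type u} [CommRing R] [CommRing B] [Algebra R B]
    (g : MvPolynomial (Fin 1) R →ₐ[R] B) (hg : g.toRingHom.Etale) (b : B) (hb : g (MvPolynomial.X 0) * b = 1) :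
    ∃ φ : NodeRing (1 : R) →ₐ[R] B, φ.toRingHom.Etale := by
  let P := MvPolynomial (Fin 1) R
  let L := Localization.Away (MvPolynomial.X 0 : P)
  let χ₀ : P →ₐ[R] NodeRing (1 : R) := MvPolynomial.aeval fun _ => nodeVar (1 : R) 0
  let χ : L →ₐ[R] NodeRing (1 : R) := IsLocalization.liftAlgHom (M := Submonoid.powers (MvPolynomial.X 0 : P))
    (f := χ₀) (by
      rintro ⟨_, n, rfl⟩
      show IsUnit (χ₀ ((MvPolynomial.X 0 : P) ^ n))
      rw [map_pow, show χ₀ (MvPolynomial.X 0) = nodeVar (1 : R) 0 from MvPolynomial.aeval_X _ _]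
      exact (IsUnit.of_mul_eq_one (nodeVar (1 : R) 1) (by rw [nodeVar_mul, map_one])).pow n)
  let t : L := algebraMap P L (MvPolynomial.X 0)
  let ti : L := IsLocalization.Away.invSelf (MvPolynomial.X 0 : P)
  have hti : t * ti = 1 := IsLocalization.Away.mul_invSelf _
  let ξ : NodeRing (1 : R) →ₐ[R] L := nodeLift 1 ![t, ti] (by simp [hti])
  have hχt : χ t = nodeVar (1 : R) 0 := by
    show IsLocalization.lift _ (algebraMap P L (MvPolynomial.X 0)) = _
    rw [IsLocalization.lift_eq]
    simp [χ₀]
  have hχti : χ ti = nodeVar (1 : R) 1 := by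
    have h1 : χ t * χ ti = 1 := by rw [← map_mul, hti, map_one]
    have h2 : nodeVar (1 : R) 0 * nodeVar (1 : R) 1 = 1 := by rw [nodeVar_mul, map_one]
    rw [hχt] at h1
    linear_combination nodeVar (1 : R) 1 * h1 - χ ti * h2
  have e1 : χ.comp ξ = AlgHom.id R _ := Ideal.Quotient.algHom_ext R (MvPolynomial.algHom_ext fun i => by
    show χ (ξ (nodeVar 1 i)) = nodeVar (1 : R) i
    rw [show ξ (nodeVar 1 i) = ![t, ti] i from nodeLift_var 1 _ _ i]
    fin_cases i <;> simp [hχt, hχti])
  have e2 : ξ.comp χ = AlgHom.id R L := IsLocalization.algHom_ext (Submonoid.powers (MvPolynomial.X 0 : P))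
    (MvPolynomial.algHom_ext fun i => by
      show ξ (χ (algebraMap P L (MvPolynomial.X i))) = algebraMap P L (MvPolynomial.X i)
      obtain rfl : i = 0 := Subsingleton.elim _ _
      rw [hχt]
      exact nodeLift_var 1 _ _ 0)
  let φ₀ : L →ₐ[R] B := IsLocalization.liftAlgHom (M := Submonoid.powers (MvPolynomial.X 0 : P)) (f := g) (by
      rintro ⟨_, n, rfl⟩
      show IsUnit (g ((MvPolynomial.X 0 : P) ^ n))
      rw [map_pow]
      exact (IsUnit.of_mul_eq_one b hb).pow n)
  have hφ₀ : φ₀.toRingHom.comp (algebraMap P L) = g.toRingHom := RingHom.ext fun p => IsLocalization.lift_eq _ p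
  have hPL : (algebraMap P L).Etale :=
    RingHom.etale_algebraMap.2 (Algebra.Etale.of_isLocalizationAway (MvPolynomial.X 0 : P))
  have hL : φ₀.toRingHom.Etale := by
    have : Etale (Spec.map (CommRingCat.ofHom φ₀.toRingHom) ≫ Spec.map (CommRingCat.ofHom (algebraMap P L))) := by
      rw [← Spec.map_comp, ← CommRingCat.ofHom_comp, hφ₀]
      exact (HasRingHomProperty.Spec_iff (P := @Etale)).2 hg
    have : Etale (Spec.map (CommRingCat.ofHom (algebraMap P L))) := (HasRingHomProperty.Spec_iff (P := @Etale)).2 hPL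
    exact (HasRingHomProperty.Spec_iff (P := @Etale)).1
      (Etale.of_comp (Spec.map (CommRingCat.ofHom φ₀.toRingHom)) (Spec.map (CommRingCat.ofHom (algebraMap P L))))
  refine ⟨φ₀.comp ξ, ?_⟩
  have hξ : ξ.toRingHom.Etale := RingHom.Etale.of_bijective (AlgEquiv.ofAlgHom ξ χ e2 e1).bijective
  exact RingHom.Etale.stableUnderComposition _ _ hξ hL

end Groth.Agent.Node12.Loc
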