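import Groth.Agent.Unr55.Coordinates
import Mathlib.RingTheory.Etale.Kaehler
import Mathlib.RingTheory.Kaehler.Polynomial
import Mathlib.LinearAlgebra.Matrix.NonsingularInverse
import Mathlib.LinearAlgebra.Determinant

/-!
# Partial derivatives on algebras etale over a polynomial ring
-/

set_option autoImplicit false
set_option linter.style.haveILetI false
set_option maxHeartbeats 1600000

universe u

open TensorProduct

noncomputable section

namespace Groth.Agent.Node12.Loc

variable (R : Type u) [CommRing R] {σ : Type} (P : Type u) [CommRing P] [Algebra R P]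
  [Algebra (MvPolynomial σ R) P] [IsScalarTower R (MvPolynomial σ R) P]
  [Algebra.FormallyEtale (MvPolynomial σ R) P]

/-- The differentials of the coordinates. -/
def basisKaehler : Module.Basis σ P (Ω[P⁄R]) :=
  ((KaehlerDifferential.mvPolynomialBasis R σ).baseChange P).map
    (KaehlerDifferential.tensorKaehlerEquivOfFormallyEtale R (MvPolynomial σ R) P)

theorem basisKaehler_apply (i : σ) :
    basisKaehler R P i = KaehlerDifferential.D R P (algebraMap (MvPolynomial σ R) P (MvPolynomial.X i)) := by
  simp [basisKaehler, KaehlerDifferential.mvPolynomialBasis_apply]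

/-- The partial derivatives. -/
def pd (i : σ) : Derivation R P P :=
  ((basisKaehler R P).coord i).compDer (KaehlerDifferential.D R P)

theorem pd_apply (i : σ) (x : P) : pd R P i x = (basisKaehler R P).repr (KaehlerDifferential.D R P x) i := rfl

theorem pd_X [DecidableEq σ] (i j : σ) :
    pd R P i (algebraMap (MvPolynomial σ R) P (MvPolynomial.X j)) = if j = i then 1 else 0 := by
  rw [pd_apply, ← basisKaehler_apply, Module.Basis.repr_self, Finsupp.single_apply]

variable {R P}

/-- A derivation vanishing on the coordinates vanishes. -/
theorem derivation_ext {M : Type u} [AddCommGroup M] [Module P M] [Module R M] [IsScalarTower R P M]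
    (d d' : Derivation R P M)
    (h : ∀ i : σ, d (algebraMap (MvPolynomial σ R) P (MvPolynomial.X i)) =
      d' (algebraMap (MvPolynomial σ R) P (MvPolynomial.X i))) : d = d' := by
  have : d.liftKaehlerDifferential = d'.liftKaehlerDifferential :=
    (basisKaehler R P).ext fun i => by
      rw [basisKaehler_apply, Derivation.liftKaehlerDifferential_comp_D,
        Derivation.liftKaehlerDifferential_comp_D, h i]
  ext x
  rw [← Derivation.liftKaehlerDifferential_comp_D d, this, Derivation.liftKaehlerDifferential_comp_D]

/-- Functions whose Jacobian is invertible at a prime are etale coordinates near it. -/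
theorem exists_etale_of_det [Finite σ] [Algebra.Etale (MvPolynomial σ R) P] {τ : Type} [Fintype τ]
    [DecidableEq τ] (e : τ ≃ σ) (q : Ideal P) [q.IsPrime] (g : τ → P)
    (hdet : (Matrix.of fun i j => pd R P (e i) (g j)).det ∉ q) :
    ∃ f ∉ q, (MvPolynomial.aeval (fun j => algebraMap P (Localization.Away f) (g j)) :
      MvPolynomial τ R →ₐ[R] Localization.Away f).toRingHom.Etale := by
  classical
  let B := MvPolynomial σ R
  let L := Localization.AtPrime q
  let κ := IsLocalRing.ResidueField L
  have : Algebra.FinitePresentation R P := Algebra.FinitePresentation.trans R B P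
  have : IsScalarTower R B L := IsScalarTower.of_algebraMap_eq fun x => by
    rw [IsScalarTower.algebraMap_apply B P L, ← IsScalarTower.algebraMap_apply R B P,
      ← IsScalarTower.algebraMap_apply R P L]
  have : Algebra.FormallyEtale P L := Algebra.FormallyEtale.of_isLocalization q.primeCompl
  have : Algebra.FormallyEtale B L := Algebra.FormallyEtale.comp B P L
  have hsm : Algebra.IsSmoothAt R q := Algebra.FormallySmooth.comp R B L
  let bκ : Module.Basis σ κ (κ ⊗[L] Ω[L⁄R]) := (basisKaehler R L).baseChange κ
  have key : ∀ x : P, ∀ i : σ, bκ.repr (Unr55.Coord.δ R q x) i = algebraMap P κ (pd R P i x) := by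
    intro x i
    have h1 : KaehlerDifferential.map R R P L (KaehlerDifferential.D R P x) =
        KaehlerDifferential.D R L (algebraMap P L x) := KaehlerDifferential.map_D R R P L x
    have h2 : KaehlerDifferential.D R P x = ∑ᶠ i : σ, pd R P i x • basisKaehler R P i := by
      have := Fintype.ofFinite σ
      rw [finsum_eq_sum_of_fintype]
      exact ((basisKaehler R P).sum_repr _).symm
    have := Fintype.ofFinite σ
    rw [finsum_eq_sum_of_fintype] at h2
    have hb : ∀ i, KaehlerDifferential.map R R P L (basisKaehler R P i) = basisKaehler R L i := fun i => by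
      rw [basisKaehler_apply, basisKaehler_apply, KaehlerDifferential.map_D, ← IsScalarTower.algebraMap_apply B P L]
    show (((basisKaehler R L).baseChange κ).repr
      ((1 : κ) ⊗ₜ[L] KaehlerDifferential.D R L (algebraMap P L x))) i = _
    rw [Module.Basis.baseChange_repr_tmul, ← h1, h2, map_sum, map_sum, Finsupp.finsetSum_apply]
    rw [Finset.sum_eq_single i]
    · rw [map_smul, hb, ← IsScalarTower.algebraMap_smul L (pd R P i x) (basisKaehler R L i), map_smul,
        Module.Basis.repr_self, Finsupp.smul_single, Finsupp.single_eq_same, smul_eq_mul, mul_one,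
        Algebra.smul_def, mul_one, ← IsScalarTower.algebraMap_apply]
    · intro j _ hj
      rw [map_smul, hb, ← IsScalarTower.algebraMap_smul L (pd R P j x) (basisKaehler R L j), map_smul,
        Module.Basis.repr_self, Finsupp.smul_single, Finsupp.single_eq_of_ne (Ne.symm hj)]
    · exact fun hi => absurd (Finset.mem_univ i) hi
  let b' : Module.Basis τ κ (κ ⊗[L] Ω[L⁄R]) := bκ.reindex e.symm
  have hunit : IsUnit (b'.det fun j => Unr55.Coord.δ R q (g j)) := by
    rw [Module.Basis.det_apply]
    have hM : b'.toMatrix (fun j => Unr55.Coord.δ R q (g j)) =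
        (Matrix.of fun i j => pd R P (e i) (g j)).map (algebraMap P κ) := by
      ext i j
      simp only [Module.Basis.toMatrix_apply, b', Module.Basis.repr_reindex_apply, Equiv.symm_symm, key,
        Matrix.map_apply, Matrix.of_apply]
    rw [hM, ← RingHom.mapMatrix_apply, ← RingHom.map_det]
    refine isUnit_iff_ne_zero.2 fun h0 => hdet ?_
    rw [IsScalarTower.algebraMap_apply P L κ, IsLocalRing.ResidueField.algebraMap_eq,
      IsLocalRing.residue_eq_zero_iff] at h0
    exact (IsLocalization.AtPrime.to_map_mem_maximal_iff L q _).1 h0
  obtain ⟨hli, hspan⟩ := (Module.Basis.is_basis_iff_det b').2 hunit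
  exact Unr55.Coord.exists_etale_aeval R q hsm g hli hspan

end Groth.Agent.Node12.Loc
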