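import Groth.Agent.Node12.Loc.Etale
import Groth.Agent.Node12.Loc.Coord
import Groth.Agent.Node12.Closed
import Mathlib.RingTheory.Flat.EquationalCriterion
import Mathlib.RingTheory.TensorProduct.Quotient

/-!
# Quadratic points of fibres are hypersurface singularities in smooth relative surfaces
-/

set_option autoImplicit false
set_option linter.style.haveILetI false
set_option maxHeartbeats 1600000
set_option synthInstance.maxHeartbeats 100000
set_option backward.isDefEq.respectTransparency.types false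

universe u

open IsLocalRing TensorProduct

noncomputable section

namespace Groth.Agent.Node12.Loc

/-- The kernel of a surjection onto a flat algebra meets an extended ideal in the product. -/
theorem ker_inf_map_le {R L L' : Type u} [CommRing R] [CommRing L] [CommRing L'] [Algebra R L] [Algebra R L']
    [Module.Flat R L'] (f : L →ₐ[R] L') (hf : Function.Surjective f) (p : Ideal R) :
    RingHom.ker f.toRingHom ⊓ p.map (algebraMap R L) ≤ RingHom.ker f.toRingHom * p.map (algebraMap R L) := by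
  rintro z ⟨hz, hzp⟩
  obtain ⟨n, c, t, hc, rfl⟩ : ∃ (n : ℕ) (c : Fin n → R) (t : Fin n → L),
      (∀ i, c i ∈ p) ∧ z = ∑ i, c i • t i := by
    refine Submodule.span_induction (p := fun a _ => ∃ (n : ℕ) (c : Fin n → R) (t : Fin n → L),
      (∀ i, c i ∈ p) ∧ a = ∑ i, c i • t i) ?_ ?_ ?_ ?_ hzp
    · rintro _ ⟨w, hw, rfl⟩
      exact ⟨1, fun _ => w, fun _ => 1, fun _ => hw, by simp [Algebra.smul_def]⟩
    · exact ⟨0, Fin.elim0, Fin.elim0, fun i => i.elim0, by simp⟩
    · rintro a b - - ⟨n, c, t, hc, rfl⟩ ⟨n', c', t', hc', rfl⟩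
      refine ⟨n + n', Fin.append c c', Fin.append t t', fun i => ?_, ?_⟩
      · refine Fin.addCases (fun j => ?_) (fun j => ?_) i <;> simp [hc, hc']
      · rw [Fin.sum_univ_add]; simp
    · rintro a b - ⟨n, c, t, hc, rfl⟩
      refine ⟨n, c, fun i => a * t i, hc, ?_⟩
      rw [smul_eq_mul, Finset.mul_sum]
      exact Finset.sum_congr rfl fun i _ => by rw [mul_smul_comm]
  have h0 : ∑ i, c i • f (t i) = 0 := by
    have hz' : f (∑ i, c i • t i) = 0 := hz
    rw [← hz', map_sum]
    exact Finset.sum_congr rfl fun i _ => (map_smul f _ _).symm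
  obtain ⟨l, a, y, hy, ha⟩ := Module.Flat.isTrivialRelation_of_sum_smul_eq_zero (R := R) (M := L') (f := c) (x := fun i => f (t i)) h0
  choose Y hY using fun j => hf (y j)
  have hzero : ∑ i, c i • (∑ j, a i j • Y j) = 0 := by
    simp_rw [Finset.smul_sum, smul_smul]
    rw [Finset.sum_comm]
    exact Finset.sum_eq_zero fun j _ => by rw [← Finset.sum_smul, ha j, zero_smul]
  rw [show ∑ i, c i • t i = ∑ i, c i • (t i - ∑ j, a i j • Y j) by
    simp_rw [smul_sub]
    rw [Finset.sum_sub_distrib, hzero, sub_zero]]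
  refine Ideal.sum_mem _ fun i _ => ?_
  rw [Algebra.smul_def, mul_comm (algebraMap R L (c i))]
  refine Ideal.mul_mem_mul ?_ (Ideal.mem_map_of_mem _ (hc i))
  show f _ = 0
  rw [map_sub, map_sum, sub_eq_zero]
  simp_rw [map_smul, hY]
  exact hy i

/-- An inclusion of localized ideals with finitely generated source holds after inverting one element. -/
theorem exists_mul_mem {S : Type u} [CommRing S] (Q : Ideal S) [Q.IsPrime] {I J : Ideal S} (hI : I.FG)
    (h : I.map (algebraMap S (Localization.AtPrime Q)) ≤ J.map (algebraMap S (Localization.AtPrime Q))) :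
    ∃ t ∉ Q, ∀ a ∈ I, t * a ∈ J := by
  obtain ⟨s, rfl⟩ := hI
  have hs : ∀ a ∈ s, ∃ σ ∉ Q, σ * a ∈ J := fun a ha => by
    obtain ⟨⟨j, σ⟩, hj⟩ := (IsLocalization.mem_map_algebraMap_iff Q.primeCompl _).1
      (h (Ideal.mem_map_of_mem _ (Submodule.subset_span ha)))
    rw [← map_mul] at hj
    obtain ⟨τ, hτ⟩ := (IsLocalization.eq_iff_exists Q.primeCompl _).1 hj
    exact ⟨τ * σ, mul_mem τ.2 σ.2, by
      rw [show (τ : S) * σ * a = τ * (a * σ) by ring, hτ]; exact J.mul_mem_left _ j.2⟩
  choose! σ hσ hσJ using hs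
  refine ⟨∏ a ∈ s, σ a, prod_mem (S := Q.primeCompl) fun a ha => hσ a ha, fun a ha => ?_⟩
  refine (Submodule.span_le (p := Submodule.comap (LinearMap.mulLeft S (∏ b ∈ s, σ b)) J)).2 ?_ ha
  intro b hb
  show (∏ c ∈ s, σ c) * b ∈ J
  classical
  rw [← Finset.prod_erase_mul s σ hb, mul_assoc]
  exact J.mul_mem_left _ (hσJ b hb)

/-- Quotients, killing a prime of the base, of local rings essentially of finite type are Noetherian. -/
theorem isNoetherianRing_of_killed {R T : Type u} [CommRing R] [CommRing T] [Algebra R T]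
    [Algebra.EssFiniteType R T] (p : Ideal R) [p.IsPrime] (h0 : p ≤ RingHom.ker (algebraMap R T))
    (hu : ∀ r ∉ p, IsUnit (algebraMap R T r)) : IsNoetherianRing T := by
  let ψ : p.ResidueField →ₐ[R] T := Ideal.ResidueField.liftₐ p (Algebra.ofId R T) h0 hu
  algebraize [ψ.toRingHom]
  have : IsScalarTower R p.ResidueField T := IsScalarTower.of_algebraMap_eq fun r => (ψ.commutes r).symm
  have : Algebra.EssFiniteType p.ResidueField T := Algebra.EssFiniteType.of_comp R _ _
  exact Algebra.EssFiniteType.isNoetherianRing p.ResidueField T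

theorem sub_constantCoeff_mem {R : Type u} [CommRing R] {τ : Type} (b : MvPolynomial τ R) :
    b - MvPolynomial.C (MvPolynomial.constantCoeff b) ∈
      Ideal.span (Set.range (MvPolynomial.X : τ → MvPolynomial τ R)) := by
  induction b using MvPolynomial.induction_on with
  | C a => simp
  | add a b ha hb =>
    rw [map_add, map_add, add_sub_add_comm]
    exact add_mem ha hb
  | mul_X a i _ =>
    rw [map_mul, MvPolynomial.constantCoeff_X, mul_zero, map_zero, sub_zero]
    exact Ideal.mul_mem_left _ _ (Ideal.subset_span ⟨i, rfl⟩)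

theorem derivation_mem_pow {R P : Type u} [CommRing R] [CommRing P] [Algebra R P] (D : Derivation R P P)
    (Q : Ideal P) (n : ℕ) {x : P} (hx : x ∈ Q ^ (n + 1)) : D x ∈ Q ^ n := by
  induction n generalizing x with
  | zero => simp
  | succ n ih =>
    rw [pow_succ] at hx
    refine Submodule.mul_induction_on hx (fun a ha b hb => ?_) fun a b ha hb => ?_
    · rw [Derivation.leibniz, smul_eq_mul, smul_eq_mul]
      refine add_mem (Ideal.mul_mem_right _ _ ha) ?_
      rw [pow_succ']
      exact Ideal.mul_mem_mul hb (ih ha)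
    · rw [map_add]; exact add_mem ha hb

theorem derivation_mem_map {R P : Type u} [CommRing R] [CommRing P] [Algebra R P] (D : Derivation R P P)
    (p : Ideal R) {x : P} (hx : x ∈ p.map (algebraMap R P)) : D x ∈ p.map (algebraMap R P) := by
  refine Submodule.span_induction (p := fun a _ => D a ∈ p.map (algebraMap R P)) ?_ ?_ ?_ ?_ hx
  · rintro _ ⟨t, ht, rfl⟩
    rw [Derivation.map_algebraMap]
    exact zero_mem _
  · rw [map_zero]; exact zero_mem _
  · rintro a b - - ha hb
    rw [map_add]; exact add_mem ha hb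
  · rintro t a ha hda
    rw [smul_eq_mul, Derivation.leibniz, smul_eq_mul, smul_eq_mul]
    exact add_mem (Ideal.mul_mem_left _ _ hda) (Ideal.mul_mem_right _ _ ha)

/-- Quotients of etale algebras. -/
theorem etale_quotient {P T : Type u} [CommRing P] [CommRing T] [Algebra P T] [Algebra.Etale P T] (J : Ideal P) :
    Algebra.Etale (P ⧸ J) (T ⧸ J.map (algebraMap P T)) :=
  Algebra.Etale.of_equiv (Algebra.TensorProduct.quotIdealMapEquivQuotTensor T J).symm

/-- Setting some coordinates to zero in etale coordinates. -/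
theorem etale_quot_coords {R T : Type u} [CommRing R] [CommRing T] [Algebra R T] {r : ℕ} (w : Fin r ⊕ Fin 2 → T)
    (h : (MvPolynomial.aeval w : MvPolynomial (Fin r ⊕ Fin 2) R →ₐ[R] T).toRingHom.Etale) :
    (MvPolynomial.aeval fun j => Ideal.Quotient.mk (Ideal.span (Set.range fun i => w (Sum.inl i))) (w (Sum.inr j)) :
      MvPolynomial (Fin 2) R →ₐ[R] T ⧸ Ideal.span (Set.range fun i => w (Sum.inl i))).toRingHom.Etale := by
  let B := MvPolynomial (Fin r ⊕ Fin 2) R
  let J : Ideal B := Ideal.span (Set.range fun i => MvPolynomial.X (Sum.inl i))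
  algebraize [(MvPolynomial.aeval w : B →ₐ[R] T).toRingHom]
  have hJ : J.map (algebraMap B T) = Ideal.span (Set.range fun i => w (Sum.inl i)) := by
    rw [Ideal.map_span, ← Set.range_comp]
    congr 1
    exact congrArg Set.range (funext fun i => MvPolynomial.aeval_X w _)
  have het : Algebra.Etale (B ⧸ J) (T ⧸ J.map (algebraMap B T)) :=
    etale_quotient J
  let inc : MvPolynomial (Fin 2) R →ₐ[R] B ⧸ J := MvPolynomial.aeval fun j => Ideal.Quotient.mk J (MvPolynomial.X (Sum.inr j))
  have hinc : Function.Bijective inc := by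
    let back : B ⧸ J →ₐ[R] MvPolynomial (Fin 2) R :=
      Ideal.Quotient.liftₐ J (MvPolynomial.aeval (Sum.elim 0 MvPolynomial.X)) (by
        intro a ha
        refine (Ideal.span_le (I := RingHom.ker (MvPolynomial.aeval (Sum.elim 0 MvPolynomial.X) :
          B →ₐ[R] MvPolynomial (Fin 2) R).toRingHom)).2 ?_ ha
        rintro _ ⟨i, rfl⟩
        show MvPolynomial.aeval _ (MvPolynomial.X (Sum.inl i)) = 0
        rw [MvPolynomial.aeval_X]; rfl)
    refine (AlgEquiv.ofAlgHom inc back ?_ ?_).bijective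
    · refine Ideal.Quotient.algHom_ext _ (MvPolynomial.algHom_ext fun j => ?_)
      show inc (MvPolynomial.aeval (Sum.elim 0 MvPolynomial.X) (MvPolynomial.X j)) = Ideal.Quotient.mk J (MvPolynomial.X j)
      rw [MvPolynomial.aeval_X]
      rcases j with i | i
      · show inc 0 = _
        rw [map_zero]
        exact (Ideal.Quotient.eq_zero_iff_mem.2 (Ideal.subset_span (α := B)
          (show MvPolynomial.X (Sum.inl i) ∈ Set.range (fun i => (MvPolynomial.X (Sum.inl i) : B)) from ⟨i, rfl⟩))).symm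
      · exact MvPolynomial.aeval_X _ _
    · refine MvPolynomial.algHom_ext fun j => ?_
      show back (inc (MvPolynomial.X j)) = MvPolynomial.X j
      rw [MvPolynomial.aeval_X]
      show MvPolynomial.aeval (Sum.elim 0 MvPolynomial.X) (MvPolynomial.X (Sum.inr j)) = _
      rw [MvPolynomial.aeval_X]; rfl
  have h1 : inc.toRingHom.Etale := RingHom.Etale.of_bijective hinc
  have h2 := RingHom.Etale.stableUnderComposition _ _ h1 (RingHom.etale_algebraMap.2 het)
  rw [← hJ]
  convert h2 using 1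
  refine MvPolynomial.ringHom_ext (fun a => ?_) fun j => ?_
  · show MvPolynomial.aeval _ (MvPolynomial.C a) = algebraMap (B ⧸ J) _ (inc (MvPolynomial.C a))
    rw [MvPolynomial.aeval_C, MvPolynomial.aeval_C, ← Ideal.Quotient.mk_algebraMap]
    show _ = Ideal.Quotient.mk _ (algebraMap B T (algebraMap R B a))
    rw [← IsScalarTower.algebraMap_apply R B T, Ideal.Quotient.mk_algebraMap]
  · show MvPolynomial.aeval _ (MvPolynomial.X j) = algebraMap (B ⧸ J) _ (inc (MvPolynomial.X j))
    rw [MvPolynomial.aeval_X, MvPolynomial.aeval_X]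
    show _ = Ideal.Quotient.mk _ (algebraMap B T (MvPolynomial.X (Sum.inr j)))
    exact congrArg _ (MvPolynomial.aeval_X w _).symm

/-- A local ring with two generators and a nondegenerate quadratic relation has no proper quotient that is
a quadratic point. -/
theorem ker_le_of_relation {L A : Type u} [CommRing L] [IsLocalRing L] [CommRing A] [IsLocalRing A]
    (φ : L →+* A) (hφ : Function.Surjective φ) (J : Ideal L) (hJ : J ≤ RingHom.ker φ) [IsNoetherianRing (L ⧸ J)]
    {u v a b c z : L} (hu : u ∈ maximalIdeal L) (hv : v ∈ maximalIdeal L)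
    (hm : maximalIdeal L ≤ J ⊔ Ideal.span {u, v}) (hd : IsUnit (φ (4 * a * c - b ^ 2)))
    (hz : z ∈ maximalIdeal L ^ 3) (hrel : a * u ^ 2 + b * u * v + c * v ^ 2 - z ∈ J)
    (hpr : ∀ g, maximalIdeal A ≠ Ideal.span {g}) {e : A} (hem : e ∈ maximalIdeal A) (he : e ∈ nonZeroDivisors A) :
    RingHom.ker φ ≤ J := by
  have hJtop : J ≠ ⊤ := fun h => RingHom.ker_ne_top φ (top_le_iff.1 (h ▸ hJ))
  haveI : Nontrivial (L ⧸ J) := Ideal.Quotient.nontrivial_iff.2 hJtop
  let mk : L →+* L ⧸ J := Ideal.Quotient.mk J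
  have hmks : Function.Surjective mk := Ideal.Quotient.mk_surjective
  haveI : IsLocalRing (L ⧸ J) := IsLocalRing.of_surjective' mk hmks
  have hmk : (maximalIdeal L).map mk = maximalIdeal (L ⧸ J) := IsLocalRing.map_maximalIdeal_of_surjective mk hmks
  have hmT : maximalIdeal (L ⧸ J) = Ideal.span {mk u, mk v} := by
    rw [← hmk]
    refine le_antisymm ((Ideal.map_mono hm).trans ?_) ?_
    · rw [Ideal.map_sup, Ideal.map_span, Set.image_pair]
      refine sup_le ?_ le_rfl
      rw [(Ideal.map_eq_bot_iff_le_ker _).2 (by rw [Ideal.mk_ker])]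
      exact bot_le
    · rw [← Set.image_pair mk, ← Ideal.map_span]
      refine Ideal.map_mono (Ideal.span_le.2 ?_)
      rintro _ (rfl | rfl)
      · exact hu
      · exact hv
  let φT : L ⧸ J →+* A := Ideal.Quotient.lift J φ fun t ht => hJ ht
  haveI : IsLocalHom φT := IsLocalHom.of_surjective φT (Ideal.Quotient.lift_surjective_of_surjective _ _ hφ)
  have hrel' : mk a * mk u ^ 2 + mk b * mk u * mk v + mk c * mk v ^ 2 ∈ maximalIdeal (L ⧸ J) ^ 3 := by
    have h1 : mk (a * u ^ 2 + b * u * v + c * v ^ 2 - z) = 0 := Ideal.Quotient.eq_zero_iff_mem.2 hrel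
    rw [map_sub, sub_eq_zero] at h1
    simp only [map_add, map_mul, map_pow] at h1
    rw [h1, ← hmk, ← Ideal.map_pow]
    exact Ideal.mem_map_of_mem _ hz
  have hdT : IsUnit (4 * mk a * mk c - mk b ^ 2) := by
    refine isUnit_of_map_unit φT _ ?_
    simpa [map_sub, map_mul, map_pow, map_ofNat, φT, mk] using hd
  intro t ht
  by_contra htJ
  obtain ⟨g', hg'⟩ := principal_of_relation hmT hdT hrel' φT (Ideal.Quotient.lift_surjective_of_surjective _ _ hφ)
    (fun hinj => htJ (Ideal.Quotient.eq_zero_iff_mem.1 (hinj ((show φT (mk t) = φ t from rfl).trans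
      ((RingHom.mem_ker.1 ht : φ t = 0).trans (map_zero φT).symm))))) hem he
  exact hpr g' hg'

/-- The maximal ideal of a local algebra unramified over affine space at the origin. -/
theorem maximalIdeal_le_of_unramified {R L : Type u} [CommRing R] [CommRing L] [IsLocalRing L] [Algebra R L]
    {τ : Type} [Algebra (MvPolynomial τ R) L] [IsScalarTower R (MvPolynomial τ R) L]
    [Algebra.FormallyUnramified (MvPolynomial τ R) L] [Algebra.EssFiniteType (MvPolynomial τ R) L]
    (hX : ∀ j, algebraMap (MvPolynomial τ R) L (MvPolynomial.X j) ∈ maximalIdeal L) :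
    maximalIdeal L ≤ Ideal.span (Set.range fun j => algebraMap (MvPolynomial τ R) L (MvPolynomial.X j)) ⊔
      ((maximalIdeal L).comap (algebraMap R L)).map (algebraMap R L) := by
  let B := MvPolynomial τ R
  let QB : Ideal B := (maximalIdeal L).comap (algebraMap B L)
  let Bb := Localization.AtPrime QB
  let toL' : Bb →+* L := IsLocalization.lift (M := QB.primeCompl) (g := algebraMap B L)
    fun t => of_not_not fun hu => t.2 ((mem_maximalIdeal _).2 hu)
  algebraize [toL']
  have : IsScalarTower B Bb L := IsScalarTower.of_algebraMap_eq fun t => (IsLocalization.lift_eq _ t).symm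
  have : IsLocalHom (algebraMap Bb L) := ⟨fun t ht => by
    obtain ⟨t₀, t₁, rfl⟩ := IsLocalization.exists_mk'_eq QB.primeCompl t
    refine (IsLocalization.AtPrime.isUnit_mk'_iff Bb QB t₀ t₁).2 fun ht₀ => ?_
    have h2 := ht.mul (((IsLocalization.map_units Bb t₁).map (algebraMap Bb L)))
    rw [← map_mul, IsLocalization.mk'_spec, ← IsScalarTower.algebraMap_apply] at h2
    exact (mem_maximalIdeal _).1 ht₀ h2⟩
  have : Algebra.FormallyUnramified Bb L := Algebra.FormallyUnramified.of_restrictScalars B Bb L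
  have : Algebra.EssFiniteType Bb L := Algebra.EssFiniteType.of_comp B Bb L
  refine le_trans (le_of_eq (Algebra.FormallyUnramified.map_maximalIdeal (R := Bb) (S := L)).symm) ?_
  rw [← IsLocalization.AtPrime.map_eq_maximalIdeal QB Bb, Ideal.map_map, ← IsScalarTower.algebraMap_eq,
    Ideal.map_le_iff_le_comap]
  intro t ht
  let M : Ideal L := Ideal.span (Set.range fun j => algebraMap B L (MvPolynomial.X j))
  have hM : M ≤ maximalIdeal L := by
    rw [Ideal.span_le]
    rintro _ ⟨j, rfl⟩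
    exact hX j
  have h1 : algebraMap B L (t - MvPolynomial.C (MvPolynomial.constantCoeff t)) ∈ M := by
    have := Ideal.mem_map_of_mem (algebraMap B L) (sub_constantCoeff_mem t)
    rw [Ideal.map_span, ← Set.range_comp] at this
    exact this
  rw [map_sub] at h1
  have h2 : algebraMap B L (MvPolynomial.C (MvPolynomial.constantCoeff t)) =
      algebraMap R L (MvPolynomial.constantCoeff t) := (IsScalarTower.algebraMap_apply R B L _).symm
  rw [h2] at h1
  have h3 : MvPolynomial.constantCoeff t ∈ (maximalIdeal L).comap (algebraMap R L) := by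
    have := sub_mem (show algebraMap B L t ∈ maximalIdeal L from ht) (hM h1)
    rwa [sub_sub_cancel] at this
  have := add_mem (Ideal.mem_sup_left (T := ((maximalIdeal L).comap (algebraMap R L)).map (algebraMap R L)) h1)
    (Ideal.mem_sup_right (S := M) (Ideal.mem_map_of_mem (algebraMap R L) h3))
  rwa [sub_add_cancel] at this

/-- A polynomial form of a relation in a localization. -/
theorem exists_relation_of_localization {S : Type u} [CommRing S] (Q : Ideal S) [Q.IsPrime] (M : Ideal S)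
    {a b c i z π : Localization.AtPrime Q} {F u v : S} {s : Q.primeCompl}
    (hd : IsUnit (4 * a * c - b ^ 2)) (hi : i * algebraMap S _ (s : S) = algebraMap S _ F)
    (hsum : i + π = a * algebraMap S _ u ^ 2 + b * algebraMap S _ u * algebraMap S _ v +
      c * algebraMap S _ v ^ 2 - z)
    (hz : z + π ∈ M.map (algebraMap S (Localization.AtPrime Q))) :
    ∃ w A B C : S, w ∉ Q ∧ 4 * A * C - B ^ 2 ∉ Q ∧ w * F - (A * u ^ 2 + B * u * v + C * v ^ 2) ∈ M := by
  let L := Localization.AtPrime Q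
  obtain ⟨⟨A₁, σa⟩, ea⟩ := IsLocalization.surj Q.primeCompl a
  obtain ⟨⟨B₁, σb⟩, eb⟩ := IsLocalization.surj Q.primeCompl b
  obtain ⟨⟨C₁, σc⟩, ec⟩ := IsLocalization.surj Q.primeCompl c
  replace ea : a * algebraMap S L σa = algebraMap S L A₁ := ea
  replace eb : b * algebraMap S L σb = algebraMap S L B₁ := eb
  replace ec : c * algebraMap S L σc = algebraMap S L C₁ := ec
  let A₂ := A₁ * (σb * σc * s)
  let B₂ := B₁ * (σa * σc * s)
  let C₂ := C₁ * (σa * σb * s)
  let w₂ : S := σa * σb * σc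
  have hmem : algebraMap S L (w₂ * F - (A₂ * u ^ 2 + B₂ * u * v + C₂ * v ^ 2)) ∈ M.map (algebraMap S L) := by
    have e : algebraMap S L (w₂ * F - (A₂ * u ^ 2 + B₂ * u * v + C₂ * v ^ 2)) =
        -(algebraMap S L σa * algebraMap S L σb * algebraMap S L σc * algebraMap S L s) * (z + π) := by
      simp only [A₂, B₂, C₂, w₂, map_sub, map_add, map_mul, map_pow, ← ea, ← eb, ← ec, ← hi]
      linear_combination (algebraMap S L σa * algebraMap S L σb * algebraMap S L σc * algebraMap S L s) * hsum -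
        (algebraMap S L σa * algebraMap S L σb * algebraMap S L σc) * hi
    rw [e]
    exact Ideal.mul_mem_left _ _ hz
  obtain ⟨⟨⟨m, hm⟩, σ⟩, hσ⟩ := (IsLocalization.mem_map_algebraMap_iff Q.primeCompl L).1 hmem
  rw [← map_mul] at hσ
  obtain ⟨τ, hτ⟩ := (IsLocalization.eq_iff_exists Q.primeCompl L).1 hσ
  let T : S := τ * σ
  have hT : T ∈ Q.primeCompl := mul_mem τ.2 σ.2
  refine ⟨T * w₂, T * A₂, T * B₂, T * C₂, mul_mem hT (mul_mem (mul_mem σa.2 σb.2) σc.2), ?_, ?_⟩
  · have e : algebraMap S L (4 * (T * A₂) * (T * C₂) - (T * B₂) ^ 2) =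
        algebraMap S L (T * (σa * σb * σc * s)) ^ 2 * (4 * a * c - b ^ 2) := by
      simp only [A₂, B₂, C₂, map_sub, map_mul, map_pow, map_ofNat, ← ea, ← eb, ← ec]
      ring
    intro hmem'
    rw [← IsLocalization.AtPrime.to_map_mem_maximal_iff L Q, e] at hmem'
    refine (mem_maximalIdeal _).1 hmem' (IsUnit.mul (IsUnit.pow _ ?_) hd)
    exact IsLocalization.map_units L (⟨_, mul_mem hT (mul_mem (mul_mem (mul_mem σa.2 σb.2) σc.2) s.2)⟩ : Q.primeCompl)
  · have e : T * w₂ * F - (T * A₂ * u ^ 2 + T * B₂ * u * v + T * C₂ * v ^ 2) = τ * m := by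
      rw [← hτ]; ring
    rw [e]
    exact Ideal.mul_mem_left _ _ hm

/-- The Hessian in the given coordinates. -/
abbrev hess (R P : Type u) [CommRing R] [CommRing P] [Algebra R P] [Algebra (MvPolynomial (Fin 2) R) P]
    [IsScalarTower R (MvPolynomial (Fin 2) R) P] [Algebra.FormallyEtale (MvPolynomial (Fin 2) R) P] (F : P) : P :=
  (Matrix.of fun i j : Fin 2 => pd R P i (pd R P j F)).det

/-- A quadratic relation in coordinates makes a critical point with invertible Hessian. -/
theorem critical_of_relation {R P : Type u} [CommRing R] [CommRing P] [Algebra R P]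
    [Algebra (MvPolynomial (Fin 2) R) P] [IsScalarTower R (MvPolynomial (Fin 2) R) P]
    [Algebra.FormallyEtale (MvPolynomial (Fin 2) R) P] {p : Ideal R} {Q : Ideal P} [Q.IsPrime]
    (hpQ : p.map (algebraMap R P) ≤ Q) {F w a b c u v : P}
    (hu : u = algebraMap (MvPolynomial (Fin 2) R) P (MvPolynomial.X 0))
    (hv : v = algebraMap (MvPolynomial (Fin 2) R) P (MvPolynomial.X 1))
    (huQ : u ∈ Q) (hvQ : v ∈ Q) (hFQ : F ∈ Q) (hw : w ∉ Q) (hdisc : 4 * a * c - b ^ 2 ∉ Q)
    (hN : w * F - (a * u ^ 2 + b * u * v + c * v ^ 2) ∈ Q ^ 3 ⊔ p.map (algebraMap R P)) :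
    (∀ i : Fin 2, pd R P i F ∈ Q) ∧ hess R P F ∉ Q := by
  generalize hNe : w * F - (a * u ^ 2 + b * u * v + c * v ^ 2) = N at hN
  have hDN : ∀ i : Fin 2, pd R P i N ∈ Q ^ 2 ⊔ p.map (algebraMap R P) := fun i => by
    obtain ⟨n₁, hn₁, n₂, hn₂, hn⟩ := Submodule.mem_sup.1 hN
    rw [← hn, map_add]
    exact add_mem (Ideal.mem_sup_left (derivation_mem_pow _ Q 2 hn₁)) (Ideal.mem_sup_right (derivation_mem_map _ p hn₂))
  have hDDN : ∀ i j : Fin 2, pd R P i (pd R P j N) ∈ Q := fun i j => by
    obtain ⟨n₁, hn₁, n₂, hn₂, hn⟩ := Submodule.mem_sup.1 (hDN j)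
    rw [← hn, map_add]
    refine add_mem ?_ (hpQ (derivation_mem_map _ p hn₂))
    simpa using derivation_mem_pow (pd R P i) Q 1 hn₁
  have hu0 : Ideal.Quotient.mk Q u = 0 := Ideal.Quotient.eq_zero_iff_mem.2 huQ
  have hv0 : Ideal.Quotient.mk Q v = 0 := Ideal.Quotient.eq_zero_iff_mem.2 hvQ
  have hF0 : Ideal.Quotient.mk Q F = 0 := Ideal.Quotient.eq_zero_iff_mem.2 hFQ
  have hu1 : ∀ i, pd R P i u = if (0 : Fin 2) = i then 1 else 0 := fun i => by rw [hu, pd_X]
  have hv1 : ∀ i, pd R P i v = if (1 : Fin 2) = i then 1 else 0 := fun i => by rw [hv, pd_X]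
  have hwF : w * F = N + (a * u ^ 2 + b * u * v + c * v ^ 2) := by rw [← hNe]; ring
  have hw0 : Ideal.Quotient.mk Q w ≠ 0 := fun h0 => hw (Ideal.Quotient.eq_zero_iff_mem.1 h0)
  have hDF : ∀ i : Fin 2, pd R P i F ∈ Q := fun i => by
    have h1 := congrArg (fun t => Ideal.Quotient.mk Q (pd R P i t)) hwF
    simp only [Derivation.leibniz, pow_two, map_add, smul_eq_mul, map_mul, hu0, hv0, hF0, mul_zero, zero_mul,
      add_zero, zero_add] at h1
    rw [show Ideal.Quotient.mk Q (pd R P i N) = 0 from Ideal.Quotient.eq_zero_iff_mem.2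
      ((sup_le (Ideal.pow_le_self two_ne_zero) hpQ) (hDN i))] at h1
    exact Ideal.Quotient.eq_zero_iff_mem.1 ((mul_eq_zero.1 h1).resolve_left hw0)
  refine ⟨hDF, fun hH => ?_⟩
  have hDDF : ∀ i j : Fin 2, Ideal.Quotient.mk Q (w * pd R P i (pd R P j F)) =
      Ideal.Quotient.mk Q (a * (pd R P i u * pd R P j u + pd R P j u * pd R P i u) +
        b * (pd R P j u * pd R P i v + pd R P i u * pd R P j v) +
        c * (pd R P i v * pd R P j v + pd R P j v * pd R P i v)) := fun i j => by
    have h1 := congrArg (fun t => Ideal.Quotient.mk Q (pd R P i (pd R P j t))) hwF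
    have hFi : Ideal.Quotient.mk Q (pd R P i F) = 0 := Ideal.Quotient.eq_zero_iff_mem.2 (hDF i)
    have hFj : Ideal.Quotient.mk Q (pd R P j F) = 0 := Ideal.Quotient.eq_zero_iff_mem.2 (hDF j)
    simp only [Derivation.leibniz, pow_two, map_add, smul_eq_mul, map_mul, hu0, hv0, hF0, hFi, hFj, mul_zero,
      zero_mul, add_zero, zero_add] at h1
    rw [show Ideal.Quotient.mk Q (pd R P i (pd R P j N)) = 0 from Ideal.Quotient.eq_zero_iff_mem.2 (hDDN i j)] at h1
    simp only [map_add, map_mul]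
    linear_combination h1
  have e00 := hDDF 0 0
  have e01 := hDDF 0 1
  have e10 := hDDF 1 0
  have e11 := hDDF 1 1
  simp only [hu1, hv1] at e00 e01 e10 e11
  simp at e00 e01 e10 e11
  have h0 : Ideal.Quotient.mk Q (4 * a * c - b ^ 2) = Ideal.Quotient.mk Q w ^ 2 *
      Ideal.Quotient.mk Q (hess R P F) := by
    rw [hess, Matrix.det_fin_two]
    simp only [Matrix.of_apply, map_sub, map_mul, map_pow, map_ofNat]
    linear_combination -(2 * Ideal.Quotient.mk Q c) * e00 -
      (Ideal.Quotient.mk Q w * Ideal.Quotient.mk Q (pd R P (0 : Fin 2) (pd R P (0 : Fin 2) F))) * e11 +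
      Ideal.Quotient.mk Q b * e10 +
      (Ideal.Quotient.mk Q w * Ideal.Quotient.mk Q (pd R P (1 : Fin 2) (pd R P (0 : Fin 2) F))) * e01
  rw [Ideal.Quotient.eq_zero_iff_mem.2 hH, mul_zero, Ideal.Quotient.eq_zero_iff_mem] at h0
  exact hdisc h0

/-- The hypersurface chart. -/
theorem exists_chart {R S C : Type u} [CommRing R] [CommRing S] [CommRing C] [Algebra R S] [Algebra R C]
    (π₀ : S →ₐ[R] C) (hπ₀ : Function.Surjective π₀) {r : ℕ} (g : Fin r → S) (hg : ∀ i, π₀ (g i) = 0)
    {F₀ : S} (hF₀ : π₀ F₀ = 0) (f h : S)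
    (hh : ∀ a, π₀ a = 0 → h * a ∈ Ideal.span {F₀} ⊔ Ideal.span (Set.range g)) :
    ∃ π : (Localization.Away (f * h) ⧸
        Ideal.span (Set.range fun i => algebraMap S (Localization.Away (f * h)) (g i))) →ₐ[R]
          Localization.Away (π₀ (f * h)),
      (∀ t, π (Ideal.Quotient.mk _ (algebraMap S _ t)) = algebraMap C _ (π₀ t)) ∧ Function.Surjective π ∧
      RingHom.ker π.toRingHom = Ideal.span {Ideal.Quotient.mk _ (algebraMap S _ F₀)} := by
  let G := f * h
  let Sg := Localization.Away G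
  let Jg : Ideal Sg := Ideal.span (Set.range fun i => algebraMap S Sg (g i))
  let hC : C := π₀ G
  let Ch := Localization.Away hC
  have hunitG : IsUnit (algebraMap C Ch (π₀ G)) := IsLocalization.Away.algebraMap_isUnit (S := Ch) hC
  let toC : Sg →+* Ch := IsLocalization.Away.lift G (g := (algebraMap C Ch).comp π₀.toRingHom) hunitG
  have htoC : ∀ t : S, toC (algebraMap S Sg t) = algebraMap C Ch (π₀ t) := fun t =>
    IsLocalization.Away.lift_eq G hunitG t
  have hJg : ∀ t ∈ Jg, toC t = 0 := by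
    intro t ht
    refine (Ideal.span_le (I := RingHom.ker toC)).2 ?_ ht
    rintro _ ⟨i, rfl⟩
    show toC (algebraMap S Sg (g i)) = 0
    rw [htoC, hg, map_zero]
  let π : (Sg ⧸ Jg) →ₐ[R] Ch :=
    { Ideal.Quotient.lift Jg toC hJg with
      commutes' := fun t => (congrArg toC (IsScalarTower.algebraMap_apply R S Sg t)).trans ((htoC _).trans
        ((congrArg _ (π₀.commutes t)).trans (IsScalarTower.algebraMap_apply R C Ch t).symm)) }
  let toP : S →+* Sg ⧸ Jg := (Ideal.Quotient.mk Jg).comp (algebraMap S Sg)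
  have hπP : ∀ t, π (toP t) = algebraMap C Ch (π₀ t) := htoC
  have hGu : IsUnit (toP G) := (IsLocalization.Away.algebraMap_isUnit (S := Sg) G).map (Ideal.Quotient.mk Jg)
  refine ⟨π, hπP, fun t => ?_, le_antisymm (fun t ht => ?_) ((Ideal.span_singleton_le_iff_mem _).2 ?_)⟩
  · obtain ⟨t₀, ⟨_, m, rfl⟩, rfl⟩ := IsLocalization.exists_mk'_eq (Submonoid.powers hC) t
    obtain ⟨s₀, rfl⟩ := hπ₀ t₀
    obtain ⟨gi, hgi⟩ := hGu.exists_right_inv
    refine ⟨toP s₀ * gi ^ m, ?_⟩
    rw [IsLocalization.eq_mk'_iff_mul_eq]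
    show π (toP s₀ * gi ^ m) * algebraMap C Ch (hC ^ m) = algebraMap C Ch (π₀ s₀)
    rw [map_mul, map_pow, hπP, map_pow, show algebraMap C Ch hC = π (toP G) from (hπP G).symm, mul_assoc, ← mul_pow, ← map_mul, mul_comm gi, hgi,
      map_one, one_pow, mul_one]
  · obtain ⟨t, rfl⟩ := Ideal.Quotient.mk_surjective t
    obtain ⟨s₀, ⟨_, m, rfl⟩, rfl⟩ := IsLocalization.exists_mk'_eq (Submonoid.powers G) t
    have h1 : toC (IsLocalization.mk' Sg s₀ (⟨G ^ m, m, rfl⟩ : Submonoid.powers G)) = 0 := ht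
    have h2 : toC (algebraMap S Sg s₀) = 0 := by
      rw [← IsLocalization.mk'_spec Sg s₀ (⟨G ^ m, m, rfl⟩ : Submonoid.powers G), map_mul, h1, zero_mul]
    rw [htoC, IsLocalization.map_eq_zero_iff (Submonoid.powers hC)] at h2
    obtain ⟨⟨_, j, rfl⟩, hj⟩ := h2
    have h3 : π₀ (G ^ j * s₀) = 0 := by
      rw [map_mul, map_pow]
      exact hj
    have h4 : toP (h * (G ^ j * s₀)) ∈ Ideal.span {toP F₀} := by
      have := Ideal.mem_map_of_mem toP (hh _ h3)
      rw [Ideal.map_sup, Ideal.map_span, Ideal.map_span, Set.image_singleton,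
        (Ideal.span_eq_bot (s := toP '' Set.range g)).2 (by
          rintro _ ⟨_, ⟨i, rfl⟩, rfl⟩
          exact Ideal.Quotient.eq_zero_iff_mem.2 (Ideal.subset_span ⟨i, rfl⟩)), sup_bot_eq] at this
      exact this
    have hhu : IsUnit (toP h) := by
      have := hGu
      rw [map_mul] at this
      exact isUnit_of_mul_isUnit_right this
    rw [map_mul, map_mul, map_pow, Ideal.unit_mul_mem_iff_mem _ hhu,
      Ideal.unit_mul_mem_iff_mem _ (hGu.pow j)] at h4
    have h5 : toP s₀ = Ideal.Quotient.mk Jg (IsLocalization.mk' Sg s₀ (⟨G ^ m, m, rfl⟩ : Submonoid.powers G)) *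
        toP G ^ m := by
      rw [← map_pow]
      show Ideal.Quotient.mk Jg (algebraMap S Sg s₀) =
        Ideal.Quotient.mk Jg _ * Ideal.Quotient.mk Jg (algebraMap S Sg (G ^ m))
      rw [← map_mul, IsLocalization.mk'_spec]
    rw [h5, Ideal.mul_unit_mem_iff_mem _ (hGu.pow m)] at h4
    exact h4
  · show π (toP F₀) = 0
    rw [hπP, hF₀, map_zero]

/-- Equations of a quadratic point of a fibre. -/
theorem exists_presentation {R C : Type u} [CommRing R] [CommRing C] [Algebra R C]
    [Module.Flat R C] {n : ℕ} (π₀ : MvPolynomial (Fin n) R →ₐ[R] C) (hπ₀ : Function.Surjective π₀)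
    (hIfg : (RingHom.ker π₀.toRingHom).FG) (q : Ideal C) [q.IsPrime]
    {k A : Type u} [Field k] [Algebra R k] [Algebra.FormallyUnramified R k]
    [CommRing A] [IsLocalRing A] [Algebra R A] [Algebra k A] [IsScalarTower R k A]
    [Algebra.IsSeparable k (ResidueField A)]
    (φC : Localization.AtPrime q →ₐ[R] A) (hφC : Function.Surjective φC)
    (hker : RingHom.ker φC.toRingHom =
      (q.comap (algebraMap R C)).map (algebraMap R (Localization.AtPrime q)))
    (hA : IsQuadPt A) :
    ∃ (r : ℕ) (g : Fin r → MvPolynomial (Fin n) R) (u v F₀ f h w A₀ B₀ C₀ : MvPolynomial (Fin n) R),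
      (∀ i, π₀ (g i) = 0) ∧ π₀ F₀ = 0 ∧ π₀ u ∈ q ∧ π₀ v ∈ q ∧ π₀ (f * h) ∉ q ∧ π₀ w ∉ q ∧
      π₀ (4 * A₀ * C₀ - B₀ ^ 2) ∉ q ∧
      (MvPolynomial.aeval (fun j => algebraMap (MvPolynomial (Fin n) R) (Localization.Away f) (Sum.elim g ![u, v] j)) :
        MvPolynomial (Fin r ⊕ Fin 2) R →ₐ[R] Localization.Away f).toRingHom.Etale ∧
      (∀ a, π₀ a = 0 → h * a ∈ Ideal.span {F₀} ⊔ Ideal.span (Set.range g)) ∧
      w * F₀ - (A₀ * u ^ 2 + B₀ * u * v + C₀ * v ^ 2) ∈ (q.comap π₀.toRingHom) ^ 3 ⊔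
        ((q.comap π₀.toRingHom).comap (algebraMap R (MvPolynomial (Fin n) R))).map
          (algebraMap R (MvPolynomial (Fin n) R)) := by
  classical
  let S := MvPolynomial (Fin n) R
  let I : Ideal S := RingHom.ker π₀.toRingHom
  let Q₀ : Ideal S := q.comap π₀.toRingHom
  let L := Localization.AtPrime Q₀
  let lr : L →+* Localization.AtPrime q := Localization.localRingHom Q₀ q π₀.toRingHom rfl
  obtain ⟨hlr, hlrker⟩ := Unr55.Coord.surjective_ker_localRingHom π₀.toRingHom hπ₀ q
  have hlrS : ∀ s : S, lr (algebraMap S L s) = algebraMap C (Localization.AtPrime q) (π₀ s) := fun s =>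
    Localization.localRingHom_to_map _ _ _ _ _
  let lrₐ : L →ₐ[R] Localization.AtPrime q :=
    { lr with
      commutes' := fun t => (congrArg lr (IsScalarTower.algebraMap_apply R S L t)).trans ((hlrS _).trans
        ((congrArg _ (π₀.commutes t)).trans (IsScalarTower.algebraMap_apply R C (Localization.AtPrime q) t).symm)) }
  let φ : L →ₐ[R] A := φC.comp lrₐ
  have hφ : Function.Surjective φ := hφC.comp hlr
  let p : Ideal R := Q₀.comap (algebraMap R S)
  have hp : q.comap (algebraMap R C) = p := by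
    show _ = (q.comap π₀.toRingHom).comap (algebraMap R S)
    rw [Ideal.comap_comap]
    congr 1
    exact π₀.comp_algebraMap.symm
  let IL : Ideal L := I.map (algebraMap S L)
  let pL : Ideal L := p.map (algebraMap R L)
  have hkerφ : RingHom.ker φ.toRingHom = IL ⊔ pL := by
    show RingHom.ker (φC.toRingHom.comp lr) = _
    rw [← RingHom.comap_ker, hker, hp,
      show p.map (algebraMap R (Localization.AtPrime q)) = pL.map lr by
        rw [Ideal.map_map]; congr 1; exact lrₐ.comp_algebraMap.symm,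
      Ideal.comap_map_of_surjective' _ hlr, sup_comm]
    congr 1
  have hkerφ' : RingHom.ker φ.toRingHom =
      (I ⊔ (Q₀.comap (algebraMap R S)).map (algebraMap R S)).map (algebraMap S L) := by
    rw [hkerφ, Ideal.map_sup, Ideal.map_map, ← IsScalarTower.algebraMap_eq]
  have : Algebra.FormallyEtale S L := Algebra.FormallyEtale.of_isLocalization Q₀.primeCompl
  have hsm : Algebra.IsSmoothAt R Q₀ := Algebra.FormallySmooth.comp R S L
  have : Algebra.EssFiniteType S L := Algebra.EssFiniteType.of_isLocalization L Q₀.primeCompl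
  have : Algebra.EssFiniteType R L := Algebra.EssFiniteType.comp R S L
  have hunitL : ∀ t ∉ p, IsUnit (algebraMap R L t) := fun t ht => by
    rw [IsScalarTower.algebraMap_apply R S L]
    exact IsLocalization.map_units L (⟨algebraMap R S t, ht⟩ : Q₀.primeCompl)
  have hnoeth : IsNoetherianRing A := by
    have : Algebra.EssFiniteType R A := Algebra.EssFiniteType.of_surjective φ hφ
    refine isNoetherianRing_of_killed p (fun t ht => ?_) fun t ht => ?_
    · rw [RingHom.mem_ker, ← φ.commutes t]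
      show φ.toRingHom _ = 0
      rw [← RingHom.mem_ker, hkerφ]
      exact Ideal.mem_sup_right (Ideal.mem_map_of_mem _ ht)
    · rw [← φ.commutes t]
      exact (hunitL t ht).map φ
  obtain ⟨x₀, y₀, a₀, b₀, c₀, hm₀, hd₀, hq₀, hpr, e₁, he₁, he₁'⟩ := hA
  obtain ⟨r, g, u, v, hgI, huQ, hvQ, hmA, f, hfQ, het⟩ :=
    exists_coordinates Q₀ I hsm (k := k) φ hφ hkerφ' hm₀ hpr
  -- the relation in the new generators
  obtain ⟨a, b, c, hd, hq⟩ : ∃ a b c : A, IsUnit (4 * a * c - b ^ 2) ∧
      a * φ (algebraMap S L u) ^ 2 + b * φ (algebraMap S L u) * φ (algebraMap S L v) +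
        c * φ (algebraMap S L v) ^ 2 ∈ maximalIdeal A ^ 3 := by
    have hA' : IsQuadPt A := ⟨x₀, y₀, a₀, b₀, c₀, hm₀, hd₀, hq₀, hpr, e₁, he₁, he₁'⟩
    obtain ⟨x, hx, y, hy, hmxy, a, b, c, hd, hq⟩ :=
      hA'.exists_subset {φ (algebraMap S L u), φ (algebraMap S L v)} hmA.symm
    rcases hx with rfl | rfl <;> rcases hy with rfl | rfl
    · exact absurd (hmxy.trans (by rw [Set.pair_eq_singleton])) (hpr _)
    · exact ⟨a, b, c, hd, hq⟩
    · exact ⟨c, b, a, by convert hd using 1; ring, by convert hq using 1; ring⟩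
    · exact absurd (hmxy.trans (by rw [Set.pair_eq_singleton])) (hpr _)
  obtain ⟨aL, rfl⟩ := hφ a
  obtain ⟨bL, rfl⟩ := hφ b
  obtain ⟨cL, rfl⟩ := hφ c
  let uL := algebraMap S L u
  let vL := algebraMap S L v
  have hφloc : IsLocalHom φ.toRingHom := IsLocalHom.of_surjective φ.toRingHom hφ
  have hq' : φ (aL * uL ^ 2 + bL * uL * vL + cL * vL ^ 2) ∈ (maximalIdeal L ^ 3).map φ.toRingHom := by
    rw [Ideal.map_pow, IsLocalRing.map_maximalIdeal_of_surjective φ.toRingHom hφ]
    simpa [map_add, map_mul, map_pow] using hq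
  obtain ⟨z, hz, hzq⟩ := (Ideal.mem_map_iff_of_surjective φ.toRingHom hφ).1 hq'
  have hτ : aL * uL ^ 2 + bL * uL * vL + cL * vL ^ 2 - z ∈ IL ⊔ pL := by
    rw [← hkerφ, RingHom.mem_ker, map_sub, hzq]
    exact sub_self _
  obtain ⟨i₀, hi₀, π₁, hπ₁, hiπ⟩ := Submodule.mem_sup.1 hτ
  obtain ⟨⟨⟨F₀, hF₀⟩, s⟩, his⟩ := (IsLocalization.mem_map_algebraMap_iff Q₀.primeCompl L).1 hi₀
  replace his : i₀ * algebraMap S L s = algebraMap S L F₀ := his
  have hsu : IsUnit (algebraMap S L (s : S)) := IsLocalization.map_units L s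
  -- the maximal ideal of the ambient local ring
  let Sf := Localization.Away f
  let B := MvPolynomial (Fin r ⊕ Fin 2) R
  algebraize [(MvPolynomial.aeval (fun j => algebraMap S Sf (Sum.elim g ![u, v] j)) : B →ₐ[R] Sf).toRingHom]
  have hff : IsUnit (algebraMap S L f) := IsLocalization.map_units L (⟨f, hfQ⟩ : Q₀.primeCompl)
  let toL : Sf →+* L := IsLocalization.Away.lift f hff
  algebraize [toL, toL.comp (algebraMap B Sf)]
  have : IsScalarTower S Sf L := IsScalarTower.of_algebraMap_eq fun t => (IsLocalization.Away.lift_eq f hff t).symm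
  have : Algebra.FormallyUnramified Sf L := Algebra.FormallyUnramified.of_restrictScalars S Sf L
  have : Algebra.FormallyUnramified B L := Algebra.FormallyUnramified.comp B Sf L
  have hBX : ∀ j, algebraMap B L (MvPolynomial.X j) = algebraMap S L (Sum.elim g ![u, v] j) := fun j => by
    show toL (MvPolynomial.aeval _ (MvPolynomial.X j)) = _
    rw [MvPolynomial.aeval_X]
    exact IsLocalization.Away.lift_eq f hff _
  have hBC : ∀ t, algebraMap B L (MvPolynomial.C t) = algebraMap R L t := fun t => by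
    show toL (MvPolynomial.aeval _ (MvPolynomial.C t)) = _
    rw [MvPolynomial.aeval_C, IsScalarTower.algebraMap_apply R S Sf, IsScalarTower.algebraMap_apply R S L]
    exact IsLocalization.Away.lift_eq f hff _
  have : IsScalarTower R B L := IsScalarTower.of_algebraMap_eq fun t => (hBC t).symm
  let gL : Ideal L := Ideal.span (Set.range fun i => algebraMap S L (g i))
  have hgIL : gL ≤ IL := by
    rw [Ideal.span_le]
    rintro _ ⟨i, rfl⟩
    exact Ideal.mem_map_of_mem _ (hgI i)
  have hmemQ : ∀ s : S, s ∈ Q₀ → algebraMap S L s ∈ maximalIdeal L := fun s hs =>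
    (IsLocalization.AtPrime.to_map_mem_maximal_iff L Q₀ _).2 hs
  have hgQ : ∀ i, g i ∈ Q₀ := fun i => by
    show π₀ (g i) ∈ q
    rw [show π₀ (g i) = 0 from hgI i]
    exact zero_mem _
  have hpL : (maximalIdeal L).comap (algebraMap R L) = p := by
    ext t
    rw [Ideal.mem_comap, IsScalarTower.algebraMap_apply R S L]
    exact IsLocalization.AtPrime.to_map_mem_maximal_iff L Q₀ _
  have : Algebra.EssFiniteType B L := Algebra.EssFiniteType.of_comp R B L
  have hmL : maximalIdeal L ≤ gL ⊔ pL ⊔ Ideal.span {uL, vL} := by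
    refine (maximalIdeal_le_of_unramified (R := R) (L := L) (τ := Fin r ⊕ Fin 2) fun j => ?_).trans ?_
    · rw [hBX]
      rcases j with i | i
      · exact hmemQ _ (hgQ i)
      · fin_cases i
        · exact hmemQ _ huQ
        · exact hmemQ _ hvQ
    · rw [hpL]
      refine sup_le (Ideal.span_le.2 ?_) (le_sup_of_le_left le_sup_right)
      rintro _ ⟨j, rfl⟩
      rw [SetLike.mem_coe, show (fun j => algebraMap B L (MvPolynomial.X j)) j = algebraMap S L (Sum.elim g ![u, v] j) from hBX j]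
      rcases j with i | i
      · exact Ideal.mem_sup_left (Ideal.mem_sup_left (Ideal.subset_span ⟨i, rfl⟩))
      · refine Ideal.mem_sup_right (Ideal.subset_span ?_)
        fin_cases i <;> simp [uL, vL]
  -- the kernel is generated by one element
  let FL := algebraMap S L F₀
  let J : Ideal L := Ideal.span {FL} ⊔ (gL ⊔ pL)
  have hJle : J ≤ RingHom.ker φ.toRingHom := by
    rw [hkerφ]
    exact sup_le ((Ideal.span_singleton_le_iff_mem _).2 (Ideal.mem_sup_left (Ideal.mem_map_of_mem _ hF₀)))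
      (sup_le_sup_right hgIL _)
  have hFLi : i₀ ∈ Ideal.span {FL} := by
    obtain ⟨si, hsi⟩ := hsu.exists_right_inv
    exact Ideal.mem_span_singleton'.2 ⟨si, by
      rw [show FL = i₀ * algebraMap S L s from his.symm]
      linear_combination i₀ * hsi⟩
  haveI : Algebra.EssFiniteType R (L ⧸ J) :=
    Algebra.EssFiniteType.of_surjective (Ideal.Quotient.mkₐ R J) Ideal.Quotient.mk_surjective
  haveI : IsNoetherianRing (L ⧸ J) := isNoetherianRing_of_killed (R := R) (T := L ⧸ J) p
    (fun t ht => (IsScalarTower.algebraMap_apply R L (L ⧸ J) t).trans (Ideal.Quotient.eq_zero_iff_mem.2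
      (Ideal.mem_sup_right (Ideal.mem_sup_right (Ideal.mem_map_of_mem _ ht)))))
    fun t ht => by rw [IsScalarTower.algebraMap_apply R L (L ⧸ J)]; exact (hunitL t ht).map _
  have hkerJ : RingHom.ker φ.toRingHom ≤ J :=
    ker_le_of_relation φ.toRingHom hφ J hJle (hmemQ _ huQ) (hmemQ _ hvQ)
      (hmL.trans (sup_le_sup_right le_sup_right _)) (by simpa [map_sub, map_mul, map_pow, map_ofNat] using hd) hz
      (by rw [← hiπ]; exact add_mem (Ideal.mem_sup_left hFLi) (Ideal.mem_sup_right (Ideal.mem_sup_right hπ₁)))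
      hpr he₁ he₁'
  let FG : Ideal S := Ideal.span {F₀} ⊔ Ideal.span (Set.range g)
  have hFG : FG.map (algebraMap S L) = Ideal.span {FL} ⊔ gL := by
    rw [Ideal.map_sup, Ideal.map_span, Ideal.map_span, Set.image_singleton, ← Set.range_comp]
    rfl
  have hkerlr : RingHom.ker lrₐ.toRingHom = IL := hlrker
  have hILle : IL ≤ FG.map (algebraMap S L) := by
    refine Submodule.le_of_le_smul_of_le_jacobson_bot (Ideal.FG.map hIfg _)
      (IsLocalRing.maximalIdeal_le_jacobson _) ?_
    intro t ht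
    have h1 : t ∈ Ideal.span {FL} ⊔ (gL ⊔ pL) := hkerJ (by rw [hkerφ]; exact Ideal.mem_sup_left ht)
    rw [← sup_assoc] at h1
    obtain ⟨t₁, ht₁, t₂, ht₂, rfl⟩ := Submodule.mem_sup.1 h1
    have ht₁' : t₁ ∈ IL := (sup_le ((Ideal.span_singleton_le_iff_mem _).2 (Ideal.mem_map_of_mem _ hF₀)) hgIL) ht₁
    have h2 : t₂ ∈ IL := by simpa using sub_mem ht ht₁'
    have h3 := ker_inf_map_le lrₐ hlr p ⟨hkerlr.ge h2, ht₂⟩
    rw [hkerlr] at h3
    refine add_mem (Submodule.mem_sup_left (hFG.ge ht₁)) (Submodule.mem_sup_right ?_)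
    rw [smul_eq_mul, mul_comm]
    refine Ideal.mul_mono_right (Ideal.map_le_iff_le_comap.2 fun w hw => ?_) h3
    rw [Ideal.mem_comap, IsScalarTower.algebraMap_apply R S L]
    exact (IsLocalization.AtPrime.to_map_mem_maximal_iff L Q₀ _).2 hw
  obtain ⟨h, hhQ, hh⟩ := exists_mul_mem Q₀ hIfg hILle
  obtain ⟨w, A₀, B₀, C₀, hwQ, hdisc, hrel⟩ : ∃ w A₀ B₀ C₀ : S, w ∉ Q₀ ∧ 4 * A₀ * C₀ - B₀ ^ 2 ∉ Q₀ ∧
      w * F₀ - (A₀ * u ^ 2 + B₀ * u * v + C₀ * v ^ 2) ∈ Q₀ ^ 3 ⊔ p.map (algebraMap R S) :=
    exists_relation_of_localization Q₀ _ (s := s)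
      (isUnit_of_map_unit φ.toRingHom _ (by simpa [map_sub, map_mul, map_pow, map_ofNat] using hd)) his hiπ (by
      rw [Ideal.map_sup, Ideal.map_pow, IsLocalization.AtPrime.map_eq_maximalIdeal, Ideal.map_map,
        ← IsScalarTower.algebraMap_eq]
      exact add_mem (Ideal.mem_sup_left hz) (Ideal.mem_sup_right hπ₁))
  exact ⟨r, g, u, v, F₀, f, h, w, A₀, B₀, C₀, hgI, hF₀, huQ, hvQ,
    fun hG => ((inferInstance : Q₀.IsPrime).mem_or_mem (show f * h ∈ Q₀ from hG)).elim hfQ hhQ,
    hwQ, hdisc, het, hh, hrel⟩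

/-- The chart with its coordinates. -/
theorem exists_etale_chart {R S C : Type u} [CommRing R] [CommRing S] [CommRing C] [Algebra R S] [Algebra R C]
    (π₀ : S →ₐ[R] C) (hπ₀ : Function.Surjective π₀) {r : ℕ} (g : Fin r → S) (hg : ∀ i, π₀ (g i) = 0) (u v : S)
    {F₀ : S} (hF₀ : π₀ F₀ = 0) (f h : S)
    (het : (MvPolynomial.aeval (fun j => algebraMap S (Localization.Away f) (Sum.elim g ![u, v] j)) :
      MvPolynomial (Fin r ⊕ Fin 2) R →ₐ[R] Localization.Away f).toRingHom.Etale)
    [Algebra.FinitePresentation R S]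
    (hh : ∀ a, π₀ a = 0 → h * a ∈ Ideal.span {F₀} ⊔ Ideal.span (Set.range g)) :
    ∃ (P : Type u) (_ : CommRing P) (_ : Algebra R P) (_ : Algebra (MvPolynomial (Fin 2) R) P)
      (_ : IsScalarTower R (MvPolynomial (Fin 2) R) P) (_ : Algebra.Etale (MvPolynomial (Fin 2) R) P)
      (toP : S →ₐ[R] P) (π : P →ₐ[R] Localization.Away (π₀ (f * h))),
      algebraMap (MvPolynomial (Fin 2) R) P (MvPolynomial.X 0) = toP u ∧
      algebraMap (MvPolynomial (Fin 2) R) P (MvPolynomial.X 1) = toP v ∧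
      (∀ t, π (toP t) = algebraMap C _ (π₀ t)) ∧ Function.Surjective π ∧
      RingHom.ker π.toRingHom = Ideal.span {toP F₀} := by
  let G := f * h
  let Sg := Localization.Away G
  have hetG := Unr55.Coord.etale_aeval_mul R (Sum.elim g ![u, v]) f h het
  have hetP := etale_quot_coords _ hetG
  let Jg : Ideal Sg := Ideal.span (Set.range fun i => algebraMap S Sg (g i))
  let aev : MvPolynomial (Fin 2) R →ₐ[R] Sg ⧸ Jg :=
    MvPolynomial.aeval fun j => Ideal.Quotient.mk Jg (algebraMap S Sg (Sum.elim g ![u, v] (Sum.inr j)))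
  obtain ⟨π, hπP, hπsurj, hker⟩ := exists_chart π₀ hπ₀ g hg hF₀ f h hh
  refine ⟨Sg ⧸ Jg, inferInstance, inferInstance, aev.toRingHom.toAlgebra, ?_, ?_,
    (Ideal.Quotient.mkₐ R Jg).comp (IsScalarTower.toAlgHom R S Sg), π, ?_, ?_, hπP, hπsurj, hker⟩
  · letI := aev.toRingHom.toAlgebra
    exact IsScalarTower.of_algebraMap_eq fun t => (aev.commutes t).symm
  · letI := aev.toRingHom.toAlgebra
    exact RingHom.etale_algebraMap.1 hetP
  · exact MvPolynomial.aeval_X _ _
  · exact MvPolynomial.aeval_X _ _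

/-- The point of the chart is critical. -/
theorem critical_of_chart {R S C P : Type u} [CommRing R] [CommRing S] [CommRing C] [CommRing P] [Algebra R S]
    [Algebra R C] [Algebra R P] [Algebra (MvPolynomial (Fin 2) R) P] [IsScalarTower R (MvPolynomial (Fin 2) R) P]
    [Algebra.FormallyEtale (MvPolynomial (Fin 2) R) P] (π₀ : S →ₐ[R] C) (q : Ideal C) [q.IsPrime] {G : C}
    (π : P →ₐ[R] Localization.Away G) (toP : S →ₐ[R] P) (hπP : ∀ t, π (toP t) = algebraMap C _ (π₀ t))
    {u v F₀ w A₀ B₀ C₀ : S} (hu : algebraMap (MvPolynomial (Fin 2) R) P (MvPolynomial.X 0) = toP u)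
    (hv : algebraMap (MvPolynomial (Fin 2) R) P (MvPolynomial.X 1) = toP v)
    (huQ : π₀ u ∈ q) (hvQ : π₀ v ∈ q) (hGQ : G ∉ q) (hwQ : π₀ w ∉ q)
    (hdisc : π₀ (4 * A₀ * C₀ - B₀ ^ 2) ∉ q) (hF₀ : π₀ F₀ = 0)
    (hrel : w * F₀ - (A₀ * u ^ 2 + B₀ * u * v + C₀ * v ^ 2) ∈ (q.comap π₀.toRingHom) ^ 3 ⊔
      ((q.comap π₀.toRingHom).comap (algebraMap R S)).map (algebraMap R S)) :
    let Q := (q.map (algebraMap C (Localization.Away G))).comap π.toRingHom
    Q.IsPrime ∧ (q.map (algebraMap C (Localization.Away G))).comap π.toRingHom = Q ∧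
      toP F₀ ∈ Q ∧ (∀ i : Fin 2, pd R P i (toP F₀) ∈ Q) ∧ hess R P (toP F₀) ∉ Q := by
  intro Q
  let Q₀ : Ideal S := q.comap π₀.toRingHom
  let p : Ideal R := Q₀.comap (algebraMap R S)
  let Ch := Localization.Away G
  have hdisj : Disjoint (Submonoid.powers G : Set C) q := by
    rw [Set.disjoint_left]
    rintro _ ⟨m, rfl⟩ hm
    exact hGQ ((inferInstance : q.IsPrime).mem_of_pow_mem m hm)
  have hqh : (q.map (algebraMap C Ch)).IsPrime :=
    IsLocalization.isPrime_of_isPrime_disjoint (Submonoid.powers G) Ch q inferInstance hdisj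
  haveI : Q.IsPrime := Ideal.IsPrime.comap _
  have hQmem : ∀ t : S, toP t ∈ Q ↔ t ∈ Q₀ := fun t => by
    show π (toP t) ∈ q.map (algebraMap C Ch) ↔ π₀ t ∈ q
    rw [hπP]
    exact SetLike.ext_iff.1
      (IsLocalization.under_map_of_isPrime_disjoint (Submonoid.powers G) Ch inferInstance hdisj) (π₀ t)
  have hFQ : toP F₀ ∈ Q := (hQmem F₀).2 (by show π₀ F₀ ∈ q; rw [hF₀]; exact zero_mem _)
  have hrel' : toP w * toP F₀ - (toP A₀ * toP u ^ 2 + toP B₀ * toP u * toP v + toP C₀ * toP v ^ 2) ∈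
      Q ^ 3 ⊔ p.map (algebraMap R P) := by
    have h1 := Ideal.mem_map_of_mem toP.toRingHom hrel
    rw [Ideal.map_sup, Ideal.map_pow, Ideal.map_map,
      show toP.toRingHom.comp (algebraMap R S) = algebraMap R P from toP.comp_algebraMap] at h1
    have h2 : (Q₀.map toP.toRingHom) ^ 3 ⊔ p.map (algebraMap R P) ≤ Q ^ 3 ⊔ p.map (algebraMap R P) :=
      sup_le_sup_right (Ideal.pow_right_mono (Ideal.map_le_iff_le_comap.2 fun t ht => (hQmem t).2 ht) 3) _
    have := h2 h1
    simpa [map_sub, map_add, map_mul, map_pow] using this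
  have hpQ : p.map (algebraMap R P) ≤ Q := Ideal.map_le_iff_le_comap.2 fun t ht => by
    rw [Ideal.mem_comap, ← toP.commutes t]
    exact (hQmem _).2 ht
  obtain ⟨hDF, hhess⟩ := critical_of_relation hpQ hu.symm hv.symm ((hQmem u).2 huQ) ((hQmem v).2 hvQ) hFQ
    (fun h => hwQ ((hQmem w).1 h))
    (fun h => hdisc ((hQmem _).1 (by simpa [map_sub, map_mul, map_pow, map_ofNat] using h))) hrel'
  exact ⟨inferInstance, rfl, hFQ, hDF, hhess⟩

/-- A quadratic point of a fibre, with separable residue field, of a flat algebra of finite presentation is a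
critical point, with invertible Hessian, of a hypersurface in an algebra etale over the affine plane. -/
theorem exists_hypersurface {R C : Type u} [CommRing R] [CommRing C] [Algebra R C]
    [Algebra.FinitePresentation R C] [Module.Flat R C] (q : Ideal C) [q.IsPrime]
    {k A : Type u} [Field k] [Algebra R k] [Algebra.FormallyUnramified R k]
    [CommRing A] [IsLocalRing A] [Algebra R A] [Algebra k A] [IsScalarTower R k A]
    [Algebra.IsSeparable k (ResidueField A)]
    (φC : Localization.AtPrime q →ₐ[R] A) (hφC : Function.Surjective φC)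
    (hker : RingHom.ker φC.toRingHom =
      (q.comap (algebraMap R C)).map (algebraMap R (Localization.AtPrime q)))
    (hA : IsQuadPt A) :
    ∃ h ∉ q, ∃ (P : Type u) (_ : CommRing P) (_ : Algebra R P) (_ : Algebra (MvPolynomial (Fin 2) R) P)
      (_ : IsScalarTower R (MvPolynomial (Fin 2) R) P) (_ : Algebra.Etale (MvPolynomial (Fin 2) R) P)
      (π : P →ₐ[R] Localization.Away h) (F : P) (Q : Ideal P),
      Function.Surjective π ∧ RingHom.ker π.toRingHom = Ideal.span {F} ∧ Q.IsPrime ∧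
      (q.map (algebraMap C (Localization.Away h))).comap π.toRingHom = Q ∧
      F ∈ Q ∧ (∀ i : Fin 2, pd R P i F ∈ Q) ∧ hess R P F ∉ Q := by
  classical
  obtain ⟨n, π₀, hπ₀, hIfg⟩ := Algebra.FinitePresentation.out (R := R) (A := C)
  obtain ⟨r, g, u, v, F₀, f, h, w, A₀, B₀, C₀, hgI, hF₀, huQ, hvQ, hGQ, hwQ, hdisc, het, hh, hrel⟩ :=
    exists_presentation π₀ hπ₀ hIfg q φC hφC hker hA (k := k)
  obtain ⟨P, _, _, _, _, hetale, toP, π, hu, hv, hπP, hπsurj, hker'⟩ :=
    exists_etale_chart π₀ hπ₀ g hgI u v hF₀ f h het hh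
  exact ⟨π₀ (f * h), hGQ, P, inferInstance, inferInstance, inferInstance, inferInstance, hetale, π, toP F₀,
    (q.map (algebraMap C _)).comap π.toRingHom, hπsurj, hker',
    critical_of_chart π₀ q π toP hπP hu hv huQ hvQ hGQ hwQ hdisc hF₀ hrel⟩

end Groth.Agent.Node12.Loc
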