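import Groth.Agent.S1591
import Groth.Agent.Approx60.FlatDesc

/-!
# Nodal families descend along cofiltered limits
-/

set_option autoImplicit false
set_option linter.style.haveILetI false
set_option maxHeartbeats 1600000
set_option backward.isDefEq.respectTransparency.types false

universe u

open CategoryTheory Limits AlgebraicGeometry TopologicalSpace

noncomputable section

namespace Groth.Agent.Node12.Loc

/-- The property of being a nodal family. -/
def nodalProp : MorphismProperty Scheme.{u} := fun _ _ f => Curv2.IsNodalFamily f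

instance isStableUnderBaseChange_nodalProp : MorphismProperty.IsStableUnderBaseChange nodalProp.{u} :=
  ⟨fun h hg => isNodalFamily_of_isPullback h hg⟩

theorem respectsIso_nodalProp : MorphismProperty.RespectsIso nodalProp.{u} :=
  MorphismProperty.IsStableUnderBaseChange.respectsIso

theorem nodal_top_iff {X S : Scheme.{u}} (f : X ⟶ S) :
    Curv2.IsNodalFamily ((⊤ : X.Opens).ι ≫ f) ↔ Curv2.IsNodalFamily f := by
  have := respectsIso_nodalProp.{u}
  have : IsIso (⊤ : X.Opens).ι := (inferInstance : IsIso X.topIso.hom)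
  exact MorphismProperty.cancel_left_of_respectsIso nodalProp (⊤ : X.Opens).ι f

theorem apply_of_comp {A B C : Scheme.{u}} {p : A ⟶ B} {q : B ⟶ C} {r : A ⟶ C} (h : p ≫ q = r) (x : A) :
    q (p x) = r x := by
  rw [← Scheme.Hom.comp_apply, h]

/-- Being a nodal family descends to a stage of a cofiltered limit. -/
theorem descProp_nodal : LimDesc62.DescProp.{u} @LocallyOfFinitePresentation nodalProp := by
  constructor
  intro I _ _ D c hc _ i _ _ T a _ _ ha h
  have := respectsIso_nodalProp.{u}
  have : LocallyOfFinitePresentation a := ha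
  obtain ⟨j, φ, hflat⟩ := Approx60.descProp_flat.desc D c hc i a ha (show Curv2.IsNodalFamily _ from h).1
  have : CompactSpace (D.obj j) := LimTop61.compactSpace_of_map D φ
  have : QuasiSeparatedSpace (D.obj j) := LimTop61.quasiSeparatedSpace_of_map D φ
  let a₁ : pullback a (D.map φ) ⟶ D.obj j := pullback.snd a (D.map φ)
  have : LocallyOfFinitePresentation a₁ := MorphismProperty.pullback_snd _ _ ha
  have : Flat a₁ := hflat
  have : QuasiCompact a₁ := MorphismProperty.pullback_snd _ _ inferInstance
  have : CompactSpace ↥(pullback a (D.map φ)) := QuasiCompact.compactSpace_of_compactSpace a₁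
  obtain ⟨U, ⟨-, -⟩, hU⟩ := S1591.result a₁
  have hlim : nodalProp (pullback.snd a₁ (c.π.app j)) := by
    have hp := (IsPullback.of_hasPullback a₁ (c.π.app j)).paste_horiz (IsPullback.of_hasPullback a (D.map φ))
    rw [show c.π.app j ≫ D.map φ = c.π.app i from c.w φ] at hp
    exact (LimDesc62.prop_iff_of_isPullback (P := nodalProp) hp).2 h
  have htop : (⊤ : (pullback a₁ (c.π.app j)).Opens) ≤ pullback.fst a₁ (c.π.app j) ⁻¹ᵁ U :=
    (hU c.pt (c.π.app j)).2 ⊤ ((nodal_top_iff _).2 hlim)
  let r : Over j := Over.mk (𝟙 j)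
  have hsq := IsPullback.of_hasPullback a₁ (c.π.app j)
  obtain ⟨k, ψ, hk⟩ := exists_map_preimage_le_map_preimage (LimTop61.bcDiagram D a₁)
    (LimTop61.bcCone D c a₁ _ _ hsq.w) (LimTop61.isLimitBcCone D c hc a₁ _ _ hsq) (i := r)
    (U := ⊤) (V := pullback.fst a₁ (D.map r.hom) ⁻¹ᵁ U) isCompact_univ (fun x _ => by
      have e := apply_of_comp (q := pullback.fst a₁ (D.map r.hom))
        (show (LimTop61.bcCone D c a₁ _ _ hsq.w).π.app r ≫ _ = pullback.fst a₁ (c.π.app j) from pullback.lift_fst _ _ _) x
      exact (congrArg (fun z => z ∈ U) e).mpr (htop (show x ∈ (⊤ : (pullback a₁ (c.π.app j)).Opens) from trivial)))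
  have hk' : pullback.fst a₁ (D.map k.hom) ⁻¹ᵁ U = ⊤ := top_le_iff.1 fun x _ => by
    have h1 := hk (show x ∈ ((LimTop61.bcDiagram D a₁).map ψ) ⁻¹ᵁ ⊤ from trivial)
    have h2 : (LimTop61.bcDiagram D a₁).map ψ ≫ pullback.fst a₁ (D.map r.hom) = pullback.fst a₁ (D.map k.hom) :=
      pullback.lift_fst _ _ _
    exact (congrArg (fun z => z ∈ U) (apply_of_comp h2 x)).mp h1
  have hk₂ := (hU (D.obj k.left) (D.map k.hom)).1
  rw [hk', nodal_top_iff] at hk₂
  refine ⟨k.left, k.hom ≫ φ, ?_⟩
  have hp := (IsPullback.of_hasPullback a₁ (D.map k.hom)).paste_horiz (IsPullback.of_hasPullback a (D.map φ))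
  rw [← D.map_comp] at hp
  exact (LimDesc62.prop_iff_of_isPullback (P := nodalProp) hp).1 hk₂

end Groth.Agent.Node12.Loc
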