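import Groth.Agent.Node12.Loc.StdFam
import Groth.Agent.Unr55.StalkCrit
import Mathlib.AlgebraicGeometry.Fiber
import Mathlib.AlgebraicGeometry.Pullbacks

/-!
# The fibres of the standard nodal family
-/

set_option autoImplicit false
set_option linter.style.haveILetI false
set_option maxHeartbeats 1600000
set_option synthInstance.maxHeartbeats 100000
set_option backward.isDefEq.respectTransparency.types false

universe u

open CategoryTheory Limits AlgebraicGeometry IsLocalRing

noncomputable section

namespace Groth.Agent.Node12.Loc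

/-- The coordinate ring of the standard nodal family. -/
abbrev NodeRing {R : Type u} [CommRing R] (r : R) : Type u := MvPolynomial (Fin 2) R ⧸ nodeEq r

/-- The structure map of the standard nodal family. -/
abbrev nodeStruct {R : Type u} [CommRing R] (r : R) :
    Spec (CommRingCat.of (NodeRing r)) ⟶ Spec (CommRingCat.of R) :=
  Spec.map (CommRingCat.ofHom (algebraMap R (NodeRing r)))

theorem finitePresentation_nodeRing {R : Type u} [CommRing R] (r : R) :
    Algebra.FinitePresentation R (NodeRing r) :=
  Algebra.FinitePresentation.quotient (Submodule.fg_span (Set.finite_singleton _))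

instance locallyOfFinitePresentation_nodeStruct {R : Type u} [CommRing R] (r : R) :
    LocallyOfFinitePresentation (nodeStruct r) :=
  (HasRingHomProperty.Spec_iff (P := @LocallyOfFinitePresentation)).2
    (RingHom.finitePresentation_algebraMap.2 (finitePresentation_nodeRing r))

/-- The standard nodal family over a field has one-dimensional components and at worst nodes. -/
theorem nodeRing_nodal {κ : Type u} [Field κ] (c : κ) :
    (∀ Z ∈ irreducibleComponents (Spec (CommRingCat.of (NodeRing c)) : Type u), topologicalKrullDim Z = 1) ∧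
      @Curv2.AtWorstNodal κ _ (Spec (CommRingCat.of (NodeRing c))) ⟨nodeStruct c⟩ := by
  let X := Spec (CommRingCat.of (NodeRing c))
  let iX : X.Over (Spec (CommRingCat.of κ)) := ⟨nodeStruct c⟩
  have : LocallyOfFinitePresentation (X ↘ Spec (CommRingCat.of κ)) :=
    locallyOfFinitePresentation_nodeStruct c
  have : JacobsonSpace X := LocallyOfFiniteType.jacobsonSpace (X ↘ Spec (CommRingCat.of κ))
  have hmax : ∀ w : X, IsClosed ({w} : Set X) → w.asIdeal.IsMaximal := fun w hw =>
    (PrimeSpectrum.isClosed_singleton_iff_isMaximal w).1 hw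
  have hstalk : ∀ w : X, ringKrullDim (X.presheaf.stalk w) = w.asIdeal.height := fun w => by
    let _ : Algebra (NodeRing c) (X.presheaf.stalk w) := StructureSheaf.stalkAlgebra (NodeRing c) w
    have : IsLocalization.AtPrime (X.presheaf.stalk w) w.asIdeal :=
      StructureSheaf.IsLocalization.to_stalk (NodeRing c) w
    exact IsLocalization.AtPrime.ringKrullDim_eq_height w.asIdeal _
  refine ⟨(equidim_one_iff X).2 fun w hw => ?_, fun w hw => ?_⟩
  · haveI := hmax w hw
    rw [hstalk, height_maximal c]
    rfl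
  by_cases hsm : ∃ i, nodeVar c i ∉ w.asIdeal
  · obtain ⟨i, hi⟩ := hsm
    haveI := finitePresentation_nodeRing c
    have h1 := (Algebra.basicOpen_subset_smoothLocus_iff (R := κ) (f := nodeVar c i)).2 (formallySmooth_away c i)
    have h2 : w ∈ (nodeStruct c).smoothLocus := (Open62.mem_smoothLocus_spec_iff w).2 (h1 hi)
    exact Or.inl ((Unr55.exists_smooth_iff _ w).2 ((Scheme.Hom.mem_smoothLocus).1 h2))
  push Not at hsm
  obtain rfl : c = 0 := by
    by_contra hc
    refine w.isPrime.ne_top (Ideal.eq_top_of_isUnit_mem _ (w.asIdeal.mul_mem_right (nodeVar c 1) (hsm 0)) ?_)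
    rw [nodeVar_mul]
    exact (Ne.isUnit hc).map _
  refine Or.inr ?_
  let A := X.presheaf.stalk w
  let _ : Algebra (NodeRing (0 : κ)) A := StructureSheaf.stalkAlgebra (NodeRing (0 : κ)) w
  have : IsLocalization.AtPrime A w.asIdeal := StructureSheaf.IsLocalization.to_stalk (NodeRing (0 : κ)) w
  let _ : Algebra κ A := Curv2.stalkAlgebra κ X w
  have : IsScalarTower κ (NodeRing (0 : κ)) A := IsScalarTower.of_algebraMap_eq' (by
    have h : Spec.map (CommRingCat.ofHom (Curv2.stalkMap κ X w)) =
        Spec.map (CommRingCat.ofHom (algebraMap κ (NodeRing (0 : κ))) ≫ StructureSheaf.toStalk _ w) := by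
      rw [Spec.map_comp, ← Spec.fromSpecStalk_eq' (R := CommRingCat.of (NodeRing (0 : κ)))]
      exact (Curves2.fromSpecStalk_struct (X ↘ Spec (CommRingCat.of κ)) w).symm
    exact congrArg CommRingCat.Hom.hom (Spec.map_injective h))
  obtain ⟨hQ, hres⟩ := isQuadPt_origin w.asIdeal hsm A
  have : Algebra.IsSeparable κ (ResidueField A) :=
    AlgEquiv.Algebra.isSeparable (AlgEquiv.ofBijective (Algebra.ofId κ (ResidueField A))
      ⟨(algebraMap κ (ResidueField A)).injective, hres⟩)
  exact (Node12.isNode_iff w).2 ⟨hw, this, hQ⟩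

/-- Base change of the standard nodal family. -/
theorem isPushout_nodeRing {R R' : Type u} [CommRing R] [CommRing R'] (r : R) (ψ : R →+* R') :
    ∃ ρ : CommRingCat.of (NodeRing r) ⟶ CommRingCat.of (NodeRing (ψ r)),
      IsPushout (CommRingCat.ofHom (algebraMap R (NodeRing r))) (CommRingCat.ofHom ψ) ρ
        (CommRingCat.ofHom (algebraMap R' (NodeRing (ψ r)))) := by
  let W := NodeRing (ψ r)
  let ρ₀ : MvPolynomial (Fin 2) R →+* W :=
    MvPolynomial.eval₂Hom ((algebraMap R' W).comp ψ) (nodeVar (ψ r))
  have hρ : ∀ t ∈ nodeEq r, ρ₀ t = 0 := by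
    intro t ht
    obtain ⟨t, rfl⟩ := Ideal.mem_span_singleton'.1 ht
    simp [ρ₀, nodeVar_mul, W]
  let ρ : NodeRing r →+* W := Ideal.Quotient.lift (nodeEq r) ρ₀ hρ
  refine ⟨CommRingCat.ofHom ρ, ?_⟩
  have hw : CommRingCat.ofHom (algebraMap R (NodeRing r)) ≫ CommRingCat.ofHom ρ =
      CommRingCat.ofHom ψ ≫ CommRingCat.ofHom (algebraMap R' W) := by
    refine CommRingCat.hom_ext (RingHom.ext fun t => ?_)
    show ρ₀ (MvPolynomial.C t) = _
    simp [ρ₀]
  refine IsPushout.of_isColimit (PushoutCocone.IsColimit.mk hw (fun s => ?_) (fun s => ?_) (fun s => ?_)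
    fun s m hl hr => ?_)
  · let a : NodeRing r →+* s.pt := s.inl.hom
    let b : R' →+* s.pt := s.inr.hom
    refine CommRingCat.ofHom (Ideal.Quotient.lift (nodeEq (ψ r))
      (MvPolynomial.eval₂Hom b fun i => a (nodeVar r i)) fun t ht => ?_)
    obtain ⟨t, rfl⟩ := Ideal.mem_span_singleton'.1 ht
    have h1 : a (algebraMap R (NodeRing r) r) = b (ψ r) :=
      RingHom.congr_fun (congrArg CommRingCat.Hom.hom s.condition) r
    have h2 : a (nodeVar r 0) * a (nodeVar r 1) = a (algebraMap R (NodeRing r) r) := by
      rw [← map_mul, nodeVar_mul]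
    simp only [map_mul, map_sub, MvPolynomial.eval₂Hom_X', MvPolynomial.eval₂Hom_C, h2, h1, sub_self, mul_zero]
  · refine CommRingCat.hom_ext (Ideal.Quotient.ringHom_ext (MvPolynomial.ringHom_ext (fun t => ?_) fun i => ?_))
    · have h1 : s.inl.hom (algebraMap R (NodeRing r) t) = s.inr.hom (ψ t) :=
        RingHom.congr_fun (congrArg CommRingCat.Hom.hom s.condition) t
      refine Eq.trans ?_ h1.symm
      simp [ρ, ρ₀, W]
      exact MvPolynomial.eval₂_C _ _ _
    · simp [ρ, ρ₀, W]
  · refine CommRingCat.hom_ext (RingHom.ext fun t => ?_)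
    simp [W]
    exact MvPolynomial.eval₂_C _ _ _
  · refine CommRingCat.hom_ext (Ideal.Quotient.ringHom_ext (MvPolynomial.ringHom_ext (fun t => ?_) fun i => ?_))
    · refine (RingHom.congr_fun (congrArg CommRingCat.Hom.hom hr) t).trans ?_
      simp
    · have h := RingHom.congr_fun (congrArg CommRingCat.Hom.hom hl) (nodeVar r i)
      simp [ρ, ρ₀] at h
      refine h.trans ?_
      simp

/-- Every fibre of the standard nodal family has one-dimensional components and at worst nodes. -/
theorem nodeStruct_fibre_nodal {R : Type u} [CommRing R] (r : R) (v : Spec (CommRingCat.of R)) :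
    (∀ Z ∈ irreducibleComponents ((nodeStruct r).fiber v : Type u), topologicalKrullDim Z = 1) ∧
      @Curv2.AtWorstNodal ((Spec (CommRingCat.of R)).residueField v) _ ((nodeStruct r).fiber v)
        ⟨(nodeStruct r).fiberToSpecResidueField v⟩ := by
  let K : Type u := (Spec (CommRingCat.of R)).residueField v
  let ψc : CommRingCat.of R ⟶ CommRingCat.of K := Spec.preimage ((Spec (CommRingCat.of R)).fromSpecResidueField v)
  have hψ : Spec.map ψc = (Spec (CommRingCat.of R)).fromSpecResidueField v := Spec.map_preimage _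
  obtain ⟨ρ, hpo⟩ := isPushout_nodeRing r ψc.hom
  have hpb : IsPullback (Spec.map ρ) (nodeStruct (ψc.hom r)) (nodeStruct r)
      ((Spec (CommRingCat.of R)).fromSpecResidueField v) := by
    rw [← hψ]
    exact isPullback_SpecMap_of_isPushout _ _ _ _ hpo
  let i : (nodeStruct r).fiber v ≅ Spec (CommRingCat.of (NodeRing (ψc.hom r))) :=
    (IsPullback.of_hasPullback _ _).isoIsPullback _ _ hpb
  have hi : i.hom ≫ nodeStruct (ψc.hom r) = (nodeStruct r).fiberToSpecResidueField v :=
    IsPullback.isoIsPullback_hom_snd _ _ _ _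
  let iF : ((nodeStruct r).fiber v).Over (Spec (CommRingCat.of K)) := ⟨(nodeStruct r).fiberToSpecResidueField v⟩
  let iX : (Spec (CommRingCat.of (NodeRing (ψc.hom r)))).Over (Spec (CommRingCat.of K)) := ⟨nodeStruct (ψc.hom r)⟩
  have : LocallyOfFiniteType ((Spec (CommRingCat.of (NodeRing (ψc.hom r)))) ↘ Spec (CommRingCat.of K)) :=
    (inferInstance : LocallyOfFiniteType (nodeStruct (ψc.hom r)))
  obtain ⟨h1, h2⟩ := nodeRing_nodal (ψc.hom r)
  exact atWorstNodal_of_etale K _ h1 h2 i.hom hi

end Groth.Agent.Node12.Loc
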