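import Groth.Agent.Node12.Loc.Scheme
import Groth.Agent.Node12.Loc.StdFibre
import Groth.Agent.Node12.Gorenstein
import Groth.Agent.Node12.Descent
import Groth.Agent.S1593
import Groth.Agent.S1595
import Groth.Agent.Open62.SmoothFibre
import Groth.Agent.FBase64.PointCmp
import Groth.Agent.Sk62.GeomRed
import Groth.Agent.SchBasics.DiffSmoothLimit
import Groth.Agent.Var76.SmoothFibre
import Groth.Agent.Var76.GenSmoothScheme
import Groth.Agent.Desc59.EtaleDim
import Groth.Agent.FibDim94.BaseChange
import Groth.Agent.S2768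

/-!
# The locus of smooth points and nodes of the fibres
-/

set_option autoImplicit false
set_option linter.style.haveILetI false
set_option maxHeartbeats 1600000
set_option synthInstance.maxHeartbeats 100000
set_option backward.isDefEq.respectTransparency.types false

universe u

open CategoryTheory Limits AlgebraicGeometry TopologicalSpace

noncomputable section

namespace Groth.Agent.Node12.Loc

variable {X Y S : Scheme.{u}}

/-- The point is a node of its fibre. -/
def NodeAt (f : X ⟶ S) (x : X) : Prop :=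
  @Curv2.IsNode (S.residueField (f x)) _ (f.fiber (f x)) ⟨f.fiberToSpecResidueField (f x)⟩ (f.asFiber x)

/-- The morphism is smooth near the point or the point is a node of its fibre. -/
def Good (f : X ⟶ S) (x : X) : Prop :=
  (∃ U : X.Opens, x ∈ U ∧ Smooth (U.ι ≫ f)) ∨ NodeAt f x

theorem apply_fiberι (f : X ⟶ S) (s : S) (z : f.fiber s) : f (f.fiberι s z) = s := by
  have h1 : f.fiberι s z ∈ Set.range (f.fiberι s) := ⟨z, rfl⟩
  rw [Scheme.Hom.range_fiberι] at h1
  exact h1

theorem nodeAt_iff (f : X ⟶ S) (s : S) (z : f.fiber s) :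
    NodeAt f (f.fiberι s z) ↔ @Curv2.IsNode (S.residueField s) _ (f.fiber s) ⟨f.fiberToSpecResidueField s⟩ z := by
  suffices ∀ x, f.fiberι s z = x →
      (NodeAt f x ↔ @Curv2.IsNode (S.residueField s) _ (f.fiber s) ⟨f.fiberToSpecResidueField s⟩ z) from this _ rfl
  intro x hx
  obtain rfl : f x = s := by rw [← hx]; exact apply_fiberι f s z
  obtain rfl : z = f.asFiber x :=
    (f.fiberι (f x)).isEmbedding.injective (hx.trans (f.fiberι_asFiber x).symm)
  exact Iff.rfl

/-- The map of fibres induced by a morphism over the base. -/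
def fibreComp (g : Y ⟶ X) (f : X ⟶ S) (s : S) : (g ≫ f).fiber s ⟶ f.fiber s :=
  pullback.lift ((g ≫ f).fiberι s ≫ g) ((g ≫ f).fiberToSpecResidueField s)
    ((Category.assoc _ _ _).trans pullback.condition)

theorem fibreComp_fiberι (g : Y ⟶ X) (f : X ⟶ S) (s : S) :
    fibreComp g f s ≫ f.fiberι s = (g ≫ f).fiberι s ≫ g :=
  pullback.lift_fst _ _ _

theorem fibreComp_struct (g : Y ⟶ X) (f : X ⟶ S) (s : S) :
    fibreComp g f s ≫ f.fiberToSpecResidueField s = (g ≫ f).fiberToSpecResidueField s :=
  pullback.lift_snd _ _ _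

theorem etale_fibreComp (g : Y ⟶ X) [Etale g] (f : X ⟶ S) (s : S) : Etale (fibreComp g f s) := by
  have hsq : IsPullback ((g ≫ f).fiberι s) (fibreComp g f s) g (f.fiberι s) := by
    refine IsPullback.of_bot ?_ (fibreComp_fiberι g f s).symm (IsPullback.of_hasPullback f (S.fromSpecResidueField s))
    exact (fibreComp_struct g f s).symm ▸ IsPullback.of_hasPullback (g ≫ f) (S.fromSpecResidueField s)
  exact MorphismProperty.of_isPullback (P := @Etale) hsq ‹Etale g›

/-- Fibrewise nodality passes to etale schemes over the source. -/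
theorem fibres_of_etale (f : X ⟶ S) [LocallyOfFiniteType f] (g : Y ⟶ X) [Etale g]
    (h : ∀ s : S, (∀ Z ∈ irreducibleComponents (f.fiber s : Type u), topologicalKrullDim Z = 1) ∧
      @Curv2.AtWorstNodal (S.residueField s) _ (f.fiber s) ⟨f.fiberToSpecResidueField s⟩) (s : S) :
    (∀ Z ∈ irreducibleComponents ((g ≫ f).fiber s : Type u), topologicalKrullDim Z = 1) ∧
      @Curv2.AtWorstNodal (S.residueField s) _ ((g ≫ f).fiber s) ⟨(g ≫ f).fiberToSpecResidueField s⟩ := by
  obtain ⟨hequi, hnod⟩ := h s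
  let iF : (f.fiber s).Over (Spec (CommRingCat.of (S.residueField s))) := ⟨f.fiberToSpecResidueField s⟩
  let iG : ((g ≫ f).fiber s).Over (Spec (CommRingCat.of (S.residueField s))) :=
    ⟨(g ≫ f).fiberToSpecResidueField s⟩
  have : LocallyOfFiniteType ((f.fiber s) ↘ Spec (CommRingCat.of (S.residueField s))) :=
    (inferInstance : LocallyOfFiniteType (pullback.snd f (S.fromSpecResidueField s)))
  have := etale_fibreComp g f s
  exact atWorstNodal_of_etale (S.residueField s) (f.fiber s) hequi hnod (fibreComp g f s) (fibreComp_struct g f s)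

theorem isNode_congr {k : Type u} [Field k] {F : Scheme.{u}} {a b : F ⟶ Spec (CommRingCat.of k)} (h : a = b) (z : F) :
    @Curv2.IsNode k _ F ⟨a⟩ z ↔ @Curv2.IsNode k _ F ⟨b⟩ z := by
  subst h
  exact Iff.rfl

/-- A point of the source of an etale morphism is a node exactly when its image is. -/
theorem nodeAt_comp_iff (f : X ⟶ S) [LocallyOfFiniteType f] (g : Y ⟶ X) [Etale g] (y : Y) :
    NodeAt (g ≫ f) y ↔ NodeAt f (g y) := by
  have h : f.fiberι ((g ≫ f) y) (fibreComp g f _ ((g ≫ f).asFiber y)) = g y := by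
    rw [← Scheme.Hom.comp_apply, fibreComp_fiberι, Scheme.Hom.comp_apply, Scheme.Hom.fiberι_asFiber]
  rw [← h, nodeAt_iff]
  let iF : (f.fiber ((g ≫ f) y)).Over (Spec (CommRingCat.of (S.residueField ((g ≫ f) y)))) :=
    ⟨f.fiberToSpecResidueField ((g ≫ f) y)⟩
  have : LocallyOfFiniteType ((f.fiber ((g ≫ f) y)) ↘ Spec (CommRingCat.of (S.residueField ((g ≫ f) y)))) :=
    (inferInstance : LocallyOfFiniteType (pullback.snd f (S.fromSpecResidueField ((g ≫ f) y))))
  have := etale_fibreComp g f ((g ≫ f) y)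
  refine Iff.trans ?_ (isNode_iff_of_etale _ _ (fibreComp g f _) ((g ≫ f).asFiber y)).symm
  exact (isNode_congr (fibreComp_struct g f ((g ≫ f) y)) _).symm

/-- Being good on an open subscheme is being good. -/
theorem good_of_opens (f : X ⟶ S) [LocallyOfFinitePresentation f] (V : X.Opens) (v : V)
    (h : Good (V.ι ≫ f) v) : Good f (V.ι v) := by
  rcases h with ⟨U, hvU, hU⟩ | hn
  · exact Or.inl (Unr55.smooth_nhd_of_flatAt f V.ι v (Flat.stalkMap V.ι v) ⟨U, hvU, hU⟩)
  · exact Or.inr ((nodeAt_comp_iff f V.ι v).1 hn)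

instance lfp_fiberToSpecResidueField (f : X ⟶ S) [LocallyOfFinitePresentation f] (s : S) :
    LocallyOfFinitePresentation (f.fiberToSpecResidueField s) :=
  inferInstanceAs (LocallyOfFinitePresentation (pullback.snd f (S.fromSpecResidueField s)))

/-- For a flat morphism, smoothness at a point is smoothness of the fibre. -/
theorem smoothLocus_fibre_iff (f : X ⟶ S) [Flat f] [LocallyOfFinitePresentation f] (s : S) (w : f.fiber s) :
    w ∈ (f.fiberToSpecResidueField s).smoothLocus ↔ f.fiberι s w ∈ f.smoothLocus := by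
  have : Flat (f.fiberToSpecResidueField s) :=
    inferInstanceAs (Flat (pullback.snd f (S.fromSpecResidueField s)))
  have h : Open62.fibreSmooth (f.fiberToSpecResidueField s) = f.fiberι s ⁻¹' Open62.fibreSmooth f :=
    Open62.fibreSmooth_of_isPullback (f' := f.fiberToSpecResidueField s) (g' := f.fiberι s)
      (IsPullback.of_hasPullback f (S.fromSpecResidueField s))
  rw [← SetLike.mem_coe, ← Open62.fibreSmooth_of_flat (f.fiberToSpecResidueField s), h,
    Open62.fibreSmooth_of_flat f]
  rfl

/-- Every point of a nodal curve is a smooth point or a node. -/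
theorem smooth_or_node_of_nodal (k : Type u) [Field k] (X : Scheme.{u}) [X.Over (Spec (CommRingCat.of k))]
    [LocallyOfFiniteType (X ↘ (Spec (CommRingCat.of k)))]
    (hequi : ∀ Z ∈ irreducibleComponents (X : Type u), topologicalKrullDim Z = 1) (hX : Curv2.AtWorstNodal k X)
    (x : X) : (∃ U : X.Opens, x ∈ U ∧ Smooth (U.ι ≫ (X ↘ Spec (CommRingCat.of k)))) ∨ Curv2.IsNode k X x := by
  by_cases hx : IsClosed ({x} : Set X)
  · exact hX x hx
  have : IsLocallyNoetherian X := LocallyOfFiniteType.isLocallyNoetherian (X ↘ Spec (CommRingCat.of k))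
  have : JacobsonSpace X := LocallyOfFiniteType.jacobsonSpace (X ↘ Spec (CommRingCat.of k))
  have : LocallyOfFinitePresentation (X ↘ Spec (CommRingCat.of k)) := inferInstance
  have hgr : FBase.IsGeomReducedAt (X ↘ Spec (CommRingCat.of k)) x :=
    (FBase64.geometricallyReduced_iff_forall (X ↘ Spec (CommRingCat.of k))).1 (gorenstein_geometricallyReduced k X hequi hX).2 x
  refine Or.inl ((Unr55.exists_smooth_iff _ x).2 ((Scheme.Hom.mem_smoothLocus).1
    (((Sk62.isGeomReducedAt_iff (X ↘ Spec (CommRingCat.of k)) x).1 hgr).2 x (specializes_refl _) ?_)))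
  obtain ⟨c, hc, hcc⟩ := nonempty_inter_closedPoints
    (Set.singleton_nonempty x |>.mono subset_closure) isClosed_closure.isLocallyClosed
  have h1 : c < x := lt_of_le_not_ge (specializes_iff_mem_closure.2 hc) fun h => hx (by
    have e : c = x := (Specializes.antisymm h (specializes_iff_mem_closure.2 hc)).eq.symm ▸ rfl
    exact e ▸ hcc)
  have hd : ringKrullDim (X.presheaf.stalk c) = 1 := (equidim_one_iff X).1 hequi c hcc
  rw [ringKrullDim_stalk_eq_coheight] at hd
  have hd' : Order.coheight c = 1 := WithBot.coe_eq_coe.1 hd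
  have h0 : Order.coheight x = 0 := by
    have := Order.coheight_add_one_le h1
    rw [hd'] at this
    generalize Order.coheight x = n at this
    cases n with
    | top => simp at this
    | coe n => norm_cast at this ⊢; omega
  rw [ringKrullDim_stalk_eq_coheight, h0]
  rfl

/-- At a smooth point or node of the fibre a flat morphism is good. -/
theorem good_of_fibre (f : X ⟶ S) [Flat f] [LocallyOfFinitePresentation f] (s : S) (z : f.fiber s)
    (h : (∃ U : (f.fiber s).Opens, z ∈ U ∧ Smooth (U.ι ≫ f.fiberToSpecResidueField s)) ∨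
      @Curv2.IsNode (S.residueField s) _ (f.fiber s) ⟨f.fiberToSpecResidueField s⟩ z) :
    Good f (f.fiberι s z) := by
  rcases h with hU | hn
  · have : LocallyOfFinitePresentation (f.fiberToSpecResidueField s) :=
      inferInstanceAs (LocallyOfFinitePresentation (pullback.snd f (S.fromSpecResidueField s)))
    have h1 : z ∈ (f.fiberToSpecResidueField s).smoothLocus :=
      (Scheme.Hom.mem_smoothLocus).2 ((Unr55.exists_smooth_iff _ z).1 hU)
    exact Or.inl ((Unr55.exists_smooth_iff f _).2
      ((Scheme.Hom.mem_smoothLocus).1 ((smoothLocus_fibre_iff f s z).1 h1)))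
  · exact Or.inr ((nodeAt_iff f s z).2 hn)

/-- Every point of a nodal fibre of a flat morphism is good. -/
theorem good_of_fibre_nodal (f : X ⟶ S) [Flat f] [LocallyOfFinitePresentation f] (s : S)
    (hequi : ∀ Z ∈ irreducibleComponents (f.fiber s : Type u), topologicalKrullDim Z = 1)
    (hnod : @Curv2.AtWorstNodal (S.residueField s) _ (f.fiber s) ⟨f.fiberToSpecResidueField s⟩)
    (z : f.fiber s) : Good f (f.fiberι s z) := by
  let iF : (f.fiber s).Over (Spec (CommRingCat.of (S.residueField s))) := ⟨f.fiberToSpecResidueField s⟩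
  have : LocallyOfFiniteType ((f.fiber s) ↘ Spec (CommRingCat.of (S.residueField s))) :=
    (inferInstance : LocallyOfFiniteType (pullback.snd f (S.fromSpecResidueField s)))
  exact good_of_fibre f s z (smooth_or_node_of_nodal (S.residueField s) (f.fiber s) hequi hnod z)

/-- Every point of a nodal family is good. -/
theorem good_of_nodalFamily (f : X ⟶ S) (hf : Curv2.IsNodalFamily f) (x : X) : Good f x := by
  obtain ⟨hflat, hlfp, hfib⟩ := hf
  rw [← f.fiberι_asFiber x]
  exact good_of_fibre_nodal f _ (hfib _).1 (hfib _).2 _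

/-- The etale source of a standard model is a nodal family. -/
theorem isNodalFamily_model {R U : Type u} [CommRing R] [CommRing U] (f : X ⟶ S) [Flat f]
    [LocallyOfFinitePresentation f] (gU : Spec (CommRingCat.of U) ⟶ X) (gV : Spec (CommRingCat.of R) ⟶ S)
    (r : R) (e : NodeRing r →+* U) [Etale gU] [Etale gV] (he : e.Etale)
    (w : gU ≫ f = Spec.map (CommRingCat.ofHom e) ≫ nodeStruct r ≫ gV) :
    Curv2.IsNodalFamily (gU ≫ f) := by
  let g := Spec.map (CommRingCat.ofHom e)
  have : Etale g := (HasRingHomProperty.Spec_iff (P := @Etale)).2 he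
  let h := g ≫ nodeStruct r
  let m : Spec (CommRingCat.of U) ⟶ pullback f gV := pullback.lift gU h (w.trans (Category.assoc _ _ _).symm)
  have hm1 : m ≫ pullback.fst f gV = gU := pullback.lift_fst _ _ _
  have : Etale (m ≫ pullback.fst f gV) := hm1.symm ▸ ‹Etale gU›
  have hm : Etale m := Etale.of_comp m (pullback.fst f gV)
  have hflat : Flat h := (pullback.lift_snd _ _ _ : m ≫ pullback.snd f gV = h) ▸ inferInstance
  have hnod : Curv2.IsNodalFamily h :=
    ⟨hflat, inferInstance, fun v => fibres_of_etale (nodeStruct r) g (nodeStruct_fibre_nodal r) v⟩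
  have := S1595.result gV h hnod
  rw [w]
  rwa [Category.assoc] at this

/-- A node has a neighbourhood on which the morphism is a nodal family. -/
theorem exists_nodal_nhd_of_node (f : X ⟶ S) [Flat f] [LocallyOfFinitePresentation f] (x : X)
    (hx : NodeAt f x) : ∃ V : X.Opens, x ∈ V ∧ Curv2.IsNodalFamily (V.ι ≫ f) := by
  obtain ⟨R, _, U, _, gU, gV, r, e, hgU, hgV, he, w, hxU⟩ := exists_scheme_model f (f x) (f.asFiber x) hx
  rw [Scheme.Hom.fiberι_asFiber] at hxU
  let V : X.Opens := ⟨Set.range gU, gU.isOpenMap.isOpen_range⟩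
  refine ⟨V, hxU, ?_⟩
  let g : Spec (CommRingCat.of U) ⟶ V := IsOpenImmersion.lift V.ι gU (by rw [Scheme.Opens.range_ι]; exact subset_rfl)
  have hg : g ≫ V.ι = gU := IsOpenImmersion.lift_fac _ _ _
  have : Etale (g ≫ V.ι) := hg.symm ▸ hgU
  have : Etale g := Etale.of_comp g V.ι
  refine S1593.result (V.ι ≫ f) PUnit.{u + 1} (fun _ => Spec (CommRingCat.of U)) (fun _ => g) ?_ ?_
  · rintro ⟨v, u, hu⟩
    refine ⟨PUnit.unit, u, ?_⟩
    apply V.ι.isEmbedding.injective
    rw [← Scheme.Hom.comp_apply, hg]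
    exact hu
  · intro _
    rw [← Category.assoc, hg]
    exact isNodalFamily_model f gU gV r e he w

/-- The good locus of a flat morphism of finite presentation is open. -/
theorem isOpen_good (f : X ⟶ S) [Flat f] [LocallyOfFinitePresentation f] : IsOpen {x : X | Good f x} := by
  refine isOpen_iff_forall_mem_open.2 fun x hx => ?_
  rcases hx with ⟨U, hxU, hU⟩ | hn
  · exact ⟨U, fun y hy => Or.inl ⟨U, hy, hU⟩, U.isOpen, hxU⟩
  · obtain ⟨V, hxV, hV⟩ := exists_nodal_nhd_of_node f x hn
    exact ⟨V, fun y hy => good_of_opens f V ⟨y, hy⟩ (good_of_nodalFamily _ hV _), V.isOpen, hxV⟩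

/-- A closed point of a fibre which is good is smooth or a node of the fibre. -/
theorem fibre_of_good (f : X ⟶ S) [Flat f] [LocallyOfFinitePresentation f] (s : S) (z : f.fiber s)
    (h : Good f (f.fiberι s z)) :
    (∃ U : (f.fiber s).Opens, z ∈ U ∧ Smooth (U.ι ≫ f.fiberToSpecResidueField s)) ∨
      @Curv2.IsNode (S.residueField s) _ (f.fiber s) ⟨f.fiberToSpecResidueField s⟩ z := by
  have : LocallyOfFinitePresentation (f.fiberToSpecResidueField s) :=
    inferInstanceAs (LocallyOfFinitePresentation (pullback.snd f (S.fromSpecResidueField s)))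
  rcases h with hU | hn
  · exact Or.inl ((Unr55.exists_smooth_iff _ z).2 ((Scheme.Hom.mem_smoothLocus).1
      ((smoothLocus_fibre_iff f s z).2 ((Scheme.Hom.mem_smoothLocus).2 ((Unr55.exists_smooth_iff f _).1 hU)))))
  · exact Or.inr ((nodeAt_iff f s z).1 hn)

/-- A morphism smooth of relative dimension one is a nodal family. -/
theorem isNodalFamily_of_smooth_one (f : X ⟶ S) [SmoothOfRelativeDimension 1 f] : Curv2.IsNodalFamily f := by
  have : Smooth f := SmoothOfRelativeDimension.smooth 1 f
  refine ⟨inferInstance, inferInstance, fun s => ?_⟩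
  have : SmoothOfRelativeDimension 1 (f.fiberToSpecResidueField s) :=
    have := smoothOfRelativeDimension_isStableUnderBaseChange 1
    MorphismProperty.pullback_snd _ _ inferInstance
  have : Smooth (f.fiberToSpecResidueField s) := SmoothOfRelativeDimension.smooth 1 _
  refine ⟨fun Z hZ => ?_, fun z _ => Or.inl ⟨⊤, trivial, ?_⟩⟩
  · have h := @Var76.SmoothFibre.dim_component (↑(S.residueField s) : Type u) _ (f.fiber s)
      (f.fiberToSpecResidueField s) 1 ‹_› Z hZ
    simpa using h
  · show Smooth ((⊤ : (f.fiber s).Opens).ι ≫ f.fiberToSpecResidueField s)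
    infer_instance

/-- Near a smooth point the relative dimension is constant. -/
theorem exists_smoothRelDim_nhd (f : X ⟶ S) [LocallyOfFinitePresentation f] (x : X) (hx : x ∈ f.smoothLocus) :
    ∃ (n : ℕ) (U : X.Opens), x ∈ U ∧ SmoothOfRelativeDimension n (U.ι ≫ f) ∧
      FlatMor.fibreDimAt f x = (n : WithBot ℕ∞) := by
  let W := f.smoothLocus
  have : Smooth (W.ι ≫ f) := SchBasics.smooth_smoothLocus_ι _
  obtain ⟨V, hV, U, hU, hxU, e, hst⟩ := Smooth.exists_isStandardSmooth (W.ι ≫ f) ⟨x, hx⟩
  let _ : Algebra Γ(S, V) Γ((W : Scheme.{u}), U) := ((W.ι ≫ f).appLE V U e).hom.toAlgebra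
  have : Algebra.IsStandardSmooth Γ(S, V) Γ((W : Scheme.{u}), U) := hst
  obtain ⟨ι, σ, hσ, hι, ⟨P⟩⟩ := Algebra.IsStandardSmooth.out (R := Γ(S, V)) (S := Γ((W : Scheme.{u}), U))
  have := hσ; have := hι
  have hn : Algebra.IsStandardSmoothOfRelativeDimension P.dimension Γ(S, V) Γ((W : Scheme.{u}), U) :=
    P.isStandardSmoothOfRelativeDimension rfl
  have hsm := Var76.GenSmooth.smoothOfRelativeDimension_ι_comp P.dimension (W.ι ≫ f) hU hV e hn
  have : MorphismProperty.RespectsIso (@SmoothOfRelativeDimension P.dimension) :=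
    (smoothOfRelativeDimension_isStableUnderBaseChange P.dimension).respectsIso
  have hsm' : SmoothOfRelativeDimension P.dimension ((W.ι ''ᵁ U).ι ≫ f) := by
    rw [← MorphismProperty.cancel_left_of_respectsIso (@SmoothOfRelativeDimension P.dimension)
      (W.ι.isoImage U).hom, Scheme.Hom.isoImage_hom_ι_assoc]
    exact hsm
  refine ⟨P.dimension, W.ι ''ᵁ U, ⟨⟨x, hx⟩, hxU, rfl⟩, hsm', ?_⟩
  let u : ↑(W.ι ''ᵁ U).toScheme := ⟨x, ⟨x, hx⟩, hxU, rfl⟩
  exact (Desc59.EtaleDim.fibreDimAt_eq f ((W.ι ''ᵁ U).ι ≫ f) (W.ι ''ᵁ U).ι (𝟙 S) (Category.comp_id _) u).trans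
    (S2768.result P.dimension ((W.ι ''ᵁ U).ι ≫ f) u)

end Groth.Agent.Node12.Loc
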