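import Groth.Agent.Node12.Loc.Split

/-!
# The etale local model of a quadratic point of a fibre
-/

set_option autoImplicit false
set_option linter.style.haveILetI false
set_option maxHeartbeats 1600000
set_option synthInstance.maxHeartbeats 100000
set_option backward.isDefEq.respectTransparency.types false

universe u

open IsLocalRing TensorProduct

noncomputable section

namespace Groth.Agent.Node12.Loc

/-- The equation of the standard nodal family. -/
abbrev nodeEq {R : Type u} [CommRing R] (r : R) : Ideal (MvPolynomial (Fin 2) R) :=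
  Ideal.span {MvPolynomial.X 0 * MvPolynomial.X 1 - MvPolynomial.C r}

/-- Etale quotients of etale maps. -/
theorem etale_quotientMap {P T : Type u} [CommRing P] [CommRing T] (f : P →+* T) (hf : f.Etale) (x : P) :
    (Ideal.quotientMap (Ideal.span {f x}) f
      ((Ideal.span_singleton_le_iff_mem _).2 (Ideal.mem_span_singleton_self (f x)))).Etale := by
  algebraize [f]
  have h := etale_quotient (T := T) (Ideal.span {x})
  have e : (Ideal.span {x}).map (algebraMap P T) = Ideal.span {f x} := by
    rw [Ideal.map_span, Set.image_singleton]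
    rfl
  have key : ∀ J : Ideal T, (Ideal.span {x}).map (algebraMap P T) = J → ∀ hle : Ideal.span {x} ≤ J.comap f,
      (Ideal.quotientMap J f hle).Etale := by
    rintro _ rfl hle
    convert RingHom.etale_algebraMap.2 h using 1
    exact Ideal.Quotient.ringHom_ext (RingHom.ext fun t => rfl)
  exact key _ e _

/-- A quadratic point of a fibre, with separable residue field, of a flat algebra of finite presentation has,
etale locally on the algebra and on the base, the standard nodal model. -/
theorem exists_local_model {R C : Type u} [CommRing R] [CommRing C] [Algebra R C]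
    [Algebra.FinitePresentation R C] [Module.Flat R C] (q : Ideal C) [q.IsPrime]
    {k A : Type u} [Field k] [Algebra R k] [Algebra.FormallyUnramified R k]
    [CommRing A] [IsLocalRing A] [Algebra R A] [Algebra k A] [IsScalarTower R k A]
    [Algebra.IsSeparable k (ResidueField A)]
    (φC : Localization.AtPrime q →ₐ[R] A) (hφC : Function.Surjective φC)
    (hker : RingHom.ker φC.toRingHom =
      (q.comap (algebraMap R C)).map (algebraMap R (Localization.AtPrime q)))
    (hA : IsQuadPt A) :
    ∃ (R' : Type u) (_ : CommRing R') (_ : Algebra R R') (_ : Algebra.Etale R R') (U : Type u) (_ : CommRing U)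
      (_ : Algebra R' U) (γ : C →+* U) (r : R') (e : MvPolynomial (Fin 2) R' ⧸ nodeEq r →ₐ[R'] U) (qU : Ideal U),
      γ.Etale ∧ (∀ t, γ (algebraMap R C t) = algebraMap R' U (algebraMap R R' t)) ∧ e.toRingHom.Etale ∧
      qU.IsPrime ∧ qU.comap γ = q := by
  obtain ⟨h, hhq, P, _, _, _, _, _, π, F, Q, hπ, hkerπ, hQp, hQ, hFQ, hDF, hH⟩ :=
    exists_hypersurface q φC hφC hker hA (k := k)
  obtain ⟨R', _, _, _, P', _, _, _, _, _, ι, σ, Q', hι, hιR, hQ'p, hQ', hσQ, hσD, hH'⟩ :=
    exists_section F Q hDF hH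
  obtain ⟨P₂, _, _, _, _, _, Q₂, w, hQ₂p, hQ₂, hw, hsplit⟩ := exists_split σ Q' hσQ (ι F) hσD hH'
  let φ : P →+* P₂ := (algebraMap P' P₂).comp ι
  have hφ : φ.Etale := RingHom.Etale.stableUnderComposition _ _ hι (RingHom.etale_algebraMap.2 inferInstance)
  let Jq : Ideal P₂ := Ideal.span {φ F}
  let Ch := Localization.Away h
  let θ : P ⧸ Ideal.span {F} →+* Ch := Ideal.Quotient.lift _ π.toRingHom fun t ht => by
    rw [← hkerπ] at ht
    exact ht
  have hθ : Function.Bijective θ := by
    refine ⟨(injective_iff_map_eq_zero θ).2 fun t ht => ?_, Ideal.Quotient.lift_surjective_of_surjective _ _ hπ⟩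
    obtain ⟨t, rfl⟩ := Ideal.Quotient.mk_surjective t
    rw [Ideal.Quotient.eq_zero_iff_mem, ← hkerπ]
    exact ht
  let θe : P ⧸ Ideal.span {F} ≃+* Ch := RingEquiv.ofBijective θ hθ
  let qm : P ⧸ Ideal.span {F} →+* P₂ ⧸ Jq :=
    Ideal.quotientMap Jq φ ((Ideal.span_singleton_le_iff_mem _).2 (Ideal.mem_span_singleton_self (φ F)))
  let γ : C →+* P₂ ⧸ Jq := (qm.comp θe.symm.toRingHom).comp (algebraMap C Ch)
  have hγP : ∀ (c : C) (p : P), π p = algebraMap C Ch c → γ c = Ideal.Quotient.mk Jq (φ p) := fun c p hp => by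
    show qm (θe.symm (algebraMap C Ch c)) = _
    rw [← hp, show θe.symm (π p) = Ideal.Quotient.mk _ p from
      θe.symm_apply_eq.2 (show π p = θ (Ideal.Quotient.mk _ p) from rfl)]
    rfl
  have hFQ₂ : φ F ∈ Q₂ := by
    rw [← hQ'] at hFQ
    rw [← hQ₂] at hFQ
    exact hFQ
  have hJQ : RingHom.ker (Ideal.Quotient.mk Jq) ≤ Q₂ := by
    rw [Ideal.mk_ker]
    exact (Ideal.span_singleton_le_iff_mem _).2 hFQ₂
  haveI := hQ₂p
  let qU : Ideal (P₂ ⧸ Jq) := Q₂.map (Ideal.Quotient.mk Jq)
  let a : R' := σ (ι F)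
  let ψ : MvPolynomial (Fin 2) R' →ₐ[R'] P₂ := MvPolynomial.aeval w
  have hψ : ψ (MvPolynomial.X 0 * MvPolynomial.X 1 - MvPolynomial.C (-a)) = φ F := by
    show MvPolynomial.aeval w _ = algebraMap P' P₂ (ι F)
    rw [map_sub, map_mul, MvPolynomial.aeval_X, MvPolynomial.aeval_X, MvPolynomial.aeval_C, hsplit, map_neg,
      sub_neg_eq_add]
  let e : MvPolynomial (Fin 2) R' ⧸ nodeEq (-a) →ₐ[R'] P₂ ⧸ Jq :=
    Ideal.Quotient.liftₐ _ ((Ideal.Quotient.mkₐ R' Jq).comp ψ) fun t ht => by
      obtain ⟨t, rfl⟩ := Ideal.mem_span_singleton'.1 ht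
      show Ideal.Quotient.mk Jq (ψ (t * _)) = 0
      rw [map_mul, hψ]
      exact Ideal.Quotient.eq_zero_iff_mem.2 (Ideal.mul_mem_left _ _ (Ideal.mem_span_singleton_self _))
  refine ⟨R', inferInstance, inferInstance, inferInstance, P₂ ⧸ Jq, inferInstance, inferInstance, γ, -a, e, qU,
    ?_, fun t => ?_, ?_, Ideal.map_isPrime_of_surjective Ideal.Quotient.mk_surjective hJQ, ?_⟩
  · exact RingHom.Etale.stableUnderComposition _ _ (RingHom.etale_algebraMap.2 (Algebra.Etale.of_isLocalizationAway h))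
      (RingHom.Etale.stableUnderComposition _ _ (RingHom.Etale.of_bijective θe.symm.bijective)
        (etale_quotientMap φ hφ F))
  · rw [hγP _ (algebraMap R P t) ((π.commutes t).trans (IsScalarTower.algebraMap_apply R C Ch t))]
    show Ideal.Quotient.mk Jq (algebraMap P' P₂ (ι (algebraMap R P t))) = _
    rw [hιR, ← IsScalarTower.algebraMap_apply R' P' P₂]
    rfl
  · have h1 := etale_quotientMap ψ.toRingHom hw (MvPolynomial.X 0 * MvPolynomial.X 1 - MvPolynomial.C (-a))
    have key : ∀ y : P₂, y = φ F → ∀ hle, (Ideal.quotientMap (Ideal.span {y}) ψ.toRingHom hle :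
        MvPolynomial (Fin 2) R' ⧸ nodeEq (-a) →+* _).Etale → e.toRingHom.Etale := by
      rintro _ rfl hle hE
      convert hE using 1
      exact Ideal.Quotient.ringHom_ext (RingHom.ext fun t => rfl)
    exact key _ hψ _ h1
  · ext c
    obtain ⟨p, hp⟩ := hπ (algebraMap C Ch c)
    rw [Ideal.mem_comap, hγP c p hp, Ideal.mem_quotient_iff_mem_sup,
      sup_eq_left.2 ((Ideal.span_singleton_le_iff_mem _).2 hFQ₂)]
    have h2 : φ p ∈ Q₂ ↔ p ∈ Q := by rw [← hQ', ← hQ₂]; rfl
    rw [h2, ← hQ, Ideal.mem_comap]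
    show π p ∈ q.map (algebraMap C Ch) ↔ c ∈ q
    rw [hp]
    exact SetLike.ext_iff.1 (IsLocalization.under_map_of_isPrime_disjoint (Submonoid.powers h) Ch inferInstance
      (Set.disjoint_left.2 (by
        rintro _ ⟨m, rfl⟩ hm
        exact hhq ((inferInstance : q.IsPrime).mem_of_pow_mem m hm)))) c

end Groth.Agent.Node12.Loc
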