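import Groth.Agent.Node12.Loc.Model
import Groth.Agent.Node12.Point
import Groth.Agent.FlatMor68.FibreStalk
import Mathlib.AlgebraicGeometry.Morphisms.Etale
import Mathlib.AlgebraicGeometry.Morphisms.FinitePresentation
import Mathlib.AlgebraicGeometry.Morphisms.Flat

/-!
# Etale local structure at a node of a fibre
-/

set_option autoImplicit false
set_option linter.style.haveILetI false
set_option maxHeartbeats 1600000
set_option synthInstance.maxHeartbeats 100000
set_option backward.isDefEq.respectTransparency.types false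

universe u

open CategoryTheory Limits AlgebraicGeometry IsLocalRing

noncomputable section

namespace Groth.Agent.Node12.Loc

/-- Near a node of a fibre, a flat morphism of finite presentation is etale locally on the source and the
target the standard nodal family. -/
theorem exists_scheme_model {X S : Scheme.{u}} (f : X ⟶ S) [Flat f] [LocallyOfFinitePresentation f]
    (s : S) (z : f.fiber s)
    (hz : @Curv2.IsNode (S.residueField s) _ (f.fiber s) ⟨f.fiberToSpecResidueField s⟩ z) :
    ∃ (R : Type u) (_ : CommRing R) (U : Type u) (_ : CommRing U)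
      (gU : Spec (CommRingCat.of U) ⟶ X) (gV : Spec (CommRingCat.of R) ⟶ S) (r : R)
      (e : MvPolynomial (Fin 2) R ⧸ nodeEq r →+* U),
      Etale gU ∧ Etale gV ∧ e.Etale ∧
      gU ≫ f = Spec.map (CommRingCat.ofHom e) ≫
        Spec.map (CommRingCat.ofHom (algebraMap R (MvPolynomial (Fin 2) R ⧸ nodeEq r))) ≫ gV ∧
      f.fiberι s z ∈ Set.range gU := by
  let x := f.fiberι s z
  have hfx : f x = s := by
    have h1 : x ∈ Set.range (f.fiberι s) := ⟨z, rfl⟩
    rw [Scheme.Hom.range_fiberι] at h1
    exact h1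
  obtain ⟨_, ⟨V, hV, rfl⟩, hsV, -⟩ :=
    S.isBasis_affineOpens.exists_subset_of_mem_open (Set.mem_univ s) isOpen_univ
  replace hV : IsAffineOpen V := hV
  have hxV : f x ∈ V := by rw [hfx]; exact hsV
  obtain ⟨_, ⟨W, hW, rfl⟩, hxW, hWV⟩ :=
    X.isBasis_affineOpens.exists_subset_of_mem_open hxV (V.2.preimage f.continuous)
  replace hW : IsAffineOpen W := hW
  let F := f.fiber s
  let k : Type u := S.residueField s
  let A : Type u := F.presheaf.stalk z
  let R₀ : Type u := Γ(S, V)
  let C : Type u := Γ(X, W)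
  let iF : F.Over (Spec (CommRingCat.of (S.residueField s))) := ⟨f.fiberToSpecResidueField s⟩
  have hFt : LocallyOfFiniteType (F ↘ Spec (CommRingCat.of (S.residueField s))) :=
    (inferInstance : LocallyOfFiniteType (pullback.snd f (S.fromSpecResidueField s)))
  obtain ⟨-, hsep, hQ⟩ := (isNode_iff _).1 hz
  let appl : Γ(S, V) ⟶ Γ(X, W) := f.appLE V W hWV
  letI algC : Algebra Γ(S, V) Γ(X, W) := appl.hom.toAlgebra
  have : Algebra.FinitePresentation Γ(S, V) Γ(X, W) := HasRingHomProperty.appLE
    @LocallyOfFinitePresentation f inferInstance ⟨V, hV⟩ ⟨W, hW⟩ hWV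
  have : Module.Flat Γ(S, V) Γ(X, W) := HasRingHomProperty.appLE (P := @Flat) f ‹_› ⟨V, hV⟩ ⟨W, hW⟩ hWV
  letI algk : Algebra Γ(S, V) (S.residueField s) := (S.evaluation V s hsV).hom.toAlgebra
  have hunr : Algebra.FormallyUnramified Γ(S, V) (S.residueField s) := by
    letI algst : Algebra Γ(S, V) (S.presheaf.stalk s) := (S.presheaf.germ V s hsV).hom.toAlgebra
    have : IsLocalization.AtPrime (S.presheaf.stalk s) (hV.primeIdealOf ⟨s, hsV⟩).asIdeal :=
      hV.isLocalization_stalk ⟨s, hsV⟩
    have : Algebra.FormallyUnramified Γ(S, V) (S.presheaf.stalk s) :=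
      Algebra.FormallyUnramified.of_isLocalization (hV.primeIdealOf ⟨s, hsV⟩).asIdeal.primeCompl
    letI : Algebra (S.presheaf.stalk s) (S.residueField s) := (S.residue s).hom.toAlgebra
    have : IsScalarTower Γ(S, V) (S.presheaf.stalk s) (S.residueField s) :=
      IsScalarTower.of_algebraMap_eq fun t => rfl
    have : Algebra.FormallyUnramified (S.presheaf.stalk s) (S.residueField s) :=
      RingHom.FormallyUnramified.of_surjective (S.residue_surjective s)
    exact Algebra.FormallyUnramified.comp _ (S.presheaf.stalk s) _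
  letI algkA : Algebra (S.residueField s) (F.presheaf.stalk z) := Curv2.stalkAlgebra (S.residueField s) F z
  letI algA : Algebra Γ(S, V) (F.presheaf.stalk z) :=
    ((algebraMap (S.residueField s) (F.presheaf.stalk z)).comp (S.evaluation V s hsV).hom).toAlgebra
  have : IsScalarTower Γ(S, V) (S.residueField s) (F.presheaf.stalk z) :=
    IsScalarTower.of_algebraMap_eq fun t => rfl
  let q : Ideal Γ(X, W) := (hW.primeIdealOf ⟨x, hxW⟩).asIdeal
  letI algst : Algebra Γ(X, W) (X.presheaf.stalk x) := (X.presheaf.germ W x hxW).hom.toAlgebra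
  have hloc : IsLocalization.AtPrime (X.presheaf.stalk x) q := hW.isLocalization_stalk ⟨x, hxW⟩
  let εL : Localization.AtPrime q ≃ₐ[Γ(X, W)] X.presheaf.stalk x :=
    IsLocalization.algEquiv q.primeCompl _ _
  let ι : X.presheaf.stalk x ⟶ F.presheaf.stalk z := (f.fiberι s).stalkMap z
  let germW : Γ(X, W) ⟶ X.presheaf.stalk x := X.presheaf.germ W x hxW
  let sA : S.residueField s ⟶ F.presheaf.stalk z :=
    CommRingCat.ofHom (algebraMap (S.residueField s) (F.presheaf.stalk z))
  have hcomp : appl ≫ germW ≫ ι = S.evaluation V s hsV ≫ sA := by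
    apply Spec.map_injective
    rw [← cancel_mono hV.fromSpec, Spec.map_comp, Spec.map_comp, Category.assoc, Category.assoc,
      hV.SpecMap_appLE_fromSpec f hW hWV, Scheme.evaluation, Spec.map_comp, Spec.map_comp, Category.assoc,
      Category.assoc]
    have h1 : Spec.map germW ≫ hW.fromSpec = X.fromSpecStalk x := hW.fromSpecStalk_eq_fromSpecStalk hxW
    have h2 : Spec.map (S.presheaf.germ V s hsV) ≫ hV.fromSpec = S.fromSpecStalk s :=
      hV.fromSpecStalk_eq_fromSpecStalk hsV
    rw [reassoc_of% h1, h2, show Spec.map ι ≫ X.fromSpecStalk x ≫ f = F.fromSpecStalk z ≫ f.fiberι s ≫ f by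
      rw [← Category.assoc, Scheme.SpecMap_stalkMap_fromSpecStalk, Category.assoc], f.fiber_fac]
    exact (Category.assoc _ _ _).symm.trans
      ((congrArg (· ≫ S.fromSpecResidueField s) (Curves2.fromSpecStalk_struct
        (F ↘ Spec (CommRingCat.of (S.residueField s))) z)).trans rfl)
  let φC : Localization.AtPrime q →ₐ[Γ(S, V)] F.presheaf.stalk z :=
    { ι.hom.comp εL.toRingEquiv.toRingHom with
      commutes' := fun t => by
        show ι (εL (algebraMap Γ(S, V) (Localization.AtPrime q) t)) = sA (S.evaluation V s hsV t)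
        rw [IsScalarTower.algebraMap_apply Γ(S, V) Γ(X, W) (Localization.AtPrime q), AlgEquiv.commutes]
        exact RingHom.congr_fun (congrArg CommRingCat.Hom.hom hcomp) t }
  have hφ : Function.Surjective φC :=
    (FlatMor68.FibreStalk.fiberι_stalkMap_surjective f s z).comp εL.surjective
  have hmst : (maximalIdeal (S.presheaf.stalk (f x))).map (f.stalkMap x).hom =
      (q.comap appl.hom).map (germW.hom.comp appl.hom) := by
    letI algv : Algebra Γ(S, V) (S.presheaf.stalk (f x)) := (S.presheaf.germ V (f x) hxV).hom.toAlgebra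
    let P₀ := (hV.primeIdealOf ⟨f x, hxV⟩).asIdeal
    have : IsLocalization.AtPrime (S.presheaf.stalk (f x)) P₀ := hV.isLocalization_stalk ⟨f x, hxV⟩
    have hgerm : (S.presheaf.germ V (f x) hxV) ≫ f.stalkMap x = appl ≫ germW := by
      rw [Scheme.Hom.germ_stalkMap]
      show _ = (f.app V ≫ X.presheaf.map (homOfLE hWV).op) ≫ _
      refine Eq.trans ?_ (Category.assoc _ _ _).symm
      exact congrArg (f.app V ≫ ·) (X.presheaf.germ_res (homOfLE hWV) x hxW).symm
    have hP₀ : P₀ = q.comap appl.hom := by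
      rw [← IsLocalization.AtPrime.under_maximalIdeal (S.presheaf.stalk (f x)) P₀,
        ← IsLocalization.AtPrime.under_maximalIdeal (X.presheaf.stalk x) q]
      ext t
      show (S.presheaf.germ V (f x) hxV) t ∈ maximalIdeal _ ↔ germW (appl t) ∈ maximalIdeal _
      rw [← show (f.stalkMap x) (S.presheaf.germ V (f x) hxV t) = germW (appl t) from
        RingHom.congr_fun (congrArg CommRingCat.Hom.hom hgerm) t, mem_maximalIdeal, mem_maximalIdeal,
        mem_nonunits_iff, mem_nonunits_iff]
      exact not_congr (isUnit_map_iff (f.stalkMap x).hom _).symm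
    rw [← IsLocalization.AtPrime.map_eq_maximalIdeal P₀ (S.presheaf.stalk (f x)), Ideal.map_map, hP₀]
    exact congrArg (fun g => Ideal.map g _) (congrArg CommRingCat.Hom.hom hgerm)
  have hker : RingHom.ker φC.toRingHom =
      (q.comap (algebraMap Γ(S, V) Γ(X, W))).map (algebraMap Γ(S, V) (Localization.AtPrime q)) := by
    show RingHom.ker (ι.hom.comp εL.toRingEquiv.toRingHom) = _
    rw [← RingHom.comap_ker, FlatMor68.FibreStalk.ker_fiberι_stalkMap f s z, hmst]
    rw [show germW.hom.comp appl.hom = εL.toRingEquiv.toRingHom.comp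
        (algebraMap Γ(S, V) (Localization.AtPrime q)) from RingHom.ext fun t => by
      show germW (appl t) = εL (algebraMap Γ(S, V) (Localization.AtPrime q) t)
      rw [IsScalarTower.algebraMap_apply Γ(S, V) Γ(X, W) (Localization.AtPrime q), AlgEquiv.commutes]
      rfl, ← Ideal.map_map, Ideal.comap_map_of_bijective εL.toRingEquiv.toRingHom εL.bijective]
    rfl
  obtain ⟨R', _, _, hR', U, _, _, γ, r, e, qU, hγ, hγR, he, hqU, hqγ⟩ :=
    exists_local_model (R := Γ(S, V)) (C := Γ(X, W)) q (k := S.residueField s) φC hφ hker hQ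
  refine ⟨R', inferInstance, U, inferInstance, Spec.map (CommRingCat.ofHom γ) ≫ hW.fromSpec,
    Spec.map (CommRingCat.ofHom (algebraMap Γ(S, V) R')) ≫ hV.fromSpec, r, e.toRingHom, ?_, ?_, he, ?_, ?_⟩
  · have : Etale (Spec.map (CommRingCat.ofHom γ)) := (HasRingHomProperty.Spec_iff (P := @Etale)).2 hγ
    infer_instance
  · have : Etale (Spec.map (CommRingCat.ofHom (algebraMap Γ(S, V) R'))) :=
      (HasRingHomProperty.Spec_iff (P := @Etale)).2 (RingHom.etale_algebraMap.2 hR')
    infer_instance
  · rw [Category.assoc, ← hV.SpecMap_appLE_fromSpec f hW hWV, ← Category.assoc, ← Category.assoc, ← Category.assoc,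
      ← Spec.map_comp, ← Spec.map_comp, ← Spec.map_comp]
    congr 2
    refine CommRingCat.hom_ext (RingHom.ext fun t => ?_)
    show γ (appl t) = e (algebraMap R' _ (algebraMap Γ(S, V) R' t))
    rw [AlgHom.commutes]
    exact hγR t
  · refine ⟨(⟨qU, hqU⟩ : PrimeSpectrum U), ?_⟩
    show hW.fromSpec (Spec.map (CommRingCat.ofHom γ) (⟨qU, hqU⟩ : PrimeSpectrum U)) = x
    have h3 : (Spec.map (CommRingCat.ofHom γ)) (⟨qU, hqU⟩ : PrimeSpectrum U) = hW.primeIdealOf ⟨x, hxW⟩ :=
      PrimeSpectrum.ext hqγ
    rw [h3, hW.fromSpec_primeIdealOf]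

end Groth.Agent.Node12.Loc
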