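import Groth.Agent.Node12.Loc.SplitNode

/-!
# Charts at split nodes over a strictly henselian domain
-/

set_option autoImplicit false
set_option linter.style.haveILetI false
set_option maxHeartbeats 1600000
set_option synthInstance.maxHeartbeats 100000
set_option backward.isDefEq.respectTransparency.types false

universe u

open CategoryTheory Limits AlgebraicGeometry IsLocalRing

noncomputable section

namespace Groth.Agent.Node12.Loc

/-- Smoothness descends to the source of an etale chart. -/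
theorem not_smooth_of_etale_comp {P X S : Scheme.{u}} (g : P ⟶ X) [Etale g] (f : X ⟶ S)
    [LocallyOfFinitePresentation f] (p : P) (hp : g p ∉ f.smoothLocus) : p ∉ (g ≫ f).smoothLocus := by
  intro h
  refine hp ?_
  have hU := (Unr55.exists_smooth_iff (g ≫ f) p).2 ((Scheme.Hom.mem_smoothLocus).1 h)
  exact (Scheme.Hom.mem_smoothLocus).2 ((Unr55.exists_smooth_iff f _).1
    (Unr55.smooth_nhd_of_flatAt f g p (Flat.stalkMap g p) hU))

/-- Smooth points stay smooth on etale charts. -/
theorem smooth_of_etale_comp {P X S : Scheme.{u}} (g : P ⟶ X) [Etale g] (f : X ⟶ S)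
    [LocallyOfFinitePresentation f] (p : P) (hp : g p ∈ f.smoothLocus) : p ∈ (g ≫ f).smoothLocus := by
  let W := f.smoothLocus
  have : Smooth (W.ι ≫ f) := SchBasics.smooth_smoothLocus_ι _
  let V : P.Opens := g ⁻¹ᵁ W
  have hV : V.ι ≫ g ≫ f = (g ∣_ W) ≫ W.ι ≫ f := by
    rw [← Category.assoc, ← morphismRestrict_ι, Category.assoc]
  have : Smooth (V.ι ≫ g ≫ f) := hV ▸ inferInstance
  exact (Scheme.Hom.mem_smoothLocus).2 ((Unr55.exists_smooth_iff (g ≫ f) p).1 ⟨V, hp, this⟩)

/-- A node of a fibre of a flat curve is not a smooth point. -/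
theorem not_smooth_of_nodeAt {X S : Scheme.{u}} (f : X ⟶ S) [Flat f] [LocallyOfFinitePresentation f] (x : X)
    (hequi : ∀ Z ∈ irreducibleComponents (f.fiber (f x) : Type u), topologicalKrullDim Z = 1)
    (hx : NodeAt f x) : x ∉ f.smoothLocus := by
  intro hs
  let iF : (f.fiber (f x)).Over (Spec (CommRingCat.of (S.residueField (f x)))) :=
    ⟨f.fiberToSpecResidueField (f x)⟩
  have : LocallyOfFiniteType ((f.fiber (f x)) ↘ Spec (CommRingCat.of (S.residueField (f x)))) :=
    (inferInstance : LocallyOfFiniteType (pullback.snd f (S.fromSpecResidueField (f x))))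
  refine not_smooth_of_node (k := S.residueField (f x)) hequi (f.asFiber x) hx ?_
  show f.asFiber x ∈ (f.fiberToSpecResidueField (f x)).smoothLocus
  rw [smoothLocus_fibre_iff, Scheme.Hom.fiberι_asFiber]
  exact hs

/-- The coordinates vanish at the non-smooth points of the standard family. -/
theorem nodeVar_mem_of_not_smooth {R : Type u} [CommRing R] (r : R) (w : Spec (CommRingCat.of (NodeRing r)))
    (hw : w ∉ (nodeStruct r).smoothLocus) (i : Fin 2) : nodeVar r i ∈ w.asIdeal := by
  by_contra hi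
  haveI := finitePresentation_nodeRing r
  have h1 := (Algebra.basicOpen_subset_smoothLocus_iff (R := R) (f := nodeVar r i)).2 (formallySmooth_away r i)
  exact hw ((Open62.mem_smoothLocus_spec_iff w).2 (h1 hi))

/-- Base change of the standard family as a cartesian square. -/
theorem exists_nodeStruct_bc {R R' : Type u} [CommRing R] [CommRing R'] (r : R) (ψ : R →+* R') :
    ∃ q : Spec (CommRingCat.of (NodeRing (ψ r))) ⟶ Spec (CommRingCat.of (NodeRing r)),
      IsPullback q (nodeStruct (ψ r)) (nodeStruct r) (Spec.map (CommRingCat.ofHom ψ)) := by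
  obtain ⟨ρ, hρ⟩ := isPushout_nodeRing r ψ
  exact ⟨Spec.map ρ, isPullback_SpecMap_of_isPushout _ _ _ _ hρ⟩

/-- An etale morphism to a scheme over the base has an etale base change. -/
theorem exists_etale_bc {P W W' T T' : Scheme.{u}} {q : W' ⟶ W} {b : W' ⟶ T'} {a : W ⟶ T} {c : T' ⟶ T}
    (h : IsPullback q b a c) (g : P ⟶ W) [Etale g] :
    ∃ g' : pullback (g ≫ a) c ⟶ W', Etale g' ∧ g' ≫ b = pullback.snd _ _ ∧ g' ≫ q = pullback.fst _ _ ≫ g := by
  let g' := h.lift (pullback.fst (g ≫ a) c ≫ g) (pullback.snd _ _) (by rw [Category.assoc]; exact pullback.condition)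
  have h1 : g' ≫ q = pullback.fst (g ≫ a) c ≫ g := h.lift_fst _ _ _
  have h2 : g' ≫ b = pullback.snd (g ≫ a) c := h.lift_snd _ _ _
  have sq : IsPullback (pullback.fst (g ≫ a) c) g' g q :=
    IsPullback.of_bot (h2.symm ▸ IsPullback.of_hasPullback (g ≫ a) c) h1.symm h
  exact ⟨g', MorphismProperty.of_isPullback (P := @Etale) sq ‹Etale g›, h2, h1⟩

/-- The generic point and the closed point of a local domain. -/
abbrev genericPrime (R : Type u) [CommRing R] [IsDomain R] : Spec (CommRingCat.of R) :=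
  (⟨⊥, Ideal.isPrime_bot⟩ : PrimeSpectrum R)

/-- A non-smooth point of the generic fibre of an etale chart of the standard family specialising to the
closed fibre lies on a section. -/
theorem exists_origin_section {R : Type u} [CommRing R] [IsDomain R] [HenselianLocalRing R]
    [IsSepClosed (ResidueField R)] {r : R} {P : Scheme.{u}} (g : P ⟶ Spec (CommRingCat.of (NodeRing r))) [Etale g]
    (p p₀ : P) (hsp : p ⤳ p₀) (hη : (g ≫ nodeStruct r) p = genericPrime R)
    (h₀ : (g ≫ nodeStruct r) p₀ = closedPoint R) (hns : p ∉ (g ≫ nodeStruct r).smoothLocus) :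
    ∃ τ : Spec (CommRingCat.of R) ⟶ P, τ ≫ g ≫ nodeStruct r = 𝟙 _ ∧ τ (genericPrime R) = p := by
  have hcoord : ∀ i, nodeVar r i ∈ (g p).asIdeal :=
    nodeVar_mem_of_not_smooth r _ fun h => hns (smooth_of_etale_comp g _ _ h)
  have hcoord₀ : ∀ i, nodeVar r i ∈ (g p₀).asIdeal := fun i =>
    (PrimeSpectrum.le_iff_specializes (g p) (g p₀)).2 (hsp.map g.continuous) (hcoord i)
  have hr : r = 0 := by
    have h1 : algebraMap R (NodeRing r) r ∈ (g p).asIdeal :=
      nodeVar_mul r ▸ (g p).asIdeal.mul_mem_right _ (hcoord 0)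
    exact Ideal.mem_bot.1 (show r ∈ (genericPrime R).asIdeal from hη ▸ h1)
  have hr' : (0 : R) * 0 = r := by rw [hr, mul_zero]
  let o := Spec.map (CommRingCat.ofHom (nodeOrigin r hr').toRingHom)
  have ho : o ≫ nodeStruct r = 𝟙 _ := by
    rw [← Spec.map_comp, ← Spec.map_id]
    exact congrArg Spec.map (CommRingCat.hom_ext (RingHom.ext (nodeOrigin r hr').commutes))
  have hrange : ∀ w : Spec (CommRingCat.of (NodeRing r)), (∀ i, nodeVar r i ∈ w.asIdeal) →
      o (nodeStruct r w) = w := by
    intro w hw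
    refine PrimeSpectrum.ext (Ideal.ext fun q => ?_)
    obtain ⟨a, b, hab⟩ := exists_origin_decomp r hr' q
    have h1 : a * nodeVar r 0 + b * nodeVar r 1 ∈ w.asIdeal :=
      add_mem (w.asIdeal.mul_mem_left a (hw 0)) (w.asIdeal.mul_mem_left b (hw 1))
    show algebraMap R (NodeRing r) (nodeOrigin r hr' q) ∈ w.asIdeal ↔ q ∈ w.asIdeal
    conv_rhs => rw [hab, add_assoc]
    exact (Submodule.add_mem_iff_left _ h1).symm
  have hclosed : IsClosedImmersion o := IsClosedImmersion.spec_of_surjective _ fun t =>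
    ⟨algebraMap R _ t, (nodeOrigin r hr').commutes t⟩
  let Q := pullback g o
  obtain ⟨q, hq1, hq2⟩ := Scheme.Pullback.exists_preimage_pullback (f := g) (g := o) p (genericPrime R) (by
    rw [← hη]
    exact (hrange _ hcoord).symm)
  obtain ⟨q₀, hq₀1, hq₀2⟩ := Scheme.Pullback.exists_preimage_pullback (f := g) (g := o) p₀ (closedPoint R) (by
    rw [← h₀]
    exact (hrange _ hcoord₀).symm)
  have hqsp : q ⤳ q₀ := by
    rw [← ((pullback.fst g o).isClosedEmbedding.isInducing).specializes_iff, hq1, hq₀1]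
    exact hsp
  obtain ⟨t, ht, ht₀⟩ := Henz21.exists_section Q (pullback.snd g o) q₀ hq₀2
  have hte : Etale (t ≫ pullback.snd g o) := ht ▸ inferInstance
  have : Etale t := Etale.of_comp t (pullback.snd g o)
  obtain ⟨η', hη'⟩ := hqsp.mem_open t.isOpenMap.isOpen_range ⟨_, ht₀⟩
  have hη'' : η' = genericPrime R := by
    rw [← hq2, ← hη', ← Scheme.Hom.comp_apply, ht]
    rfl
  refine ⟨t ≫ pullback.fst g o, ?_, ?_⟩
  · rw [Category.assoc, pullback.condition_assoc, ho, Category.comp_id]
    exact ht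
  · rw [Scheme.Hom.comp_apply, ← hη'', hη', hq1]

section GenericFibre

attribute [local instance] Curv2.stalkAlgebra

/-- A non-smooth point of the generic fibre lying on a section of a chart of the standard family is a split
node. -/
theorem isOrdDoublePt_of_chart {R : Type u} [CommRing R] [IsDomain R] {C : Scheme.{u}}
    (f : C ⟶ Spec (CommRingCat.of R)) [LocallyOfFinitePresentation f] {r : R} {P : Scheme.{u}}
    (gP : P ⟶ C) [Etale gP] (g : P ⟶ Spec (CommRingCat.of (NodeRing r))) [Etale g]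
    (w : gP ≫ f = g ≫ nodeStruct r) (τ : Spec (CommRingCat.of R) ⟶ P)
    (hτ : τ ≫ g ≫ nodeStruct r = 𝟙 _) (y : ↥(pullback f (Neron.genPt R)))
    (hy : gP (τ (genericPrime R)) = pullback.fst f (Neron.genPt R) y)
    (hns : y ∉ (pullback.snd f (Neron.genPt R)).smoothLocus) :
    @Curv2.IsOrdDoublePt (FractionRing R) _ ((pullback f (Neron.genPt R)).presheaf.stalk y) _
      (@Curv2.stalkAlgebra (FractionRing R) _ (pullback f (Neron.genPt R)) ⟨pullback.snd f (Neron.genPt R)⟩ y) _ := by
  let K := FractionRing R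
  let c := Neron.genPt R
  obtain ⟨q, hq⟩ := exists_nodeStruct_bc r (algebraMap R K)
  obtain ⟨gK, hgK, hgK2, -⟩ := exists_etale_bc hq g
  obtain ⟨π, hπ, hπ2, hπ1⟩ := exists_etale_bc (IsPullback.of_hasPullback f c) gP
  let PK := pullback (g ≫ nodeStruct r) c
  let e : pullback (g ≫ nodeStruct r) c ≅ pullback (gP ≫ f) c := pullback.congrHom w.symm rfl
  let σ : Spec (CommRingCat.of K) ⟶ PK := pullback.lift (c ≫ τ) (𝟙 _) (by
    rw [Category.assoc, hτ, Category.comp_id, Category.id_comp])
  let π' : PK ⟶ pullback f c := e.hom ≫ π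
  have hπ'2 : π' ≫ pullback.snd f c = pullback.snd (g ≫ nodeStruct r) c := by
    simp only [π', Category.assoc, hπ2, e, pullback.congrHom_hom, pullback.lift_snd, Category.comp_id]
  have hπ'1 : π' ≫ pullback.fst f c = pullback.fst (g ≫ nodeStruct r) c ≫ gP := by
    simp only [π', Category.assoc, hπ1, e, pullback.congrHom_hom, pullback.map, pullback.lift_fst_assoc,
      Category.id_comp, Category.comp_id]
  have : Etale π' := inferInstance
  let iC : (pullback f c).Over (Spec (CommRingCat.of K)) := ⟨pullback.snd f c⟩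
  let iP : PK.Over (Spec (CommRingCat.of K)) := ⟨pullback.snd (g ≫ nodeStruct r) c⟩
  let iW : (Spec (CommRingCat.of (NodeRing (algebraMap R K r)))).Over (Spec (CommRingCat.of K)) :=
    ⟨nodeStruct (algebraMap R K r)⟩
  have : LocallyOfFiniteType ((pullback f c) ↘ Spec (CommRingCat.of K)) :=
    (inferInstance : LocallyOfFiniteType (pullback.snd f c))
  have : LocallyOfFiniteType ((Spec (CommRingCat.of (NodeRing (algebraMap R K r)))) ↘ Spec (CommRingCat.of K)) :=
    (inferInstance : LocallyOfFiniteType (nodeStruct (algebraMap R K r)))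
  have hσ : σ ≫ PK ↘ Spec (CommRingCat.of K) = 𝟙 _ := pullback.lift_snd _ _ _
  have hc : c (closedPoint K) = genericPrime R := by
    refine PrimeSpectrum.ext (Ideal.ext fun t => ?_)
    show algebraMap R K t ∈ maximalIdeal K ↔ t ∈ (⊥ : Ideal R)
    simp [maximalIdeal_eq_bot]
  have hyeq : π' (σ (closedPoint K)) = y := by
    have hinj : Function.Injective (pullback.fst f c) :=
      have : IsPreimmersion c := IsPreimmersion.of_isLocalization (nonZeroDivisors R)
      (pullback.fst f c).isEmbedding.injective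
    refine hinj ?_
    rw [← hy, ← hc]
    simp only [← Scheme.Hom.comp_apply]
    rw [Category.assoc, hπ'1, ← Category.assoc,
      show σ ≫ pullback.fst (g ≫ nodeStruct r) c = c ≫ τ from pullback.lift_fst _ _ _]
  have hnsP : σ (closedPoint K) ∉ (π' ≫ pullback.snd f c).smoothLocus :=
    not_smooth_of_etale_comp π' _ _ (hyeq ▸ hns)
  have hw : ∀ i, nodeVar (algebraMap R K r) i ∈ (gK (σ (closedPoint K))).asIdeal := by
    refine nodeVar_mem_of_not_smooth _ _ fun h => hnsP ?_
    have h1 := smooth_of_etale_comp gK (nodeStruct (algebraMap R K r)) (σ (closedPoint K)) h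
    simp only [hgK2] at h1
    simp only [hπ'2]
    exact h1
  rw [← hyeq]
  exact (isOrdDoublePt_iff_of_etale_section (k := K) π' hπ'2 σ hσ).2
    ((isOrdDoublePt_iff_of_etale_section (k := K) gK hgK2 σ hσ).1 (isOrdDoublePt_origin _ hw))

end GenericFibre

/-- A non-smooth point of the generic fibre of a flat proper curve with good closed fibre is a split node. -/
theorem split_genericFibre {R : Type u} [CommRing R] [IsDomain R] [HenselianLocalRing R]
    [IsSepClosed (ResidueField R)] {C : Scheme.{u}} (f : C ⟶ Spec (CommRingCat.of R)) [IsProper f]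
    (hf : Curv2.IsNodalFamily f) (y : ↥(pullback f (Neron.genPt R)))
    (hns : y ∉ (pullback.snd f (Neron.genPt R)).smoothLocus) :
    @Curv2.IsOrdDoublePt (FractionRing R) _ ((pullback f (Neron.genPt R)).presheaf.stalk y) _
      (@Curv2.stalkAlgebra (FractionRing R) _ (pullback f (Neron.genPt R)) ⟨pullback.snd f (Neron.genPt R)⟩ y) _ := by
  obtain ⟨hflat, hlfp, hfib⟩ := hf
  let x := pullback.fst f (Neron.genPt R) y
  have hxs : x ∉ f.smoothLocus := fun h =>
    hns (Open62.preimage_smoothLocus_le (IsPullback.of_hasPullback f (Neron.genPt R)) h)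
  have hfx : f x = genericPrime R := by
    show (pullback.fst f (Neron.genPt R) ≫ f) y = _
    rw [pullback.condition, Scheme.Hom.comp_apply]
    refine PrimeSpectrum.ext (Ideal.ext fun t => ?_)
    show algebraMap R (FractionRing R) t ∈ ((pullback.snd f (Neron.genPt R)) y).asIdeal ↔ t ∈ (⊥ : Ideal R)
    rw [Subsingleton.elim ((pullback.snd f (Neron.genPt R)) y) (closedPoint (FractionRing R))]
    show algebraMap R (FractionRing R) t ∈ maximalIdeal (FractionRing R) ↔ _
    simp [maximalIdeal_eq_bot]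
  obtain ⟨x₀, hxx₀, hx₀⟩ : ∃ x₀, x ⤳ x₀ ∧ f x₀ = closedPoint R :=
    f.isClosedMap.specializingMap (IsLocalRing.specializes_closedPoint (f x))
  have hx₀s : x₀ ∉ f.smoothLocus := fun h => hxs (hxx₀.mem_open f.smoothLocus.2 h)
  have hnode : NodeAt f x₀ := by
    rcases good_of_fibre_nodal f (f x₀) (hfib _).1 (hfib _).2 (f.asFiber x₀) with h
    rw [Scheme.Hom.fiberι_asFiber] at h
    exact h.resolve_left fun hU => hx₀s ((Scheme.Hom.mem_smoothLocus).2 ((Unr55.exists_smooth_iff f x₀).1 hU))
  obtain ⟨R₁, _, U, _, gU, gV, r, e, hgU, hgV, he, w, hxU⟩ := exists_scheme_model f (f x₀) (f.asFiber x₀) hnode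
  rw [Scheme.Hom.fiberι_asFiber] at hxU
  obtain ⟨u₀, hu₀⟩ := hxU
  let a := Spec.map (CommRingCat.ofHom e) ≫ nodeStruct r
  have hw : gU ≫ f = a ≫ gV := by rw [w, Category.assoc]
  have hgv : gV (a u₀) = closedPoint R := by
    rw [← Scheme.Hom.comp_apply, ← hw, Scheme.Hom.comp_apply, hu₀, hx₀]
  obtain ⟨s, hs, hs₀⟩ := Henz21.exists_section _ gV (a u₀) hgv
  have hse : Etale (s ≫ gV) := hs ▸ inferInstance
  have : Etale s := Etale.of_comp s gV
  obtain ⟨σ, rfl⟩ := Spec.map_surjective s
  obtain ⟨q, hq⟩ := exists_nodeStruct_bc r σ.hom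
  let g₁ := Spec.map (CommRingCat.ofHom e)
  have : Etale g₁ := (HasRingHomProperty.Spec_iff (P := @Etale)).2 he
  obtain ⟨g, hg, hg2, -⟩ := exists_etale_bc hq g₁
  let fs := pullback.fst a (Spec.map σ)
  let gP : pullback a (Spec.map σ) ⟶ C := fs ≫ gU
  have : Etale fs := MorphismProperty.pullback_fst _ _ ‹Etale (Spec.map σ)›
  have : Etale gP := inferInstance
  have hgP : gP ≫ f = g ≫ nodeStruct (σ.hom r) := by
    refine Eq.trans ?_ hg2.symm
    show (fs ≫ gU) ≫ f = pullback.snd a (Spec.map σ)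
    rw [Category.assoc, hw, pullback.condition_assoc, hs, Category.comp_id]
  obtain ⟨p₀, hp₀1, hp₀2⟩ := Scheme.Pullback.exists_preimage_pullback (f := a) (g := Spec.map σ) u₀ (closedPoint R)
    hs₀.symm
  have hgp₀ : gP p₀ = x₀ := by rw [Scheme.Hom.comp_apply, hp₀1, hu₀]
  obtain ⟨p, hpp₀, hp⟩ := Flat.generalizingMap gP (hgp₀ ▸ hxx₀ : x ⤳ gP p₀)
  obtain ⟨τ, hτ, hτp⟩ := exists_origin_section g p p₀ hpp₀
    (by rw [← hgP, Scheme.Hom.comp_apply, hp, hfx]) (by rw [← hgP, Scheme.Hom.comp_apply, hgp₀, hx₀])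
    (by
      have h := not_smooth_of_etale_comp gP f p (hp ▸ hxs)
      simp only [hgP] at h
      exact h)
  exact isOrdDoublePt_of_chart f gP g hgP τ hτ y (by rw [hτp, hp]) hns

end Groth.Agent.Node12.Loc
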