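import Groth.Agent.Node12.Loc.NodeDet
import Groth.Agent.Node12.Loc.Scheme
import Groth.Agent.Node12.Loc.BaseChange
import Groth.Agent.Node12.Loc.CplFibre
import Groth.Agent.Node12.Loc.SplitChart
import Groth.Agent.Unr55.EtStalk
import Groth.Agent.SpPts86.LocPMore

/-!
# Smoothness of a deformed node away from the closed point
-/

set_option autoImplicit false
set_option linter.style.haveILetI false
set_option maxHeartbeats 1600000
set_option synthInstance.maxHeartbeats 100000
set_option backward.isDefEq.respectTransparency.types false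

universe u

open CategoryTheory Limits AlgebraicGeometry IsLocalRing

noncomputable section

namespace Groth.Agent.Node12.Loc

theorem fromSpecStalk_toGlobal {Λ : Type u} [CommRing Λ] {X : Scheme.{u}} (f : X ⟶ Spec (CommRingCat.of Λ)) (x : X) :
    X.fromSpecStalk x ≫ f =
      Spec.map (CommRingCat.ofHom ((X.presheaf.germ ⊤ x trivial).hom.comp (Coh.toGlobal f))) := by
  have h1 : f = X.toSpecΓ ≫ Spec.map ((Scheme.ΓSpecIso (CommRingCat.of Λ)).inv ≫ f.appTop) := by
    rw [Spec.map_comp, ← Scheme.toSpecΓ_naturality_assoc]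
    simp [toSpecΓ_SpecMap_ΓSpecIso_inv]
  conv_lhs => rw [h1]
  rw [← Category.assoc, Scheme.fromSpecStalk_toSpecΓ, ← Spec.map_comp]
  rfl

/-- The map from the base ring to a local ring through the local ring of the base. -/
theorem germ_toGlobal_eq {Λ : Type u} [CommRing Λ] {X : Scheme.{u}} (f : X ⟶ Spec (CommRingCat.of Λ)) (x : X) :
    CommRingCat.ofHom ((X.presheaf.germ ⊤ x trivial).hom.comp (Coh.toGlobal f)) =
      StructureSheaf.toStalk Λ (f x) ≫ f.stalkMap x := by
  apply Spec.map_injective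
  rw [← fromSpecStalk_toGlobal, Spec.map_comp, ← Scheme.SpecMap_stalkMap_fromSpecStalk]
  exact congrArg (Spec.map (f.stalkMap x) ≫ ·) (Spec.fromSpecStalk_eq' (R := CommRingCat.of Λ) (x := f x))

theorem toStalk_closed_surjective {Λ : Type u} [CommRing Λ] [IsLocalRing Λ] (s : Spec (CommRingCat.of Λ))
    (hs : s = closedPoint Λ) : Function.Surjective (StructureSheaf.toStalk Λ s) := by
  let _ : Algebra Λ ((Spec (CommRingCat.of Λ)).presheaf.stalk s) := StructureSheaf.stalkAlgebra Λ s
  have : IsLocalization.AtPrime ((Spec (CommRingCat.of Λ)).presheaf.stalk s) s.asIdeal :=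
    StructureSheaf.IsLocalization.to_stalk Λ s
  intro z
  obtain ⟨⟨a, d⟩, hd⟩ := IsLocalization.surj s.asIdeal.primeCompl z
  have hu : IsUnit (d : Λ) := by
    have h := d.2
    subst hs
    exact notMem_maximalIdeal.1 h
  obtain ⟨v, hv⟩ := hu.exists_right_inv
  refine ⟨a * v, ?_⟩
  show algebraMap Λ _ (a * v) = z
  rw [map_mul, ← hd, mul_assoc, ← map_mul, hv, map_one, mul_one]

/-- Ring maps out of the local ring at a generalisation are determined on the local ring. -/
theorem hom_ext_stalkSpecializes {X : Scheme.{u}} {q p : X} (h : q ⤳ p) {T : Type u} [CommRing T]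
    (g g' : X.presheaf.stalk q →+* T)
    (he : ∀ b, g ((X.presheaf.stalkSpecializes h).hom b) = g' ((X.presheaf.stalkSpecializes h).hom b)) : g = g' := by
  obtain ⟨W, hW, hpW, -⟩ := exists_isAffineOpen_mem_and_subset (U := (⊤ : X.Opens)) (x := p) trivial
  have hqW : q ∈ W := h.mem_open W.2 hpW
  let _ : Algebra Γ(X, W) (X.presheaf.stalk q) := (X.presheaf.germ W q hqW).hom.toAlgebra
  have : IsLocalization.AtPrime (X.presheaf.stalk q) (hW.primeIdealOf ⟨q, hqW⟩).asIdeal :=
    hW.isLocalization_stalk ⟨q, hqW⟩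
  refine IsLocalization.ringHom_ext (hW.primeIdealOf ⟨q, hqW⟩).asIdeal.primeCompl (RingHom.ext fun c => ?_)
  have hc : X.presheaf.germ W q hqW = X.presheaf.germ W p hpW ≫ X.presheaf.stalkSpecializes h :=
    (X.presheaf.germ_stalkSpecializes hpW h).symm
  show g ((X.presheaf.germ W q hqW).hom c) = g' ((X.presheaf.germ W q hqW).hom c)
  rw [hc]
  exact he _

variable {Λ : Type u} [CommRing Λ] [IsLocalRing Λ] [IsNoetherianRing Λ] {X : Scheme.{u}}
  (f : X ⟶ Spec (CommRingCat.of Λ))

/-- A deformed node is a node of the closed fibre. -/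
theorem nodeAt_of_completion [LocallyOfFiniteType f] (p : X) (hp : f p = closedPoint Λ) (u : Λ)
    (hu : u ∈ maximalIdeal Λ)
    (E : AdicCompletion (maximalIdeal (X.presheaf.stalk p)) (X.presheaf.stalk p) ≃+*
      (MvPowerSeries (Fin 2) Λ ⧸ Ideal.span {(MvPowerSeries.X 0 * MvPowerSeries.X 1 - MvPowerSeries.C u :
        MvPowerSeries (Fin 2) Λ)}))
    (hE : ∀ c, E (algebraMap (X.presheaf.stalk p) _
      (((X.presheaf.germ ⊤ p trivial).hom.comp (Coh.toGlobal f)) c)) = Ideal.Quotient.mk _ (MvPowerSeries.C c)) :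
    NodeAt f p := by
  let S := Spec (CommRingCat.of Λ)
  let κ : Type u := S.residueField (f p)
  let P : Type u := X.presheaf.stalk p
  let F := f.fiber (f p)
  let P' : Type u := F.presheaf.stalk (f.asFiber p)
  let iF : F.Over (Spec (CommRingCat.of (S.residueField (f p)))) := ⟨f.fiberToSpecResidueField (f p)⟩
  have : LocallyOfFiniteType (F ↘ Spec (CommRingCat.of (S.residueField (f p)))) :=
    (inferInstance : LocallyOfFiniteType (pullback.snd f (S.fromSpecResidueField (f p))))
  have : IsLocallyNoetherian X := LocallyOfFiniteType.isLocallyNoetherian f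
  have : IsLocallyNoetherian F := LocallyOfFiniteType.isLocallyNoetherian (F ↘ Spec (CommRingCat.of (S.residueField (f p))))
  let j : Λ →+* P := (X.presheaf.germ ⊤ p trivial).hom.comp (Coh.toGlobal f)
  have hj : CommRingCat.ofHom j = StructureSheaf.toStalk Λ (f p) ≫ f.stalkMap p := germ_toGlobal_eq f p
  let t : CommRingCat.of Λ ⟶ S.presheaf.stalk (f p) := StructureSheaf.toStalk Λ (f p)
  have ht : Function.Surjective t := toStalk_closed_surjective _ hp
  let ρ : Λ →+* κ := (t ≫ S.residue (f p)).hom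
  have hρ : Function.Surjective ρ := (S.residue_surjective (f p)).comp ht
  have hρu : ρ u = 0 := by
    rw [← RingHom.mem_ker, eq_maximalIdeal (RingHom.ker_isMaximal_of_surjective ρ hρ)]
    exact hu
  obtain ⟨θ, hθs, hθC, hθk⟩ := exists_node_reduction j u E hE ρ hρ
  obtain ⟨π, hπ, hker, hspec⟩ := exists_fibre_quot f (f p) (f.asFiber p) p (f.fiberι_asFiber p)
  let sA : S.residueField (f p) ⟶ F.presheaf.stalk (f.asFiber p) :=
    CommRingCat.ofHom (Curv2.stalkMap (S.residueField (f p)) F (f.asFiber p))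
  have hcomp : f.stalkMap p ≫ π = S.residue (f p) ≫ sA := by
    apply Spec.map_injective
    rw [← cancel_mono (S.fromSpecStalk (f p)), Spec.map_comp, Spec.map_comp, Category.assoc,
      Scheme.SpecMap_stalkMap_fromSpecStalk, reassoc_of% hspec, f.fiber_fac, Category.assoc]
    exact (Category.assoc _ _ _).symm.trans
      (congrArg (· ≫ S.fromSpecResidueField (f p)) (Curves2.fromSpecStalk_struct
        (F ↘ Spec (CommRingCat.of (S.residueField (f p)))) (f.asFiber p)))
  have hπj : ∀ c, π.hom (j c) = sA.hom (ρ c) := fun c => by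
    rw [show j c = (f.stalkMap p).hom (t.hom c) from RingHom.congr_fun (congrArg CommRingCat.Hom.hom hj) c]
    exact RingHom.congr_fun (congrArg CommRingCat.Hom.hom hcomp) (t.hom c)
  let _ : Algebra P P' := π.hom.toAlgebra
  have hk1 : (RingHom.ker ρ).map j = RingHom.ker π.hom := by
    have hm : (RingHom.ker ρ).map t.hom = maximalIdeal (S.presheaf.stalk (f p)) := by
      rw [show RingHom.ker ρ = (RingHom.ker (S.residue (f p)).hom).comap t.hom from (RingHom.comap_ker _ _).symm,
        Ideal.map_comap_of_surjective _ ht]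
      exact IsLocalRing.ker_residue
    rw [hker, show j = (f.stalkMap p).hom.comp t.hom from congrArg CommRingCat.Hom.hom hj, ← Ideal.map_map, hm]
  have hk2 : RingHom.ker (EGA4H10.cplMap P P' hπ) = RingHom.ker θ := by
    rw [EGA4H10.ker_cplMap, hθk, hk1]
    rfl
  let e₁ := (RingHom.quotientKerEquivOfSurjective (EGA4H10.cplMap_surjective P P' hπ)).symm.trans
    ((Ideal.quotEquivOfEq hk2).trans (RingHom.quotientKerEquivOfSurjective hθs))
  have hI : Ideal.span {(MvPowerSeries.X 0 * MvPowerSeries.X 1 - MvPowerSeries.C (ρ u) : MvPowerSeries (Fin 2) κ)} =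
      Ideal.span {(MvPowerSeries.X 0 * MvPowerSeries.X 1 : MvPowerSeries (Fin 2) κ)} := by
    rw [hρu, map_zero, sub_zero]
  let _ : Algebra κ P' := Curv2.stalkAlgebra (S.residueField (f p)) F (f.asFiber p)
  have hodp : Curv2.IsOrdDoublePt κ P' := by
    refine ⟨e₁.trans (Ideal.quotEquivOfEq hI), fun c => ?_⟩
    obtain ⟨l, rfl⟩ := hρ c
    have h1 : algebraMap P' (AdicCompletion (maximalIdeal P') P') (algebraMap κ P' (ρ l)) =
        RingHom.quotientKerEquivOfSurjective (EGA4H10.cplMap_surjective P P' hπ)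
          (Ideal.Quotient.mk _ (algebraMap P _ (j l))) := by
      rw [RingHom.quotientKerEquivOfSurjective_apply_mk, EGA4H10.cplMap_algebraMap]
      exact congrArg _ (hπj l).symm
    rw [h1]
    simp only [e₁, RingEquiv.trans_apply, RingEquiv.symm_apply_apply]
    exact (congrArg (Ideal.quotEquivOfEq hI) (hθC l)).trans (Ideal.quotEquivOfEq_mk _ _)
  have hsq : IsPullback (𝟙 F) (F ↘ Spec (CommRingCat.of (S.residueField (f p))))
      (F ↘ Spec (CommRingCat.of (S.residueField (f p))))
      (Spec.map (CommRingCat.ofHom (algebraMap (S.residueField (f p)) (S.residueField (f p))))) := by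
    have : Spec.map (CommRingCat.ofHom (algebraMap (S.residueField (f p)) (S.residueField (f p)))) = 𝟙 _ := by
      rw [Algebra.algebraMap_self]
      exact Spec.map_id _
    rw [this]
    exact IsPullback.id_horiz _
  obtain ⟨h1, h2, h3, -⟩ := of_isOrdDoublePt (k := S.residueField (f p)) hsq (f.asFiber p) hodp
  exact (Node12.isNode_iff _).2 ⟨h1, h2, h3⟩

/-- A generalisation of a deformed node is not a node where the parameter does not vanish. -/
theorem not_nodeAt_of_completion [LocallyOfFiniteType f] [Flat f] {q p : X} (hqp : q ⤳ p) (hp : f p = closedPoint Λ)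
    (u : Λ) (hu : u ∉ (f q).asIdeal)
    (E : AdicCompletion (maximalIdeal (X.presheaf.stalk p)) (X.presheaf.stalk p) ≃+*
      (MvPowerSeries (Fin 2) Λ ⧸ Ideal.span {(MvPowerSeries.X 0 * MvPowerSeries.X 1 - MvPowerSeries.C u :
        MvPowerSeries (Fin 2) Λ)}))
    (hE : ∀ c, E (algebraMap (X.presheaf.stalk p) _
      (((X.presheaf.germ ⊤ p trivial).hom.comp (Coh.toGlobal f)) c)) = Ideal.Quotient.mk _ (MvPowerSeries.C c))
    (hq : q ∉ f.smoothLocus) : ¬ NodeAt f q := by
  intro hn
  have : IsLocallyNoetherian X := LocallyOfFiniteType.isLocallyNoetherian f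
  have : LocallyOfFinitePresentation f := SpPts86.lfp_of_lft f
  obtain ⟨R₁, _, U, _, gU, gV, r, e, hgU, hgV, he, w, hqU⟩ := exists_scheme_model f (f q) (f.asFiber q) hn
  rw [Scheme.Hom.fiberι_asFiber] at hqU
  obtain ⟨v, rfl⟩ := hqU
  let g₁ := Spec.map (CommRingCat.ofHom e)
  have : Etale g₁ := (HasRingHomProperty.Spec_iff (P := @Etale)).2 he
  have hcoord : ∀ i, nodeVar r i ∈ (g₁ v).asIdeal := nodeVar_mem_of_not_smooth r _ (fun h => hq (by
    have h1 : v ∈ (gU ≫ f).smoothLocus := by
      have hns : Smooth (((nodeStruct r).smoothLocus).ι ≫ nodeStruct r) := SchBasics.smooth_smoothLocus_ι _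
      let V := g₁ ⁻¹ᵁ (nodeStruct r).smoothLocus
      have hV : V.ι ≫ gU ≫ f = ((g₁ ∣_ _) ≫ (nodeStruct r).smoothLocus.ι ≫ nodeStruct r) ≫ gV := by
        rw [w, Category.assoc, Category.assoc, morphismRestrict_ι_assoc]
      have : Smooth (V.ι ≫ gU ≫ f) := hV ▸ inferInstance
      exact (Scheme.Hom.mem_smoothLocus).2 ((Unr55.exists_smooth_iff (gU ≫ f) v).1 ⟨V, h, this⟩)
    exact (Scheme.Hom.mem_smoothLocus).2 ((Unr55.exists_smooth_iff f _).1
      (Unr55.smooth_nhd_of_flatAt f gU v (Flat.stalkMap gU v)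
        ((Unr55.exists_smooth_iff (gU ≫ f) v).2 ((Scheme.Hom.mem_smoothLocus).1 h1))))))
  let B : Type u := X.presheaf.stalk p
  let Oq : Type u := X.presheaf.stalk (gU v)
  let Ou : Type u := (Spec (CommRingCat.of U)).presheaf.stalk v
  let K : Type u := ResidueField Ou
  let η : U →+* Ou := (StructureSheaf.toStalk U v).hom
  let _ : Algebra U Ou := StructureSheaf.stalkAlgebra U v
  have : IsLocalization.AtPrime Ou v.asIdeal := StructureSheaf.IsLocalization.to_stalk U v
  let _ : Algebra U K := ((residue Ou).comp η).toAlgebra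
  have hK : ∀ i, algebraMap U K (e (nodeVar r i)) = 0 := fun i =>
    (residue_eq_zero_iff _).2 ((IsLocalization.AtPrime.to_map_mem_maximal_iff Ou v.asIdeal _).2 (hcoord i))
  choose φ hφ1 hφ2 hφ3 using fun a : Fin 2 → K => exists_node_tangent r e he hK a
  have hunit : ∀ a, ∀ z : v.asIdeal.primeCompl, IsUnit (φ a z) := fun a z => by
    rw [TrivSqZeroExt.isUnit_iff_isUnit_fst, hφ1]
    exact ((IsLocalization.map_units Ou z).map (residue Ou))
  let Φ : (Fin 2 → K) → Ou →+* TrivSqZeroExt K K := fun a =>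
    IsLocalization.lift (M := v.asIdeal.primeCompl) (S := Ou) (g := φ a) (hunit a)
  have hΦ : ∀ a z, Φ a (η z) = φ a z := fun a z => IsLocalization.lift_eq (hunit a) z
  have hΦ1 : ∀ a z, (Φ a z).fst = residue Ou z := fun a z => by
    refine RingHom.congr_fun (IsLocalization.ringHom_ext v.asIdeal.primeCompl
      (j := (TrivSqZeroExt.fstHom K K K).toRingHom.comp (Φ a)) (k := residue Ou) (RingHom.ext fun c => ?_)) z
    show (Φ a (η c)).fst = residue Ou (η c)
    rw [hΦ, hφ1]
    rfl
  let ω : CommRingCat.of Λ ⟶ CommRingCat.of R₁ := Spec.preimage gV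
  let hB : B →+* Ou := (gU.stalkMap v).hom.comp (X.presheaf.stalkSpecializes hqp).hom
  let jB : Λ →+* B := (X.presheaf.germ ⊤ p trivial).hom.comp (Coh.toGlobal f)
  have hspecΛ : Spec.map (CommRingCat.ofHom jB ≫ X.presheaf.stalkSpecializes hqp ≫ gU.stalkMap v) =
      (Spec (CommRingCat.of U)).fromSpecStalk v ≫ gU ≫ f := by
    simp only [Spec.map_comp, Category.assoc]
    rw [← fromSpecStalk_toGlobal f p, Scheme.SpecMap_stalkSpecializes_fromSpecStalk_assoc,
      Scheme.SpecMap_stalkMap_fromSpecStalk_assoc]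
  have hΛ : hB.comp jB = η.comp (e.comp ((algebraMap R₁ (NodeRing r)).comp ω.hom)) := by
    have key : CommRingCat.ofHom jB ≫ X.presheaf.stalkSpecializes hqp ≫ gU.stalkMap v =
        (ω ≫ CommRingCat.ofHom (algebraMap R₁ (NodeRing r)) ≫ CommRingCat.ofHom e) ≫ StructureSheaf.toStalk U v := by
      apply Spec.map_injective
      rw [hspecΛ, w]
      refine Eq.trans ?_ (Spec.map_comp _ _).symm
      rw [Spec.map_comp, Spec.map_comp, show Spec.map ω = gV from Spec.map_preimage gV, Category.assoc]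
      exact congrArg (· ≫ Spec.map (CommRingCat.ofHom e) ≫ nodeStruct r ≫ gV)
        (Spec.fromSpecStalk_eq' (R := CommRingCat.of U) (x := v))
    exact congrArg CommRingCat.Hom.hom key
  let _ : Algebra Λ B := jB.toAlgebra
  let _ : Algebra B K := ((residue Ou).comp hB).toAlgebra
  let _ : Algebra Λ K := ((residue Ou).comp (hB.comp jB)).toAlgebra
  haveI : IsScalarTower Λ B K := IsScalarTower.of_algebraMap_eq' rfl
  haveI : IsNoetherianRing B := inferInstanceAs (IsNoetherianRing (X.presheaf.stalk p))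
  have : Algebra.EssFiniteType Λ B := by
    rw [← RingHom.essFiniteType_algebraMap, RingHom.algebraMap_toAlgebra]
    rw [show jB = (f.stalkMap p).hom.comp (StructureSheaf.toStalk Λ (f p)).hom from
      congrArg CommRingCat.Hom.hom (germ_toGlobal_eq f p)]
    exact RingHom.EssFiniteType.comp
      (RingHom.FiniteType.essFiniteType (RingHom.FiniteType.of_surjective _ (toStalk_closed_surjective _ hp)))
      (LocallyOfFiniteType.stalkMap f p)
  have huK : algebraMap Λ K u ≠ 0 := by
    intro h0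
    refine hu ?_
    have h1 : hB (jB u) ∈ maximalIdeal Ou := (residue_eq_zero_iff _).1 h0
    have h2 : Spec.map (CommRingCat.ofHom (hB.comp jB)) (closedPoint Ou) = f (gU v) :=
      (congrArg (fun m : Spec ((Spec (CommRingCat.of U)).presheaf.stalk v) ⟶ Spec (CommRingCat.of Λ) =>
        m (closedPoint Ou)) hspecΛ).trans (congrArg (gU ≫ f) (Scheme.fromSpecStalk_closedPoint (x := v)))
    rw [← h2]
    exact h1
  let D : (Fin 2 → K) → Derivation Λ B K := fun a =>
    Derivation.mk'
      { toFun := fun b => (Φ a (hB b)).snd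
        map_add' := fun b c => by simp
        map_smul' := fun l b => by
          simp only [Algebra.smul_def, RingHom.algebraMap_toAlgebra, map_mul, TrivSqZeroExt.snd_mul, hΦ1,
            RingHom.id_apply]
          rw [show (Φ a (hB (jB l))).snd = 0 by
            rw [show hB (jB l) = η (e (algebraMap R₁ (NodeRing r) (ω.hom l))) from RingHom.congr_fun hΛ l, hΦ]
            exact hφ3 a _]
          simp }
      (fun b c => by
        simp only [LinearMap.coe_mk, AddHom.coe_mk, map_mul, TrivSqZeroExt.snd_mul, hΦ1, Algebra.smul_def,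
          RingHom.algebraMap_toAlgebra, RingHom.comp_apply, MulOpposite.smul_eq_mul_unop, MulOpposite.unop_op,
          smul_eq_mul, Algebra.algebraMap_self, RingHom.id_apply]
        ring)
  have hdet := det_eq_zero (K := K) u huK (exists_approx_coords u E hE) (D ![1, 0]) (D ![0, 1])
  let s₁ : Ou → K := fun z => (Φ ![1, 0] z).snd
  let s₂ : Ou → K := fun z => (Φ ![0, 1] z).snd
  obtain ⟨α, β, hne, hαβ⟩ : ∃ α β : K, (α ≠ 0 ∨ β ≠ 0) ∧ ∀ b, α * s₁ (hB b) + β * s₂ (hB b) = 0 := by
    by_cases h : ∃ b, s₁ (hB b) ≠ 0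
    · obtain ⟨b, hb⟩ := h
      refine ⟨s₂ (hB b), -s₁ (hB b), Or.inr (neg_ne_zero.2 hb), fun c => ?_⟩
      have h1 : s₁ (hB b) * s₂ (hB c) - s₁ (hB c) * s₂ (hB b) = 0 := hdet b c
      linear_combination -h1
    · push Not at h
      exact ⟨1, 0, Or.inl one_ne_zero, fun c => by rw [h c]; ring⟩
  let ψ : Ou →+* TrivSqZeroExt K K :=
    { toFun := fun z => TrivSqZeroExt.inl (residue Ou z) + TrivSqZeroExt.inr (α * s₁ z + β * s₂ z)
      map_one' := by simp [s₁, s₂]
      map_zero' := by simp [s₁, s₂]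
      map_mul' := fun y z => by
        refine TrivSqZeroExt.ext (by simp) ?_
        simp [s₁, s₂, hΦ1, MulOpposite.smul_eq_mul_unop]
        ring
      map_add' := fun y z => by
        refine TrivSqZeroExt.ext (by simp) ?_
        simp [s₁, s₂]
        ring }
  let ψ₀ : Ou →+* TrivSqZeroExt K K := (TrivSqZeroExt.inlHom K K).comp (residue Ou)
  have hq' : ψ.comp (gU.stalkMap v).hom = ψ₀.comp (gU.stalkMap v).hom :=
    hom_ext_stalkSpecializes hqp _ _ fun b => by
      refine TrivSqZeroExt.ext (by simp [ψ, ψ₀]) ?_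
      simp [ψ, ψ₀]
      exact hαβ b
  let _ : Algebra Oq Ou := (gU.stalkMap v).hom.toAlgebra
  haveI : Algebra.FormallyUnramified Oq Ou := by
    rw [← RingHom.formallyUnramified_algebraMap, RingHom.algebraMap_toAlgebra]
    exact FormallyUnramified.stalkMap gU v
  let _ : Algebra Oq (TrivSqZeroExt K K) := (ψ₀.comp (gU.stalkMap v).hom).toAlgebra
  let π : TrivSqZeroExt K K →+* K := (TrivSqZeroExt.fstHom K K K).toRingHom
  have hψ : ψ = ψ₀ := by
    have h : ({ ψ with commutes' := RingHom.congr_fun hq' } : Ou →ₐ[Oq] TrivSqZeroExt K K) =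
        { ψ₀ with commutes' := fun _ => rfl } := by
      refine Algebra.FormallyUnramified.ext (RingHom.ker π) ⟨2, le_bot_iff.1 ((sq (RingHom.ker π)).le.trans
        (Ideal.mul_le.2 fun s hs t ht => ?_))⟩ fun z => Ideal.Quotient.eq.2 ?_
      · have hs' : TrivSqZeroExt.fst s = 0 := hs
        have ht' : TrivSqZeroExt.fst t = 0 := ht
        show s * t = 0
        exact TrivSqZeroExt.ext ((TrivSqZeroExt.fst_mul s t).trans (by rw [hs', zero_mul, TrivSqZeroExt.fst_zero]))
          ((TrivSqZeroExt.snd_mul s t).trans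
            (by rw [hs', ht', zero_smul, MulOpposite.op_zero, zero_smul, add_zero, TrivSqZeroExt.snd_zero]))
      · show TrivSqZeroExt.fst (ψ z - ψ₀ z) = 0
        simp [ψ, ψ₀]
    exact RingHom.ext fun z => DFunLike.congr_fun h z
  have hval : ∀ i, α * (![1, 0] : Fin 2 → K) i + β * (![0, 1] : Fin 2 → K) i = 0 := fun i => by
    have h := congrArg TrivSqZeroExt.snd (RingHom.congr_fun hψ (η (e (nodeVar r i))))
    simp [ψ, ψ₀, s₁, s₂, hΦ, hφ2] at h
    simpa using h
  rcases hne with hα | hβ
  · exact hα (by simpa using hval 0)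
  · exact hβ (by simpa using hval 1)

/-- Smoothness away from the closed point of a family with deformed nodes. -/
theorem smooth_off_closedFibre [Flat f] [IsProper f] (u : Λ) (hu : (Ideal.span {u}).radical = maximalIdeal Λ)
    (P : Set X) (hP : ∀ p ∈ P, f p = closedPoint Λ)
    (hsm : ∀ q : X, f q = closedPoint Λ → q ∉ P → ∃ U : X.Opens, q ∈ U ∧ SmoothOfRelativeDimension 1 (U.ι ≫ f))
    (hnode : ∀ p ∈ P, ∃ E : AdicCompletion (maximalIdeal (X.presheaf.stalk p)) (X.presheaf.stalk p) ≃+*
        (MvPowerSeries (Fin 2) Λ ⧸ Ideal.span {(MvPowerSeries.X 0 * MvPowerSeries.X 1 - MvPowerSeries.C u :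
          MvPowerSeries (Fin 2) Λ)}),
      ∀ c, E (algebraMap (X.presheaf.stalk p) _ (((X.presheaf.germ ⊤ p trivial).hom.comp (Coh.toGlobal f)) c)) =
        Ideal.Quotient.mk _ (MvPowerSeries.C c))
    (q : X) (hq : f q ≠ closedPoint Λ) : ∃ U : X.Opens, q ∈ U ∧ SmoothOfRelativeDimension 1 (U.ι ≫ f) := by
  have : IsLocallyNoetherian X := LocallyOfFiniteType.isLocallyNoetherian f
  have : LocallyOfFinitePresentation f := SpPts86.lfp_of_lft f
  obtain ⟨p, hqp, hp⟩ : ∃ p, q ⤳ p ∧ f p = closedPoint Λ :=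
    f.isClosedMap.specializingMap (IsLocalRing.specializes_closedPoint (f q))
  by_cases hpP : p ∈ P
  swap
  · obtain ⟨U, hpU, hU⟩ := hsm p hp hpP
    exact ⟨U, hqp.mem_open U.2 hpU, hU⟩
  obtain ⟨E, hE⟩ := hnode p hpP
  have hum : u ∈ maximalIdeal Λ := hu ▸ Ideal.le_radical (Ideal.mem_span_singleton_self u)
  obtain ⟨V, hpV, hV⟩ := exists_nodal_nhd_of_node f p (nodeAt_of_completion f p hp u hum E hE)
  have hqV : q ∈ V := hqp.mem_open V.2 hpV
  have huq : u ∉ (f q).asIdeal := fun h => hq (PrimeSpectrum.ext (le_antisymm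
    (IsLocalRing.le_maximalIdeal (f q).isPrime.ne_top)
    (hu.symm.le.trans ((f q).isPrime.radical_le_iff.2 ((Ideal.span_singleton_le_iff_mem _).2 h)))))
  have hs : q ∈ f.smoothLocus := by
    by_contra hs
    rcases good_of_opens f V ⟨q, hqV⟩ (good_of_nodalFamily _ hV _) with hU | hn
    · exact hs ((Scheme.Hom.mem_smoothLocus).2 ((Unr55.exists_smooth_iff f _).1 hU))
    · exact not_nodeAt_of_completion f hqp hp u huq E hE hs hn
  obtain ⟨n, U, hqU, hU, hn⟩ := exists_smoothRelDim_nhd f q hs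
  let O : X.Opens := U ⊓ V
  have h1 : SmoothOfRelativeDimension n (O.ι ≫ f) := by
    have h2 : SmoothOfRelativeDimension (0 + n) (X.homOfLE (inf_le_left : O ≤ U) ≫ U.ι ≫ f) := inferInstance
    rw [Scheme.homOfLE_ι_assoc, zero_add] at h2
    exact h2
  have h3 : Curv2.IsNodalFamily (O.ι ≫ f) := by
    have := S1592.result _ hV (X.homOfLE (inf_le_right : O ≤ V))
    rwa [Scheme.homOfLE_ι_assoc] at this
  obtain rfl : n = 1 := relDim_eq_one (O.ι ≫ f) n h3 ⟨q, hqU, hqV⟩
  exact ⟨U, hqU, hU⟩

end Groth.Agent.Node12.Loc
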