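import Groth.Agent.Node12.Loc.CplNode
import Groth.Agent.Node12.Loc.StdFibre
import Groth.Agent.Node12.Loc.Dvr
import Groth.Agent.CAlg9.Node.Domain

/-!
# Derivations at a deformed node
-/

set_option autoImplicit false
set_option linter.style.haveILetI false
set_option maxHeartbeats 1600000
set_option synthInstance.maxHeartbeats 100000

universe u

open IsLocalRing

noncomputable section

namespace Groth.Agent.Node12.Loc

/-- Derivations of a polynomial expression in two elements are combinations of their values there. -/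
theorem exists_der_coeff {Λ B K : Type u} [CommRing Λ] [CommRing B] [CommRing K] [Algebra Λ B] [Algebra B K]
    [Algebra Λ K] [IsScalarTower Λ B K] (x y : B) (p : MvPolynomial (Fin 2) Λ) :
    ∃ P Q : B, ∀ d : Derivation Λ B K, d (MvPolynomial.aeval ![x, y] p) = P • d x + Q • d y := by
  induction p using MvPolynomial.induction_on with
  | C t => exact ⟨0, 0, fun d => by simp⟩
  | add p q hp hq =>
    obtain ⟨P, Q, hp⟩ := hp
    obtain ⟨P', Q', hq⟩ := hq
    exact ⟨P + P', Q + Q', fun d => by rw [map_add, map_add, hp, hq, add_smul, add_smul]; abel⟩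
  | mul_X p i hp =>
    obtain ⟨P, Q, hp⟩ := hp
    fin_cases i
    · exact ⟨P * x + MvPolynomial.aeval ![x, y] p, Q * x, fun d => by
        simp [hp, Derivation.leibniz, add_smul, mul_smul, smul_add, smul_comm x]; abel⟩
    · exact ⟨P * y, Q * y + MvPolynomial.aeval ![x, y] p, fun d => by
        simp [hp, Derivation.leibniz, add_smul, mul_smul, smul_add, smul_comm y]; abel⟩

theorem der_mem_pow {Λ B K : Type u} [CommRing Λ] [CommRing B] [CommRing K] [Algebra Λ B] [Algebra B K]
    [Algebra Λ K] (d : Derivation Λ B K) (N : Submodule B K) (hd : ∀ b, d b ∈ N) (J : Ideal B) :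
    ∀ (n : ℕ) (b : B), b ∈ J ^ (n + 1) → d b ∈ (J ^ n • N : Submodule B K) := by
  intro n
  induction n with
  | zero =>
    intro b _
    rw [pow_zero, Ideal.one_eq_top, Submodule.top_smul]
    exact hd b
  | succ n ih =>
    intro b hb
    rw [pow_succ' J (n + 1)] at hb
    refine Submodule.mul_induction_on hb (fun s hs t ht => ?_) (fun s t hs ht => by rw [map_add]; exact add_mem hs ht)
    rw [Derivation.leibniz]
    refine add_mem ?_ (Submodule.smul_mem_smul ht (hd s))
    rw [pow_succ', ← smul_eq_mul (J), Submodule.smul_assoc]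
    exact Submodule.smul_mem_smul hs (ih t ht)

/-- All Jacobians of a deformed node vanish where the parameter does not. -/
theorem det_eq_zero {Λ B K : Type u} [CommRing Λ] [CommRing B] [IsLocalRing B] [IsNoetherianRing B]
    [Algebra Λ B] [Algebra.EssFiniteType Λ B] [Field K] [Algebra B K] [Algebra Λ K] [IsScalarTower Λ B K]
    (u : Λ) (hu : algebraMap Λ K u ≠ 0)
    (happ : ∀ n, ∃ x y : B, x * y - algebraMap Λ B u ∈ maximalIdeal B ^ n ∧
      ∀ b, ∃ p : MvPolynomial (Fin 2) Λ, b - MvPolynomial.aeval ![x, y] p ∈ maximalIdeal B ^ n)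
    (d₁ d₂ : Derivation Λ B K) (b c : B) : d₁ b * d₂ c - d₁ c * d₂ b = 0 := by
  let N : Submodule B K := LinearMap.range d₁.liftKaehlerDifferential ⊔ LinearMap.range d₂.liftKaehlerDifferential
  have hd₁ : ∀ t, d₁ t ∈ N := fun t =>
    Submodule.mem_sup_left ⟨_, d₁.liftKaehlerDifferential_comp_D t⟩
  have hd₂ : ∀ t, d₂ t ∈ N := fun t =>
    Submodule.mem_sup_right ⟨_, d₂.liftKaehlerDifferential_comp_D t⟩
  have hN : N.FG := Submodule.FG.sup (Submodule.fg_range _) (Submodule.fg_range _)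
  let NN : Submodule B K := N * N
  haveI : Module.Finite B NN := Module.Finite.iff_fg.2 (hN.mul hN)
  have key : ∀ n, algebraMap Λ K u * (d₁ b * d₂ c - d₁ c * d₂ b) ∈ (maximalIdeal B ^ n • NN : Submodule B K) := by
    intro n
    obtain ⟨x, y, hxy, happ'⟩ := happ (n + 1)
    let G : Submodule B K := maximalIdeal B ^ n • NN
    have hl : ∀ z ∈ (maximalIdeal B ^ n • N : Submodule B K), ∀ w ∈ N, z * w ∈ G ∧ w * z ∈ G := by
      intro z hz w hw
      refine Submodule.smul_induction_on hz (fun s hs t ht => ?_) (fun s t hs ht => ?_)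
      · rw [mul_comm w, smul_mul_assoc]
        exact ⟨Submodule.smul_mem_smul hs (Submodule.mul_mem_mul ht hw),
          Submodule.smul_mem_smul hs (Submodule.mul_mem_mul ht hw)⟩
      · rw [add_mul, mul_add]
        exact ⟨add_mem hs.1 ht.1, add_mem hs.2 ht.2⟩
    obtain ⟨p, hp⟩ := happ' b
    obtain ⟨p', hp'⟩ := happ' c
    obtain ⟨P, Q, hPQ⟩ := exists_der_coeff (K := K) x y p
    obtain ⟨P', Q', hPQ'⟩ := exists_der_coeff (K := K) x y p'
    let e₁ := d₁ (b - MvPolynomial.aeval ![x, y] p)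
    let e₂ := d₂ (b - MvPolynomial.aeval ![x, y] p)
    let e₁' := d₁ (c - MvPolynomial.aeval ![x, y] p')
    let e₂' := d₂ (c - MvPolynomial.aeval ![x, y] p')
    have m₁ := der_mem_pow d₁ N hd₁ _ n _ hp
    have m₂ := der_mem_pow d₂ N hd₂ _ n _ hp
    have m₁' := der_mem_pow d₁ N hd₁ _ n _ hp'
    have m₂' := der_mem_pow d₂ N hd₂ _ n _ hp'
    let v := algebraMap B K
    have hb₁ : d₁ b = v P * d₁ x + v Q * d₁ y + e₁ := by
      simp only [e₁, v, map_sub, hPQ, ← Algebra.smul_def]; abel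
    have hb₂ : d₂ b = v P * d₂ x + v Q * d₂ y + e₂ := by
      simp only [e₂, v, map_sub, hPQ, ← Algebra.smul_def]; abel
    have hc₁ : d₁ c = v P' * d₁ x + v Q' * d₁ y + e₁' := by
      simp only [e₁', v, map_sub, hPQ', ← Algebra.smul_def]; abel
    have hc₂ : d₂ c = v P' * d₂ x + v Q' * d₂ y + e₂' := by
      simp only [e₂', v, map_sub, hPQ', ← Algebra.smul_def]; abel
    let f₁ := d₁ (x * y - algebraMap Λ B u)
    let f₂ := d₂ (x * y - algebraMap Λ B u)
    have n₁ := der_mem_pow d₁ N hd₁ _ n _ hxy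
    have n₂ := der_mem_pow d₂ N hd₂ _ n _ hxy
    have hf₁ : f₁ = v x * d₁ y + v y * d₁ x := by
      simp only [f₁, v, map_sub, Derivation.map_algebraMap, sub_zero, Derivation.leibniz, ← Algebra.smul_def]
    have hf₂ : f₂ = v x * d₂ y + v y * d₂ x := by
      simp only [f₂, v, map_sub, Derivation.map_algebraMap, sub_zero, Derivation.leibniz, ← Algebra.smul_def]
    let Δ := d₁ x * d₂ y - d₁ y * d₂ x
    have hΔ : algebraMap Λ K u * Δ =
        v x * (f₁ * d₂ y - f₂ * d₁ y) - (x * y - algebraMap Λ B u) • Δ := by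
      simp only [Algebra.smul_def, map_sub, map_mul, hf₁, hf₂, Δ, v, IsScalarTower.algebraMap_apply Λ B K]
      ring
    have hΔN : Δ ∈ NN :=
      sub_mem (Submodule.mul_mem_mul (hd₁ _) (hd₂ _)) (Submodule.mul_mem_mul (hd₁ _) (hd₂ _))
    have hΔG : algebraMap Λ K u * Δ ∈ G := by
      rw [hΔ]
      refine sub_mem ?_ (Submodule.smul_mem_smul (Ideal.pow_le_pow_right (Nat.le_succ n) hxy) hΔN)
      rw [← Algebra.smul_def]
      exact Submodule.smul_mem _ _ (sub_mem (hl _ n₁ _ (hd₂ y)).1 (hl _ n₂ _ (hd₁ y)).1)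
    have hcomb : algebraMap Λ K u * (d₁ b * d₂ c - d₁ c * d₂ b) = (P * Q' - Q * P') • (algebraMap Λ K u * Δ) +
        algebraMap Λ B u • ((P • (d₁ x * e₂') + Q • (d₁ y * e₂') + e₁ * d₂ c) -
          (P' • (d₁ x * e₂) + Q' • (d₁ y * e₂) + e₁' * d₂ b)) := by
      simp only [Algebra.smul_def, map_sub, map_mul, Δ, IsScalarTower.algebraMap_apply Λ B K]
      rw [hb₁, hb₂, hc₁, hc₂]
      ring
    rw [hcomb]
    refine add_mem (Submodule.smul_mem _ _ hΔG) (Submodule.smul_mem _ _ (sub_mem ?_ ?_))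
    · exact add_mem (add_mem (Submodule.smul_mem _ _ (hl _ m₂' _ (hd₁ x)).2)
        (Submodule.smul_mem _ _ (hl _ m₂' _ (hd₁ y)).2)) (hl _ m₁ _ (hd₂ c)).1
    · exact add_mem (add_mem (Submodule.smul_mem _ _ (hl _ m₂ _ (hd₁ x)).2)
        (Submodule.smul_mem _ _ (hl _ m₂ _ (hd₁ y)).2)) (hl _ m₁' _ (hd₂ b)).1
  let z := algebraMap Λ K u * (d₁ b * d₂ c - d₁ c * d₂ b)
  have hz : z ∈ NN := by
    have h := key 0
    rwa [pow_zero, Ideal.one_eq_top, Submodule.top_smul] at h
  have h0 : (⟨z, hz⟩ : NN) = 0 := by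
    rw [← Submodule.mem_bot B, ← Ideal.iInf_pow_smul_eq_bot_of_isLocalRing (M := NN) (maximalIdeal B)
      (maximalIdeal.isMaximal B).ne_top, Submodule.mem_iInf]
    exact fun n => (Submodule.mem_smul_top_iff _ NN _).2 (key n)
  exact (mul_eq_zero.1 (congrArg Subtype.val h0)).resolve_left hu

/-- Coordinates to every order from an isomorphism of the completion with a deformed node. -/
theorem exists_approx_coords {Λ P : Type u} [CommRing Λ] [IsLocalRing Λ] [CommRing P] [IsLocalRing P]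
    [IsNoetherianRing P] [Algebra Λ P] (u : Λ)
    (E : AdicCompletion (maximalIdeal P) P ≃+*
      (MvPowerSeries (Fin 2) Λ ⧸ Ideal.span {(MvPowerSeries.X 0 * MvPowerSeries.X 1 - MvPowerSeries.C u :
        MvPowerSeries (Fin 2) Λ)}))
    (hE : ∀ c, E (algebraMap P _ (algebraMap Λ P c)) = Ideal.Quotient.mk _ (MvPowerSeries.C c)) (n : ℕ) :
    ∃ x y : P, x * y - algebraMap Λ P u ∈ maximalIdeal P ^ n ∧
      ∀ b, ∃ p : MvPolynomial (Fin 2) Λ, b - MvPolynomial.aeval ![x, y] p ∈ maximalIdeal P ^ n := by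
  let J : Ideal (MvPowerSeries (Fin 2) Λ) :=
    Ideal.span {(MvPowerSeries.X 0 * MvPowerSeries.X 1 - MvPowerSeries.C u : MvPowerSeries (Fin 2) Λ)}
  let B := AdicCompletion (maximalIdeal P) P
  let G : MvPowerSeries (Fin 2) Λ →+* B := E.symm.toRingHom.comp (Ideal.Quotient.mk J)
  have hG : Function.Surjective G := E.symm.surjective.comp Ideal.Quotient.mk_surjective
  haveI : IsLocalHom G := hG.isLocalHom
  have hGX : ∀ i, G (MvPowerSeries.X i) ∈ maximalIdeal B := fun i => map_nonunit G _ (by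
    rw [Cohen12.mem_maximalIdeal_powerSeries, MvPowerSeries.constantCoeff_X]
    exact zero_mem _)
  have hGC : ∀ c, G (MvPowerSeries.C c) = algebraMap P B (algebraMap Λ P c) := fun c => by
    show E.symm _ = _
    rw [RingEquiv.symm_apply_eq, hE]
  choose w hw using fun i => Cohen12.exists_sub_mem_pow P n (G (MvPowerSeries.X i))
  let I := maximalIdeal B ^ n
  have hev : ((Ideal.Quotient.mk I).comp G).comp MvPolynomial.coeToMvPowerSeries.ringHom =
      ((Ideal.Quotient.mk I).comp (algebraMap P B)).comp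
        (MvPolynomial.aeval ![w 0, w 1] : MvPolynomial (Fin 2) Λ →ₐ[Λ] P).toRingHom := by
    refine MvPolynomial.ringHom_ext (fun c => ?_) fun i => ?_
    · simp [hGC]
    · have h := Ideal.Quotient.eq.2 (hw i)
      fin_cases i <;> simpa using h
  refine ⟨w 0, w 1, ?_, fun b => ?_⟩
  · rw [← Cohen12.algebraMap_mem_pow_iff, ← Ideal.Quotient.eq_zero_iff_mem]
    have h := RingHom.congr_fun hev (MvPolynomial.X 0 * MvPolynomial.X 1 - MvPolynomial.C u)
    have h0 : G (MvPowerSeries.X 0 * MvPowerSeries.X 1 - MvPowerSeries.C u) = 0 := by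
      show E.symm _ = _
      rw [Ideal.Quotient.eq_zero_iff_mem.2 (Ideal.mem_span_singleton_self _), map_zero]
    have h1 : (MvPolynomial.coeToMvPowerSeries.ringHom : MvPolynomial (Fin 2) Λ →+* MvPowerSeries (Fin 2) Λ)
        (MvPolynomial.X 0 * MvPolynomial.X 1 - MvPolynomial.C u) =
        MvPowerSeries.X 0 * MvPowerSeries.X 1 - MvPowerSeries.C u := by
      rw [map_sub, map_mul]; simp
    simp only [RingHom.comp_apply] at h
    rw [h1, h0, map_zero] at h
    simpa using h.symm
  · obtain ⟨F, hF⟩ := hG (algebraMap P B b)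
    obtain ⟨p, hp⟩ := FSPow12.exists_approx n F
    rw [FSPow12.ker_constantCoeff] at hp
    refine ⟨p, ?_⟩
    rw [← Cohen12.algebraMap_mem_pow_iff, map_sub, ← Ideal.Quotient.eq]
    have h1 : G F - G (p : MvPowerSeries (Fin 2) Λ) ∈ I := by
      rw [← map_sub]
      have h2 := Ideal.mem_map_of_mem G hp
      rw [Ideal.map_pow] at h2
      refine Ideal.pow_right_mono ?_ n h2
      rw [Ideal.map_span, Ideal.span_le]
      rintro _ ⟨_, ⟨i, rfl⟩, rfl⟩
      exact hGX i
    rw [← hF, Ideal.Quotient.eq.2 h1]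
    exact RingHom.congr_fun hev p

/-- Reduction of a completion isomorphic to a deformed node. -/
theorem exists_node_reduction {Λ P D : Type u} [CommRing Λ] [IsLocalRing Λ] [IsNoetherianRing Λ] [CommRing P]
    [IsLocalRing P] [IsNoetherianRing P] [CommRing D] (j : Λ →+* P) (u : Λ)
    (E : AdicCompletion (maximalIdeal P) P ≃+*
      (MvPowerSeries (Fin 2) Λ ⧸ Ideal.span {(MvPowerSeries.X 0 * MvPowerSeries.X 1 - MvPowerSeries.C u :
        MvPowerSeries (Fin 2) Λ)}))
    (hE : ∀ c, E (algebraMap P _ (j c)) = Ideal.Quotient.mk _ (MvPowerSeries.C c))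
    (ρ : Λ →+* D) (hρ : Function.Surjective ρ) :
    ∃ θ : AdicCompletion (maximalIdeal P) P →+*
        (MvPowerSeries (Fin 2) D ⧸ Ideal.span {(MvPowerSeries.X 0 * MvPowerSeries.X 1 - MvPowerSeries.C (ρ u) :
          MvPowerSeries (Fin 2) D)}),
      Function.Surjective θ ∧ (∀ c, θ (algebraMap P _ (j c)) = Ideal.Quotient.mk _ (MvPowerSeries.C (ρ c))) ∧
      RingHom.ker θ = ((RingHom.ker ρ).map j).map (algebraMap P _) := by
  obtain ⟨m, g, hg⟩ : ∃ (m : ℕ) (g : Fin m → Λ), Ideal.span (Set.range g) = RingHom.ker ρ :=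
    Submodule.fg_iff_exists_fin_generating_family.1 (IsNoetherian.noetherian _)
  let J : Ideal (MvPowerSeries (Fin 2) Λ) :=
    Ideal.span {(MvPowerSeries.X 0 * MvPowerSeries.X 1 - MvPowerSeries.C u : MvPowerSeries (Fin 2) Λ)}
  let J' : Ideal (MvPowerSeries (Fin 2) D) :=
    Ideal.span {(MvPowerSeries.X 0 * MvPowerSeries.X 1 - MvPowerSeries.C (ρ u) : MvPowerSeries (Fin 2) D)}
  have hgen : MvPowerSeries.map ρ (MvPowerSeries.X 0 * MvPowerSeries.X 1 - MvPowerSeries.C u :
      MvPowerSeries (Fin 2) Λ) = MvPowerSeries.X 0 * MvPowerSeries.X 1 - MvPowerSeries.C (ρ u) := by simp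
  have hJ : J.map (MvPowerSeries.map ρ) = J' := by rw [Ideal.map_span, Set.image_singleton, hgen]
  let π := Ideal.quotientMap J' (MvPowerSeries.map ρ) (Ideal.map_le_iff_le_comap.1 hJ.le)
  have hsurj : Function.Surjective (MvPowerSeries.map (σ := Fin 2) ρ) := fun s =>
    ⟨fun d => Function.surjInv hρ (s d), MvPowerSeries.ext fun d => by
      rw [MvPowerSeries.coeff_map]; exact Function.surjInv_eq hρ _⟩
  have hker : RingHom.ker π = (RingHom.ker ρ).map ((Ideal.Quotient.mk J).comp MvPowerSeries.C) := by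
    refine le_antisymm (fun z hz => ?_) (Ideal.map_le_iff_le_comap.2 fun c hc => ?_)
    · obtain ⟨F, rfl⟩ := Ideal.Quotient.mk_surjective z
      rw [RingHom.mem_ker, Ideal.quotientMap_mk, Ideal.Quotient.eq_zero_iff_mem] at hz
      obtain ⟨t, ht⟩ := Ideal.mem_span_singleton'.1 hz
      obtain ⟨H, rfl⟩ := hsurj t
      obtain ⟨Hs, hHs⟩ := exists_series_comb g
        (F - H * (MvPowerSeries.X 0 * MvPowerSeries.X 1 - MvPowerSeries.C u)) fun d => by
          rw [hg, RingHom.mem_ker, ← MvPowerSeries.coeff_map, map_sub, map_mul, hgen, ht, sub_self, map_zero]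
      have h1 : Ideal.Quotient.mk J F = ∑ i, Ideal.Quotient.mk J (MvPowerSeries.C (g i)) * Ideal.Quotient.mk J (Hs i) := by
        simp only [← map_mul, ← map_sum, ← hHs]
        rw [Ideal.Quotient.eq]
        simp only [sub_sub_cancel]
        exact Ideal.mem_span_singleton'.2 ⟨H, rfl⟩
      rw [h1]
      exact Ideal.sum_mem _ fun i _ => Ideal.mul_mem_right _ _
        (Ideal.mem_map_of_mem ((Ideal.Quotient.mk J).comp MvPowerSeries.C) (hg ▸ Ideal.subset_span ⟨i, rfl⟩))
    · rw [Ideal.mem_comap, RingHom.mem_ker, RingHom.comp_apply, Ideal.quotientMap_mk, MvPowerSeries.map_C,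
        RingHom.mem_ker.1 hc, map_zero, map_zero]
  refine ⟨π.comp E.toRingHom,
    (Ideal.quotientMap_surjective (H := Ideal.map_le_iff_le_comap.1 hJ.le) hsurj).comp E.surjective, fun c => ?_, ?_⟩
  · show π (E _) = _
    rw [hE, Ideal.quotientMap_mk, MvPowerSeries.map_C]
  · rw [← RingHom.comap_ker, hker, Ideal.map_map,
      show (Ideal.Quotient.mk J).comp MvPowerSeries.C = E.toRingHom.comp ((algebraMap P _).comp j) from
        RingHom.ext fun c => (hE c).symm, ← Ideal.map_map _ E.toRingHom]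
    exact Ideal.comap_map_of_bijective E.toRingHom E.bijective

/-- Infinitesimal deformations of a point of an etale algebra over the standard family. -/
theorem exists_node_tangent {R U K : Type u} [CommRing R] [CommRing U] [Field K] [Algebra U K] (r : R)
    (e : NodeRing r →+* U) (he : e.Etale) (h0 : ∀ i, algebraMap U K (e (nodeVar r i)) = 0) (a : Fin 2 → K) :
    ∃ φ : U →+* TrivSqZeroExt K K, (∀ z, (φ z).fst = algebraMap U K z) ∧
      (∀ i, (φ (e (nodeVar r i))).snd = a i) ∧ ∀ t, (φ (e (algebraMap R (NodeRing r) t))).snd = 0 := by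
  let T := TrivSqZeroExt K K
  let ι : R →+* T := (TrivSqZeroExt.inlHom K K).comp
    ((algebraMap U K).comp (e.comp (algebraMap R (NodeRing r))))
  let _ : Algebra R T := ι.toAlgebra
  have hr : (TrivSqZeroExt.inr (a 0) : T) * TrivSqZeroExt.inr (a 1) = algebraMap R T r := by
    rw [TrivSqZeroExt.inr_mul_inr]
    show _ = TrivSqZeroExt.inl (algebraMap U K (e (algebraMap R (NodeRing r) r)))
    rw [← nodeVar_mul, map_mul, map_mul, h0, zero_mul, TrivSqZeroExt.inl_zero]
  let φ₀ : NodeRing r →+* T := (nodeLift r ![TrivSqZeroExt.inr (a 0), TrivSqZeroExt.inr (a 1)] hr).toRingHom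
  have hφ₀R : ∀ t, φ₀ (algebraMap R (NodeRing r) t) = ι t := fun t => AlgHom.commutes _ t
  have hφ₀X : ∀ i, φ₀ (nodeVar r i) = TrivSqZeroExt.inr (a i) := fun i => by
    refine (nodeLift_var r _ hr i).trans ?_
    fin_cases i <;> rfl
  let π : T →+* K := (TrivSqZeroExt.fstHom K K K).toRingHom
  let _ : Algebra (NodeRing r) U := e.toAlgebra
  let _ : Algebra (NodeRing r) T := φ₀.toAlgebra
  haveI : Algebra.Etale (NodeRing r) U := he
  have hcomp : π.comp φ₀ = (algebraMap U K).comp e := by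
    refine Ideal.Quotient.ringHom_ext (MvPolynomial.ringHom_ext (fun t => ?_) fun i => ?_)
    · show π (φ₀ (algebraMap R (NodeRing r) t)) = _
      rw [hφ₀R]
      rfl
    · show π (φ₀ (nodeVar r i)) = algebraMap U K (e (nodeVar r i))
      rw [hφ₀X, h0]
      rfl
  let _ : Algebra (NodeRing r) K := ((algebraMap U K).comp e).toAlgebra
  let πA : T →ₐ[NodeRing r] K := { π with commutes' := RingHom.congr_fun hcomp }
  let gA : U →ₐ[NodeRing r] K := { algebraMap U K with commutes' := fun _ => rfl }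
  have hnil : IsNilpotent (RingHom.ker (πA : T →+* K)) := by
    refine ⟨2, le_bot_iff.1 ?_⟩
    refine (sq (RingHom.ker (πA : T →+* K))).le.trans (Ideal.mul_le.2 fun s hs t ht => ?_)
    have hs' : TrivSqZeroExt.fst s = 0 := hs
    have ht' : TrivSqZeroExt.fst t = 0 := ht
    show s * t = 0
    exact TrivSqZeroExt.ext ((TrivSqZeroExt.fst_mul s t).trans (by rw [hs', zero_mul, TrivSqZeroExt.fst_zero]))
      ((TrivSqZeroExt.snd_mul s t).trans (by rw [hs', ht', zero_smul, MulOpposite.op_zero, zero_smul, add_zero, TrivSqZeroExt.snd_zero]))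
  let φ := Algebra.FormallySmooth.liftOfSurjective gA πA (fun z => ⟨TrivSqZeroExt.inl z, rfl⟩) hnil
  have hφ : πA.comp φ = gA := Algebra.FormallySmooth.comp_liftOfSurjective _ _ _ _
  refine ⟨φ.toRingHom, fun z => DFunLike.congr_fun hφ z, fun i => ?_, fun t => ?_⟩
  · show (φ (algebraMap (NodeRing r) U (nodeVar r i))).snd = _
    rw [φ.commutes]
    show (φ₀ (nodeVar r i)).snd = _
    rw [hφ₀X, TrivSqZeroExt.snd_inr]
  · show (φ (algebraMap (NodeRing r) U (algebraMap R (NodeRing r) t))).snd = _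
    rw [φ.commutes]
    show (φ₀ (algebraMap R (NodeRing r) t)).snd = _
    rw [hφ₀R]
    rfl

end Groth.Agent.Node12.Loc
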