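import Groth.Agent.Node12.Loc.Hyper
import Mathlib.RingTheory.TensorProduct.MvPolynomial
import Mathlib.RingTheory.IsTensorProduct

/-!
# The critical section of a hypersurface in an etale extension of the affine plane
-/

set_option autoImplicit false
set_option linter.style.haveILetI false
set_option maxHeartbeats 1600000
set_option synthInstance.maxHeartbeats 100000
set_option backward.isDefEq.respectTransparency.types false

universe u

open TensorProduct

noncomputable section

namespace Groth.Agent.Node12.Loc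

attribute [local instance] MvPolynomial.algebraMvPolynomial

/-- Partial derivatives are compatible with maps preserving the coordinates. -/
theorem pd_map {R R' P P' : Type u} [CommRing R] [CommRing R'] [CommRing P] [CommRing P'] {σ : Type}
    [DecidableEq σ] [Algebra R R'] [Algebra R P] [Algebra R P'] [Algebra R' P'] [Algebra P P']
    [IsScalarTower R R' P'] [IsScalarTower R P P']
    [Algebra (MvPolynomial σ R) P] [IsScalarTower R (MvPolynomial σ R) P]
    [Algebra.FormallyEtale (MvPolynomial σ R) P]
    [Algebra (MvPolynomial σ R') P'] [IsScalarTower R' (MvPolynomial σ R') P']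
    [Algebra.FormallyEtale (MvPolynomial σ R') P']
    (hX : ∀ j, algebraMap P P' (algebraMap (MvPolynomial σ R) P (MvPolynomial.X j)) =
      algebraMap (MvPolynomial σ R') P' (MvPolynomial.X j)) (i : σ) (x : P) :
    algebraMap P P' (pd R P i x) = pd R' P' i (algebraMap P P' x) := by
  let d : Derivation R P P' := ((pd R' P' i).restrictScalars R).compAlgebraMap P
  let d' : Derivation R P P' := (Algebra.linearMap P P').compDer (pd R P i)
  have hdd : d' = d := derivation_ext (R := R) (σ := σ) d' d fun j => by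
    show algebraMap P P' (pd R P i _) = pd R' P' i (algebraMap P P' _)
    rw [hX, pd_X, pd_X]
    split_ifs <;> simp
  exact DFunLike.congr_fun hdd x

/-- The zero locus of etale coordinates is etale over the base. -/
theorem etale_zero_quot {R T : Type u} [CommRing R] [CommRing T] [Algebra R T] (w : Fin 2 → T)
    (h : (MvPolynomial.aeval w : MvPolynomial (Fin 2) R →ₐ[R] T).toRingHom.Etale) :
    Algebra.Etale R (T ⧸ Ideal.span (Set.range w)) := by
  let B := MvPolynomial (Fin 2) R
  algebraize [(MvPolynomial.aeval w : B →ₐ[R] T).toRingHom]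
  let J : Ideal B := Ideal.span (Set.range MvPolynomial.X)
  have hJ : J.map (algebraMap B T) = Ideal.span (Set.range w) := by
    rw [Ideal.map_span, ← Set.range_comp]
    congr 1
    exact congrArg Set.range (funext fun j => MvPolynomial.aeval_X w j)
  have het' : Algebra.Etale (B ⧸ J) (T ⧸ J.map (algebraMap B T)) := etale_quotient J
  have hbij : Function.Bijective (algebraMap R (B ⧸ J)) := by
    refine ⟨fun a b hab => ?_, fun z => ?_⟩
    · have h1 : MvPolynomial.C a - MvPolynomial.C b ∈ J := Ideal.Quotient.eq.1 hab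
      have h2 : J ≤ RingHom.ker (MvPolynomial.constantCoeff : B →+* R) := by
        rw [Ideal.span_le]
        rintro _ ⟨j, rfl⟩
        exact MvPolynomial.constantCoeff_X (R := R) j
      have h3 := h2 h1
      rw [RingHom.mem_ker, map_sub, MvPolynomial.constantCoeff_C, MvPolynomial.constantCoeff_C, sub_eq_zero] at h3
      exact h3
    · obtain ⟨z, rfl⟩ := Ideal.Quotient.mk_surjective z
      exact ⟨MvPolynomial.constantCoeff z, (Ideal.Quotient.eq.2 (sub_constantCoeff_mem z)).symm⟩
  rw [← hJ]
  refine RingHom.etale_algebraMap.1 ?_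
  convert RingHom.Etale.stableUnderComposition _ _ (RingHom.Etale.of_bijective hbij)
    (RingHom.etale_algebraMap.2 het') using 1
  ext t
  show Ideal.Quotient.mk _ (algebraMap R T t) = Ideal.Quotient.mk _ (MvPolynomial.aeval w (algebraMap R B t))
  rw [AlgHom.commutes]

/-- The zero locus of functions with invertible Jacobian is etale over the base. -/
theorem exists_etale_zero {R P : Type u} [CommRing R] [CommRing P] [Algebra R P]
    [Algebra (MvPolynomial (Fin 2) R) P] [IsScalarTower R (MvPolynomial (Fin 2) R) P]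
    [Algebra.Etale (MvPolynomial (Fin 2) R) P] (Q : Ideal P) [Q.IsPrime] (g : Fin 2 → P)
    (hdet : (Matrix.of fun i j : Fin 2 => pd R P i (g j)).det ∉ Q) (hg : ∀ i, g i ∈ Q) :
    ∃ (R' : Type u) (_ : CommRing R') (_ : Algebra R R') (_ : Algebra.Etale R R') (π : P →ₐ[R] R')
      (qR : Ideal R'), qR.IsPrime ∧ qR.comap π.toRingHom = Q ∧ ∀ i, π (g i) = 0 := by
  let e : Fin 2 ≃ Fin 2 := Equiv.refl _
  obtain ⟨f, hf, het⟩ := exists_etale_of_det (R := R) e Q g hdet
  let Pf := Localization.Away f
  let w : Fin 2 → Pf := fun j => algebraMap P Pf (g j)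
  let J : Ideal Pf := Ideal.span (Set.range w)
  have het' : Algebra.Etale R (Pf ⧸ J) := etale_zero_quot w het
  let R' := Pf ⧸ J
  let π : P →ₐ[R] R' := (Ideal.Quotient.mkₐ R _).comp (IsScalarTower.toAlgHom R P Pf)
  have hJmap : J = (Ideal.span (Set.range g)).map (algebraMap P Pf) := by
    rw [Ideal.map_span, ← Set.range_comp]
    rfl
  have hdisj : Disjoint (Submonoid.powers f : Set P) Q := by
    rw [Set.disjoint_left]
    rintro _ ⟨m, rfl⟩ hm
    exact hf ((inferInstance : Q.IsPrime).mem_of_pow_mem m hm)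
  have hQf : (Q.map (algebraMap P Pf)).IsPrime :=
    IsLocalization.isPrime_of_isPrime_disjoint (Submonoid.powers f) Pf Q inferInstance hdisj
  have hle : J ≤ Q.map (algebraMap P Pf) :=
    hJmap.le.trans (Ideal.map_mono (Ideal.span_le.2 (Set.range_subset_iff.2 hg)))
  let qR : Ideal R' := (Q.map (algebraMap P Pf)).map (Ideal.Quotient.mk _)
  have hkerle : RingHom.ker (Ideal.Quotient.mk (J)) ≤ Q.map (algebraMap P Pf) := by
    rw [Ideal.mk_ker]; exact hle
  have hqR : qR.IsPrime := Ideal.map_isPrime_of_surjective Ideal.Quotient.mk_surjective hkerle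
  refine ⟨R', inferInstance, inferInstance, het', π, qR, hqR, ?_, fun i => ?_⟩
  · ext t
    show Ideal.Quotient.mk _ (algebraMap P Pf t) ∈ qR ↔ t ∈ Q
    rw [Ideal.mem_quotient_iff_mem_sup, sup_eq_left.2 hle]
    exact SetLike.ext_iff.1 (IsLocalization.under_map_of_isPrime_disjoint (Submonoid.powers f) Pf inferInstance hdisj) t
  · refine Ideal.Quotient.eq_zero_iff_mem.2 ?_
    rw [hJmap]
    exact Ideal.mem_map_of_mem _ (Ideal.subset_span ⟨i, rfl⟩)

/-- The kernel of a section of an algebra unramified over affine space is locally generated by the translated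
coordinates. -/
theorem exists_mul_mem_of_section {R P : Type u} [CommRing R] [CommRing P] [Algebra R P] {τ : Type}
    [Algebra (MvPolynomial τ R) P] [IsScalarTower R (MvPolynomial τ R) P]
    [Algebra.FormallyUnramified (MvPolynomial τ R) P] [Algebra.FinitePresentation R P]
    (σ : P →ₐ[R] R) (Q : Ideal P) [Q.IsPrime] (hQ : RingHom.ker σ.toRingHom ≤ Q) :
    ∃ h ∉ Q, ∀ k ∈ RingHom.ker σ.toRingHom, h * k ∈ Ideal.span (Set.range fun i =>
      algebraMap (MvPolynomial τ R) P (MvPolynomial.X i) -
        algebraMap R P (σ (algebraMap (MvPolynomial τ R) P (MvPolynomial.X i)))) := by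
  let B := MvPolynomial τ R
  let K : Ideal P := RingHom.ker σ.toRingHom
  let x : τ → P := fun i => algebraMap B P (MvPolynomial.X i) - algebraMap R P (σ (algebraMap B P (MvPolynomial.X i)))
  let K0 : Ideal P := Ideal.span (Set.range x)
  have hK0 : K0 ≤ K := by
    rw [Ideal.span_le]
    rintro _ ⟨i, rfl⟩
    show σ _ = 0
    rw [map_sub, σ.commutes]
    exact sub_self _
  -- the two lifts to the quotient by the square of the kernel
  let N : Ideal P := K0 ⊔ K ^ 2
  let m₁ : P →ₐ[B] P ⧸ N := Ideal.Quotient.mkₐ B N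
  have hB : ∀ b : B, Ideal.Quotient.mk N (algebraMap R P (σ (algebraMap B P b))) =
      Ideal.Quotient.mk N (algebraMap B P b) := by
    intro b
    have h2 : ((Ideal.Quotient.mkₐ R N).comp ((Algebra.ofId R P).comp (σ.comp (IsScalarTower.toAlgHom R B P)))) =
        (Ideal.Quotient.mkₐ R N).comp (IsScalarTower.toAlgHom R B P) := by
      refine MvPolynomial.algHom_ext fun i => ?_
      refine (Ideal.Quotient.eq.2 ?_).symm
      exact Ideal.mem_sup_left (Ideal.subset_span ⟨i, rfl⟩)
    exact DFunLike.congr_fun h2 b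
  let m₂ : P →ₐ[B] P ⧸ N :=
    { (Ideal.Quotient.mk N).comp ((algebraMap R P).comp σ.toRingHom) with
      commutes' := fun b => hB b }
  let I : Ideal (P ⧸ N) := K.map (Ideal.Quotient.mk N)
  have hI : I ^ 2 = ⊥ := by
    rw [← Ideal.map_pow, Ideal.map_eq_bot_iff_le_ker, Ideal.mk_ker]
    exact le_sup_right
  have hm : m₁ = m₂ := Algebra.FormallyUnramified.ext (I := I) ⟨2, hI⟩ fun t => by
    refine Ideal.Quotient.eq.2 ?_
    show Ideal.Quotient.mk N t - Ideal.Quotient.mk N (algebraMap R P (σ t)) ∈ I
    rw [← map_sub]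
    refine Ideal.mem_map_of_mem _ ?_
    show σ _ = 0
    rw [map_sub, σ.commutes]
    exact sub_self _
  have hKN : K ≤ N := fun k hk => by
    have h1 := DFunLike.congr_fun hm k
    have h2 : Ideal.Quotient.mk N k = Ideal.Quotient.mk N (algebraMap R P (σ k)) := h1
    rw [show σ k = 0 from hk, map_zero, map_zero] at h2
    exact Ideal.Quotient.eq_zero_iff_mem.1 h2
  have hfg : K.FG := Algebra.FinitePresentation.ker_fG_of_surjective σ fun r => ⟨algebraMap R P r, σ.commutes r⟩
  let Kb : Ideal (P ⧸ K0) := K.map (Ideal.Quotient.mk K0)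
  have hle : Kb ≤ Kb • Kb := by
    rw [smul_eq_mul, ← pow_two, ← Ideal.map_pow]
    refine (Ideal.map_mono hKN).trans ?_
    rw [Ideal.map_sup, Ideal.map_quotient_self, bot_sup_eq]
  obtain ⟨r, hr, hr0⟩ := Submodule.exists_sub_one_mem_and_smul_eq_zero_of_fg_of_le_smul Kb Kb (Ideal.FG.map hfg _) hle
  obtain ⟨r, rfl⟩ := Ideal.Quotient.mk_surjective r
  refine ⟨r, fun hrQ => ?_, fun k hk => ?_⟩
  · rw [← map_one (Ideal.Quotient.mk K0), ← map_sub, Ideal.mem_quotient_iff_mem hK0] at hr
    exact (inferInstance : Q.IsPrime).ne_top ((Ideal.eq_top_iff_one _).2 (by simpa using sub_mem hrQ (hQ hr)))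
  · have h1 := hr0 _ (Ideal.mem_map_of_mem (Ideal.Quotient.mk K0) hk)
    rw [smul_eq_mul, ← map_mul, Ideal.Quotient.eq_zero_iff_mem] at h1
    exact h1

/-- Ring homomorphisms out of a tensor product. -/
theorem exists_tensor_lift {B B' P A : Type u} [CommRing B] [CommRing B'] [CommRing P] [CommRing A]
    [Algebra B B'] [Algebra B P] (f : B' →+* A) (g : P →+* A)
    (h : ∀ b, f (algebraMap B B' b) = g (algebraMap B P b)) :
    ∃ φ : B' ⊗[B] P →+* A, (∀ x, φ (x ⊗ₜ[B] 1) = f x) ∧ ∀ y, φ (1 ⊗ₜ[B] y) = g y := by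
  letI : Algebra B A := (g.comp (algebraMap B P)).toAlgebra
  let fB : B' →ₐ[B] A := { f with commutes' := h }
  let gB : P →ₐ[B] A := { g with commutes' := fun b => rfl }
  refine ⟨(Algebra.TensorProduct.lift fB gB fun _ _ => mul_comm _ _).toRingHom, fun x => ?_, fun y => ?_⟩
  · show Algebra.TensorProduct.lift fB gB _ (x ⊗ₜ[B] 1) = f x
    rw [Algebra.TensorProduct.lift_tmul, map_one, mul_one]
    rfl
  · show Algebra.TensorProduct.lift fB gB _ (1 ⊗ₜ[B] y) = g y
    rw [Algebra.TensorProduct.lift_tmul, map_one, one_mul]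
    rfl

/-- Base change of the chart along the critical locus, with its tautological section. -/
theorem exists_section {R P : Type u} [CommRing R] [CommRing P] [Algebra R P]
    [Algebra (MvPolynomial (Fin 2) R) P] [IsScalarTower R (MvPolynomial (Fin 2) R) P]
    [Algebra.Etale (MvPolynomial (Fin 2) R) P] (F : P) (Q : Ideal P) [Q.IsPrime]
    (hDF : ∀ i : Fin 2, pd R P i F ∈ Q) (hH : hess R P F ∉ Q) :
    ∃ (R' : Type u) (_ : CommRing R') (_ : Algebra R R') (_ : Algebra.Etale R R') (P' : Type u)
      (_ : CommRing P') (_ : Algebra R' P') (_ : Algebra (MvPolynomial (Fin 2) R') P')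
      (_ : IsScalarTower R' (MvPolynomial (Fin 2) R') P') (_ : Algebra.Etale (MvPolynomial (Fin 2) R') P')
      (ι : P →+* P') (σ : P' →ₐ[R'] R') (Q' : Ideal P'),
      ι.Etale ∧ (∀ t, ι (algebraMap R P t) = algebraMap R' P' (algebraMap R R' t)) ∧ Q'.IsPrime ∧
      Q'.comap ι = Q ∧ RingHom.ker σ.toRingHom ≤ Q' ∧ (∀ i : Fin 2, σ (pd R' P' i (ι F)) = 0) ∧
      hess R' P' (ι F) ∉ Q' := by
  obtain ⟨R', _, _, _, π, qR, hqR, hπQ, hπ0⟩ :=
    exists_etale_zero Q (fun j => pd R P j F) hH hDF
  let B := MvPolynomial (Fin 2) R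
  let B' := MvPolynomial (Fin 2) R'
  let ev : B' →+* R' :=
    (MvPolynomial.aeval fun j => π (algebraMap B P (MvPolynomial.X j)) : B' →ₐ[R'] R').toRingHom
  have hev : ev.comp (algebraMap B B') = π.toRingHom.comp (algebraMap B P) := by
    refine MvPolynomial.ringHom_ext (fun t => ?_) fun j => ?_
    · show MvPolynomial.aeval _ (MvPolynomial.map (algebraMap R R') (MvPolynomial.C t)) =
        π (algebraMap B P (algebraMap R B t))
      rw [MvPolynomial.map_C, MvPolynomial.aeval_C, ← IsScalarTower.algebraMap_apply R B P, π.commutes]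
      rfl
    · show MvPolynomial.aeval _ (MvPolynomial.map (algebraMap R R') (MvPolynomial.X j)) =
        π (algebraMap B P (MvPolynomial.X j))
      rw [MvPolynomial.map_X, MvPolynomial.aeval_X]
  let P' := B' ⊗[B] P
  obtain ⟨σB, hσl, hσr⟩ := exists_tensor_lift ev π.toRingHom (RingHom.congr_fun hev)
  let ι : P →+* P' := (Algebra.TensorProduct.includeRight : P →ₐ[B] P').toRingHom
  let inl : B' →+* P' := (Algebra.TensorProduct.includeLeft : B' →ₐ[B] P').toRingHom
  have htower : IsScalarTower R' B' P' := inferInstance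
  have hinl : ∀ b, algebraMap B' P' b = inl b := fun b => rfl
  have hbal : ∀ b, ι (algebraMap B P b) = inl (algebraMap B B' b) := fun b => by
    show (1 : B') ⊗ₜ[B] algebraMap B P b = algebraMap B B' b ⊗ₜ[B] (1 : P)
    exact (Algebra.TensorProduct.tmul_one_eq_one_tmul b).symm
  have hcomm : ∀ t, ι (algebraMap R P t) = algebraMap R' P' (algebraMap R R' t) := fun t => by
    rw [IsScalarTower.algebraMap_apply R B P, hbal]
    show inl (MvPolynomial.map (algebraMap R R') (MvPolynomial.C t)) = inl (MvPolynomial.C _)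
    rw [MvPolynomial.map_C]
  have hσι : ∀ p, σB (ι p) = π p := hσr
  let σ : P' →ₐ[R'] R' :=
    { σB with
      commutes' := fun t => ((hσl (MvPolynomial.C t)).trans (MvPolynomial.aeval_C _ t) :
        σB (MvPolynomial.C t ⊗ₜ[B] (1 : P)) = algebraMap R' R' t) }
  have hι : ι.Etale := by
    have hB : Algebra.Etale B B' := Algebra.Etale.of_equiv (Algebra.IsPushout.equiv R B R' B')
    have h1 : Algebra.Etale P (P ⊗[B] B') := inferInstance
    have h2 := RingHom.Etale.stableUnderComposition _ _ (RingHom.etale_algebraMap.2 h1)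
      (RingHom.Etale.of_bijective (f := (Algebra.TensorProduct.comm B P B').toRingEquiv.toRingHom)
        (Algebra.TensorProduct.comm B P B').bijective)
    convert h2 using 1
    ext p
    rfl
  let Q' : Ideal P' := qR.comap σ.toRingHom
  haveI : Q'.IsPrime := Ideal.IsPrime.comap _
  have hQ' : Q'.comap ι = Q := by
    rw [← hπQ]
    ext p
    show σB (ι p) ∈ qR ↔ π p ∈ qR
    rw [hσι]
  algebraize [ι]
  haveI : IsScalarTower R R' P' := inferInstance
  haveI : IsScalarTower R P P' := IsScalarTower.of_algebraMap_eq fun t =>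
    (IsScalarTower.algebraMap_apply R R' P' t).trans (hcomm t).symm
  have hX : ∀ j, algebraMap P P' (algebraMap B P (MvPolynomial.X j)) = algebraMap B' P' (MvPolynomial.X j) :=
    fun j => by
      refine (hbal _).trans ?_
      show inl (MvPolynomial.map (algebraMap R R') (MvPolynomial.X j)) = _
      rw [MvPolynomial.map_X]
      rfl
  refine ⟨R', inferInstance, inferInstance, inferInstance, P', inferInstance, inferInstance, inferInstance,
    htower, inferInstance, ι, σ, Q', hι, hcomm, inferInstance, hQ', fun t ht => ?_, fun i => ?_, ?_⟩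
  · show σ t ∈ qR
    rw [show σ t = 0 from ht]
    exact zero_mem _
  · show σB (pd R' P' i (algebraMap P P' F)) = 0
    rw [← pd_map hX]
    exact (hσι _).trans (hπ0 i)
  · intro hmem
    apply hH
    rw [← hQ', Ideal.mem_comap]
    convert hmem using 1
    rw [hess, hess, RingHom.map_det]
    congr 1
    ext i j
    show algebraMap P P' (pd R P i (pd R P j F)) = pd R' P' i (pd R' P' j (algebraMap P P' F))
    rw [pd_map hX, pd_map hX]

end Groth.Agent.Node12.Loc
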