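import Groth.Agent.Node12.Loc.Section
import Mathlib.RingTheory.Etale.StandardEtale
import Mathlib.FieldTheory.IsAlgClosed.AlgebraicClosure

/-!
# Splitting the quadratic part along an etale extension
-/

set_option autoImplicit false
set_option linter.style.haveILetI false
set_option maxHeartbeats 1600000
set_option synthInstance.maxHeartbeats 100000
set_option backward.isDefEq.respectTransparency.types false

universe u

open TensorProduct

noncomputable section

namespace Groth.Agent.Node12.Loc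

/-- A monic quadratic polynomial with invertible discriminant gets a simple root after an etale extension. -/
theorem exists_root {P : Type u} [CommRing P] (b c : P) (Q : Ideal P) [Q.IsPrime] (h : b ^ 2 - 4 * c ∉ Q) :
    ∃ (P₂ : Type u) (_ : CommRing P₂) (_ : Algebra P P₂) (_ : Algebra.Etale P P₂) (Q₂ : Ideal P₂),
      Q₂.IsPrime ∧ Q₂.comap (algebraMap P P₂) = Q ∧ ∃ T : P₂,
        T ^ 2 + algebraMap P P₂ b * T + algebraMap P P₂ c = 0 ∧ algebraMap P P₂ b + 2 * T ∉ Q₂ := by
  let N := b ^ 2 - 4 * c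
  let P₁ := Localization.Away N
  let b₁ := algebraMap P P₁ b
  let c₁ := algebraMap P P₁ c
  have hN : IsUnit (b₁ ^ 2 - 4 * c₁) := by
    have := IsLocalization.Away.algebraMap_isUnit (S := P₁) N
    simpa [N, b₁, c₁, map_sub, map_mul, map_pow, map_ofNat] using this
  obtain ⟨ui, hui⟩ := hN.exists_left_inv
  let f : Polynomial P₁ := Polynomial.X ^ 2 + Polynomial.C b₁ * Polynomial.X + Polynomial.C c₁
  have hf : f.Monic := by
    simp only [f]
    monicity!
  let S : StandardEtalePair P₁ :=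
    { f := f
      monic_f := hf
      g := 1
      cond := ⟨Polynomial.C ui * (Polynomial.C 2 * Polynomial.X + Polynomial.C b₁), Polynomial.C (-(4 * ui)), 1, by
        simp only [f, Polynomial.derivative_add, Polynomial.derivative_X_pow, Polynomial.derivative_mul,
          Polynomial.derivative_C, Polynomial.derivative_X, Nat.cast_ofNat, Nat.add_one_sub_one, pow_one]
        have h2 := congrArg (Polynomial.C : P₁ →+* Polynomial P₁) hui
        simp only [map_mul, map_sub, map_pow, map_ofNat, map_one] at h2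
        simp only [map_neg, map_mul, map_ofNat, map_add, zero_mul, add_zero, mul_one, zero_add]
        linear_combination h2⟩ }
  have hdisj : Disjoint (Submonoid.powers N : Set P) Q := by
    rw [Set.disjoint_left]
    rintro _ ⟨m, rfl⟩ hm
    exact h ((inferInstance : Q.IsPrime).mem_of_pow_mem m hm)
  have hQ₁ : (Q.map (algebraMap P P₁)).IsPrime :=
    IsLocalization.isPrime_of_isPrime_disjoint (Submonoid.powers N) P₁ Q inferInstance hdisj
  let K := AlgebraicClosure (Q.map (algebraMap P P₁)).ResidueField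
  letI : Algebra P₁ K := ((algebraMap (Q.map (algebraMap P P₁)).ResidueField K).comp
    (algebraMap P₁ (Q.map (algebraMap P P₁)).ResidueField)).toAlgebra
  obtain ⟨r, hr⟩ : ∃ r : K, Polynomial.aeval r f = 0 := by
    obtain ⟨r, hr⟩ := IsAlgClosed.exists_root (f.map (algebraMap P₁ K)) (by
      have e : f.map (algebraMap P₁ K) = Polynomial.X ^ 2 + Polynomial.C (algebraMap P₁ K b₁) * Polynomial.X +
          Polynomial.C (algebraMap P₁ K c₁) := by simp [f]
      have h2 : (f.map (algebraMap P₁ K)).degree = 2 := by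
        rw [e]
        compute_degree!
      rw [h2]
      decide)
    exact ⟨r, by rwa [Polynomial.aeval_def, Polynomial.eval₂_eq_eval_map]⟩
  let toK : S.Ring →ₐ[P₁] K := S.lift r ⟨hr, by simp [S]⟩
  let Q₂ : Ideal S.Ring := RingHom.ker toK.toRingHom
  letI : Algebra P S.Ring := ((algebraMap P₁ S.Ring).comp (algebraMap P P₁)).toAlgebra
  haveI : IsScalarTower P P₁ S.Ring := IsScalarTower.of_algebraMap_eq fun t => rfl
  haveI : Algebra.Etale P P₁ := Algebra.Etale.of_isLocalizationAway N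
  haveI : Algebra.Etale P S.Ring := Algebra.Etale.comp P P₁ S.Ring
  refine ⟨S.Ring, inferInstance, inferInstance, inferInstance, Q₂, RingHom.ker_isPrime _, ?_, S.X, ?_, ?_⟩
  · ext t
    show toK (algebraMap P₁ S.Ring (algebraMap P P₁ t)) = 0 ↔ t ∈ Q
    rw [AlgHom.commutes]
    show algebraMap _ K (algebraMap P₁ (Q.map (algebraMap P P₁)).ResidueField (algebraMap P P₁ t)) = 0 ↔ t ∈ Q
    rw [map_eq_zero, Ideal.algebraMap_residueField_eq_zero]
    exact SetLike.ext_iff.1 (IsLocalization.under_map_of_isPrime_disjoint (Submonoid.powers N) P₁ inferInstance hdisj) t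
  · have hx := (StandardEtalePair.hasMap_X (P := S)).1
    show S.X ^ 2 + algebraMap P₁ S.Ring b₁ * S.X + algebraMap P₁ S.Ring c₁ = 0
    simpa [S, f, map_add, map_mul, map_pow] using hx
  · intro hmem
    have hu : IsUnit (Polynomial.aeval S.X S.f.derivative) := (StandardEtalePair.hasMap_X (P := S)).isUnit_derivative_f
    have he : Polynomial.aeval S.X S.f.derivative = algebraMap P S.Ring b + 2 * S.X := by
      show _ = algebraMap P₁ S.Ring b₁ + 2 * S.X
      simp [S, f]
      ring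
    rw [he] at hu
    exact (RingHom.ker_isPrime toK.toRingHom).ne_top (Ideal.eq_top_of_isUnit_mem _ hmem hu)

section

variable {R P : Type u} [CommRing R] [CommRing P] [Algebra R P]
  [Algebra (MvPolynomial (Fin 2) R) P] [IsScalarTower R (MvPolynomial (Fin 2) R) P]

/-- Coordinates in which the first quadratic coefficient is invertible. -/
theorem exists_good_coords [Algebra.FormallyEtale (MvPolynomial (Fin 2) R) P] (Q : Ideal P) [Q.IsPrime] {x₀ x₁ A B C : P}
    (hx₀ : x₀ ∈ Q) (hx₁ : x₁ ∈ Q) (hd : 4 * A * C - B ^ 2 ∉ Q)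
    (hdet : (Matrix.of fun i j : Fin 2 => pd R P i (![x₀, x₁] j)).det ∉ Q) :
    ∃ y₀ y₁ A' B' C' : P, y₀ ∈ Q ∧ y₁ ∈ Q ∧ A' ∉ Q ∧ B' ^ 2 - 4 * A' * C' ∉ Q ∧
      (Matrix.of fun i j : Fin 2 => pd R P i (![y₀, y₁] j)).det ∉ Q ∧
      A' * y₀ ^ 2 + B' * y₀ * y₁ + C' * y₁ ^ 2 = A * x₀ ^ 2 + B * x₀ * x₁ + C * x₁ ^ 2 := by
  have hd' : B ^ 2 - 4 * A * C ∉ Q := fun h => hd (by simpa using Q.neg_mem h)
  rw [Matrix.det_fin_two] at hdet
  simp only [Matrix.of_apply, Matrix.cons_val_zero, Matrix.cons_val_one] at hdet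
  by_cases hA : A ∉ Q
  · exact ⟨x₀, x₁, A, B, C, hx₀, hx₁, hA, hd', by rw [Matrix.det_fin_two]; simpa using hdet, rfl⟩
  by_cases hC : C ∉ Q
  · refine ⟨x₁, x₀, C, B, A, hx₁, hx₀, hC, by convert hd' using 2; ring, fun hm => hdet ?_, by ring⟩
    rw [Matrix.det_fin_two] at hm
    simp only [Matrix.of_apply, Matrix.cons_val_zero, Matrix.cons_val_one] at hm
    convert Q.neg_mem hm using 1; ring
  · rw [not_not] at hA hC
    have hB : B ∉ Q := fun hB => hd (sub_mem (Q.mul_mem_left _ hC) (Ideal.pow_mem_of_mem _ hB 2 two_pos))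
    refine ⟨x₀, x₁ - x₀, A + B + C, B + 2 * C, C, hx₀, sub_mem hx₁ hx₀, fun hm => hB ?_, ?_, fun hm => hdet ?_, by ring⟩
    · have := sub_mem (sub_mem hm hA) hC
      rwa [show A + B + C - A - C = B by ring] at this
    · convert hd' using 2; ring
    · rw [Matrix.det_fin_two] at hm
      simp only [Matrix.of_apply, Matrix.cons_val_zero, Matrix.cons_val_one, map_sub] at hm
      convert hm using 1; ring

/-- Near the critical section the equation is a constant plus a nondegenerate quadratic form. -/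
theorem exists_quadratic [Algebra.Etale (MvPolynomial (Fin 2) R) P] [Algebra.FinitePresentation R P]
    (σ : P →ₐ[R] R) (Q : Ideal P) [Q.IsPrime] (hσQ : RingHom.ker σ.toRingHom ≤ Q) (G : P)
    (hDG : ∀ i : Fin 2, σ (pd R P i G) = 0) (hH : hess R P G ∉ Q) :
    ∃ x₀ x₁ A B C h : P, x₀ ∈ Q ∧ x₁ ∈ Q ∧ h ∉ Q ∧ 4 * A * C - B ^ 2 ∉ Q ∧
      (Matrix.of fun i j : Fin 2 => pd R P i (![x₀, x₁] j)).det ∉ Q ∧
      h * h * (G - algebraMap R P (σ G)) = A * x₀ ^ 2 + B * x₀ * x₁ + C * x₁ ^ 2 := by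
  obtain ⟨h, hhQ, hh⟩ := exists_mul_mem_of_section (τ := Fin 2) σ Q hσQ
  let X' : Fin 2 → P := fun i => algebraMap (MvPolynomial (Fin 2) R) P (MvPolynomial.X i)
  let x : Fin 2 → P := fun i => X' i - algebraMap R P (σ (X' i))
  have hxσ : ∀ i, σ (x i) = 0 := fun i => by
    show σ (X' i - _) = 0
    rw [map_sub, σ.commutes]
    exact sub_self _
  have hxQ : ∀ i, x i ∈ Q := fun i => hσQ (hxσ i)
  have hrange : Ideal.span (Set.range fun i => algebraMap (MvPolynomial (Fin 2) R) P (MvPolynomial.X i) -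
      algebraMap R P (σ (algebraMap (MvPolynomial (Fin 2) R) P (MvPolynomial.X i)))) = Ideal.span {x 0, x 1} := by
    congr 1
    ext t
    simp only [Set.mem_range, Fin.exists_fin_two, Set.mem_insert_iff, Set.mem_singleton_iff, x, X', eq_comm]
  have hDx : ∀ i j : Fin 2, pd R P i (x j) = if j = i then 1 else 0 := fun i j => by
    show pd R P i (X' j - algebraMap R P _) = _
    rw [map_sub, Derivation.map_algebraMap, sub_zero, pd_X]
  let a := σ G
  have hGa : σ (G - algebraMap R P a) = 0 := by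
    rw [map_sub, σ.commutes]
    exact sub_self _
  have h1 := hh _ (show G - algebraMap R P a ∈ RingHom.ker σ.toRingHom from hGa)
  rw [hrange, Ideal.mem_span_pair] at h1
  obtain ⟨α, β, hαβ⟩ := h1
  have key : ∀ i : Fin 2, σ (α * pd R P i (x 0)) + σ (β * pd R P i (x 1)) = 0 := fun i => by
    have h2 := congrArg (fun t => σ (pd R P i t)) hαβ
    simp only [Derivation.leibniz, map_add, map_sub, Derivation.map_algebraMap, sub_zero, smul_eq_mul, map_mul,
      hxσ, hDG, mul_zero, zero_mul, zero_add, add_zero] at h2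
    rw [map_mul, map_mul]
    simpa [hGa, a] using h2
  have hα : σ α = 0 := by simpa [hDx] using key 0
  have hβ : σ β = 0 := by simpa [hDx] using key 1
  have h3 := hh α hα
  have h4 := hh β hβ
  rw [hrange, Ideal.mem_span_pair] at h3 h4
  obtain ⟨a₁, a₂, ha⟩ := h3
  obtain ⟨b₁, b₂, hb⟩ := h4
  have hrel : h * h * (G - algebraMap R P a) = a₁ * x 0 ^ 2 + (a₂ + b₁) * x 0 * x 1 + b₂ * x 1 ^ 2 := by
    linear_combination -h * hαβ - x 0 * ha - x 1 * hb
  refine ⟨x 0, x 1, a₁, a₂ + b₁, b₂, h, hxQ 0, hxQ 1, hhQ, ?_, ?_, hrel⟩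
  · -- second derivatives
    intro hmem
    have hG0 : Ideal.Quotient.mk Q (G - algebraMap R P a) = 0 := Ideal.Quotient.eq_zero_iff_mem.2 (hσQ hGa)
    have hGi : ∀ i, Ideal.Quotient.mk Q (pd R P i G) = 0 := fun i => Ideal.Quotient.eq_zero_iff_mem.2 (hσQ (hDG i))
    have hx0 : ∀ i, Ideal.Quotient.mk Q (x i) = 0 := fun i => Ideal.Quotient.eq_zero_iff_mem.2 (hxQ i)
    have e : ∀ i j : Fin 2, Ideal.Quotient.mk Q (h * h * pd R P i (pd R P j G)) =
        Ideal.Quotient.mk Q (a₁ * (pd R P i (x 0) * pd R P j (x 0) + pd R P j (x 0) * pd R P i (x 0)) +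
          (a₂ + b₁) * (pd R P j (x 0) * pd R P i (x 1) + pd R P i (x 0) * pd R P j (x 1)) +
          b₂ * (pd R P i (x 1) * pd R P j (x 1) + pd R P j (x 1) * pd R P i (x 1))) := fun i j => by
      have h2 := congrArg (fun t => Ideal.Quotient.mk Q (pd R P i (pd R P j t))) hrel
      simp only [Derivation.leibniz, pow_two, map_add, map_sub, Derivation.map_algebraMap, sub_zero, smul_eq_mul,
        map_mul, hx0, hGi, mul_zero, zero_mul, add_zero, zero_add] at h2
      simp only [map_sub] at hG0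
      simp only [hG0, mul_zero, zero_mul, add_zero, zero_add] at h2
      simp only [map_add, map_mul]
      linear_combination h2
    have e00 := e 0 0
    have e01 := e 0 1
    have e10 := e 1 0
    have e11 := e 1 1
    simp only [hDx] at e00 e01 e10 e11
    simp at e00 e01 e10 e11
    have h0 : Ideal.Quotient.mk Q (4 * a₁ * b₂ - (a₂ + b₁) ^ 2) =
        Ideal.Quotient.mk Q (h * h) ^ 2 * Ideal.Quotient.mk Q (hess R P G) := by
      rw [hess, Matrix.det_fin_two]
      simp only [Matrix.of_apply, map_sub, map_mul, map_pow, map_ofNat, map_add]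
      linear_combination -(2 * Ideal.Quotient.mk Q b₂) * e00 -
        (Ideal.Quotient.mk Q h * Ideal.Quotient.mk Q h * Ideal.Quotient.mk Q (pd R P (0 : Fin 2) (pd R P (0 : Fin 2) G))) * e11 +
        (Ideal.Quotient.mk Q a₂ + Ideal.Quotient.mk Q b₁) * e10 +
        (Ideal.Quotient.mk Q h * Ideal.Quotient.mk Q h * Ideal.Quotient.mk Q (pd R P (1 : Fin 2) (pd R P (0 : Fin 2) G))) * e01
    rw [Ideal.Quotient.eq_zero_iff_mem.2 hmem, eq_comm, mul_eq_zero] at h0
    rcases h0 with h0 | h0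
    · rw [pow_eq_zero_iff two_ne_zero, map_mul, mul_self_eq_zero, Ideal.Quotient.eq_zero_iff_mem] at h0
      exact hhQ h0
    · exact hH (Ideal.Quotient.eq_zero_iff_mem.1 h0)
  · rw [Matrix.det_fin_two]
    simp only [Matrix.of_apply, Matrix.cons_val_zero, Matrix.cons_val_one, hDx]
    simpa using (Ideal.ne_top_iff_one Q).1 (inferInstance : Q.IsPrime).ne_top

/-- Extending partial derivatives along etale algebras. -/
theorem etale_ext_facts {P₂ : Type u} [CommRing P₂] [Algebra P P₂] [Algebra R P₂] [IsScalarTower R P P₂]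
    [Algebra.Etale (MvPolynomial (Fin 2) R) P] [Algebra.Etale P P₂]
    [Algebra (MvPolynomial (Fin 2) R) P₂] [IsScalarTower (MvPolynomial (Fin 2) R) P P₂] :
    ∃ (_ : IsScalarTower R (MvPolynomial (Fin 2) R) P₂) (_ : Algebra.Etale (MvPolynomial (Fin 2) R) P₂),
      ∀ (i : Fin 2) (x : P), algebraMap P P₂ (pd R P i x) = pd R P₂ i (algebraMap P P₂ x) := by
  let B := MvPolynomial (Fin 2) R
  have h1 : IsScalarTower R B P₂ := IsScalarTower.of_algebraMap_eq fun t => by
    rw [IsScalarTower.algebraMap_apply B P P₂, ← IsScalarTower.algebraMap_apply R B P,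
      ← IsScalarTower.algebraMap_apply R P P₂]
  have h2 : Algebra.Etale B P₂ := Algebra.Etale.comp B P P₂
  exact ⟨h1, h2, fun i x => pd_map (fun j => (IsScalarTower.algebraMap_apply B P P₂ _).symm) i x⟩

/-- The equation becomes a constant plus a product of etale coordinates. -/
theorem exists_split [Algebra.Etale (MvPolynomial (Fin 2) R) P]
    (σ : P →ₐ[R] R) (Q : Ideal P) [Q.IsPrime] (hσQ : RingHom.ker σ.toRingHom ≤ Q) (G : P)
    (hDG : ∀ i : Fin 2, σ (pd R P i G) = 0) (hH : hess R P G ∉ Q) :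
    ∃ (P₂ : Type u) (_ : CommRing P₂) (_ : Algebra P P₂) (_ : Algebra R P₂) (_ : IsScalarTower R P P₂)
      (_ : Algebra.Etale P P₂) (Q₂ : Ideal P₂) (w : Fin 2 → P₂),
      Q₂.IsPrime ∧ Q₂.comap (algebraMap P P₂) = Q ∧
      (MvPolynomial.aeval w : MvPolynomial (Fin 2) R →ₐ[R] P₂).toRingHom.Etale ∧
      algebraMap P P₂ G = w 0 * w 1 + algebraMap R P₂ (σ G) := by
  let B := MvPolynomial (Fin 2) R
  haveI : Algebra.FinitePresentation R P := Algebra.FinitePresentation.trans R B P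
  obtain ⟨x₀, x₁, A₀, B₀, C₀, h, hx₀, hx₁, hhQ, hd₀, hdet₀, hrel₀⟩ := exists_quadratic σ Q hσQ G hDG hH
  obtain ⟨y₀, y₁, A, Bc, C, hy₀, hy₁, hA, hd, hdet, hquad⟩ := exists_good_coords Q hx₀ hx₁ hd₀ hdet₀
  rw [← hquad] at hrel₀
  let N := A * h
  let P₁ := Localization.Away N
  have hNQ : N ∉ Q := fun hN => ((inferInstance : Q.IsPrime).mem_or_mem hN).elim hA hhQ
  have hdisj : Disjoint (Submonoid.powers N : Set P) Q := by
    rw [Set.disjoint_left]
    rintro _ ⟨m, rfl⟩ hm
    exact hNQ ((inferInstance : Q.IsPrime).mem_of_pow_mem m hm)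
  have hQ₁ : (Q.map (algebraMap P P₁)).IsPrime :=
    IsLocalization.isPrime_of_isPrime_disjoint (Submonoid.powers N) P₁ Q inferInstance hdisj
  have hmemQ₁ : ∀ t, algebraMap P P₁ t ∈ Q.map (algebraMap P P₁) ↔ t ∈ Q :=
    SetLike.ext_iff.1 (IsLocalization.under_map_of_isPrime_disjoint (Submonoid.powers N) P₁ inferInstance hdisj)
  haveI : Algebra.Etale P P₁ := Algebra.Etale.of_isLocalizationAway N
  have hNu : IsUnit (algebraMap P P₁ N) := IsLocalization.Away.algebraMap_isUnit (S := P₁) N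
  rw [map_mul] at hNu
  obtain ⟨Ai, hAi⟩ := (isUnit_of_mul_isUnit_left hNu).exists_left_inv
  obtain ⟨hi, hhi⟩ := (isUnit_of_mul_isUnit_right hNu).exists_left_inv
  let b₁ := algebraMap P P₁ Bc * Ai
  let c₁ := algebraMap P P₁ C * Ai
  have hdisc₁ : b₁ ^ 2 - 4 * c₁ ∉ Q.map (algebraMap P P₁) := fun hm => hd ((hmemQ₁ _).1 (by
    have := Ideal.mul_mem_left _ (algebraMap P P₁ A ^ 2) hm
    convert this using 1
    simp only [b₁, c₁, map_sub, map_mul, map_pow, map_ofNat]
    linear_combination (-(algebraMap P P₁ Bc ^ 2) * (Ai * algebraMap P P₁ A + 1) +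
      4 * algebraMap P P₁ A * algebraMap P P₁ C) * hAi))
  obtain ⟨P₂, _, _, _, Q₂, hQ₂p, hQ₂, T, hT, hT'⟩ := exists_root b₁ c₁ (Q.map (algebraMap P P₁)) hdisc₁
  letI : Algebra P P₂ := ((algebraMap P₁ P₂).comp (algebraMap P P₁)).toAlgebra
  haveI : IsScalarTower P P₁ P₂ := IsScalarTower.of_algebraMap_eq fun t => rfl
  haveI : Algebra.Etale P P₂ := Algebra.Etale.comp P P₁ P₂
  letI : Algebra R P₂ := ((algebraMap P P₂).comp (algebraMap R P)).toAlgebra
  haveI : IsScalarTower R P P₂ := IsScalarTower.of_algebraMap_eq fun t => rfl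
  letI : Algebra B P₂ := ((algebraMap P P₂).comp (algebraMap B P)).toAlgebra
  haveI : IsScalarTower B P P₂ := IsScalarTower.of_algebraMap_eq fun t => rfl
  obtain ⟨_, _, hpd⟩ := etale_ext_facts (R := R) (P := P) (P₂ := P₂)
  have hmem : ∀ t, algebraMap P P₂ t ∈ Q₂ ↔ t ∈ Q := fun t => by
    rw [← hmemQ₁, ← hQ₂]
    rfl
  let φ : P →+* P₂ := algebraMap P P₂
  let α := φ A * algebraMap P₁ P₂ hi * algebraMap P₁ P₂ hi
  let b := algebraMap P₁ P₂ b₁
  let g : Fin 2 → P₂ := ![α * (φ y₀ - T * φ y₁), φ y₀ + (b + T) * φ y₁]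
  have hAu : φ A * algebraMap P₁ P₂ Ai = 1 := by
    show algebraMap P₁ P₂ (algebraMap P P₁ A) * algebraMap P₁ P₂ Ai = 1
    rw [← map_mul, mul_comm, hAi, map_one]
  have hhu : φ h * algebraMap P₁ P₂ hi = 1 := by
    show algebraMap P₁ P₂ (algebraMap P P₁ h) * algebraMap P₁ P₂ hi = 1
    rw [← map_mul, mul_comm, hhi, map_one]
  have hG : φ G = g 0 * g 1 + algebraMap R P₂ (σ G) := by
    have e1 := congrArg φ hrel₀
    simp only [map_mul, map_sub, map_add, map_pow] at e1
    have hb : b = φ Bc * algebraMap P₁ P₂ Ai := map_mul _ _ _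
    have hc : algebraMap P₁ P₂ c₁ = φ C * algebraMap P₁ P₂ Ai := map_mul _ _ _
    rw [hc] at hT
    change T ^ 2 + b * T + φ C * algebraMap P₁ P₂ Ai = 0 at hT
    rw [hb] at hT
    show φ G = α * (φ y₀ - T * φ y₁) * (φ y₀ + (b + T) * φ y₁) + φ (algebraMap R P (σ G))
    rw [hb]
    simp only [α]
    linear_combination (algebraMap P₁ P₂ hi ^ 2) * e1 -
      (φ G - φ (algebraMap R P (σ G))) * (φ h * algebraMap P₁ P₂ hi + 1) * hhu +
      φ A * algebraMap P₁ P₂ hi ^ 2 * φ y₁ ^ 2 * hT -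
      algebraMap P₁ P₂ hi ^ 2 * (φ Bc * φ y₀ * φ y₁ + φ C * φ y₁ ^ 2) * hAu
  have hdet₂ : (Matrix.of fun i j : Fin 2 => pd R P₂ i (g j)).det ∉ Q₂ := by
    intro hm
    have hy0 : Ideal.Quotient.mk Q₂ (φ y₀) = 0 := Ideal.Quotient.eq_zero_iff_mem.2 ((hmem _).2 hy₀)
    have hy1 : Ideal.Quotient.mk Q₂ (φ y₁) = 0 := Ideal.Quotient.eq_zero_iff_mem.2 ((hmem _).2 hy₁)
    have e : Ideal.Quotient.mk Q₂ (Matrix.of fun i j : Fin 2 => pd R P₂ i (g j)).det =
        Ideal.Quotient.mk Q₂ (α * (b + 2 * T)) *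
          Ideal.Quotient.mk Q₂ (φ (Matrix.of fun i j : Fin 2 => pd R P i (![y₀, y₁] j)).det) := by
      rw [Matrix.det_fin_two, Matrix.det_fin_two]
      simp only [Matrix.of_apply, g, φ, Matrix.cons_val_zero, Matrix.cons_val_one, map_sub, map_mul, map_add, hpd,
        Derivation.leibniz, smul_eq_mul, map_ofNat]
      simp only [φ] at hy0 hy1
      simp only [hy0, hy1]
      ring
    rw [Ideal.Quotient.eq_zero_iff_mem.2 hm, ← map_mul, eq_comm, Ideal.Quotient.eq_zero_iff_mem] at e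
    rcases hQ₂p.mem_or_mem e with h1 | h1
    · rcases hQ₂p.mem_or_mem h1 with h2 | h2
      · refine hQ₂p.ne_top (Ideal.eq_top_of_isUnit_mem _ h2 (IsUnit.mul (IsUnit.mul ?_ ?_) ?_))
        · exact IsUnit.of_mul_eq_one _ hAu
        · exact IsUnit.of_mul_eq_one _ ((mul_comm _ _).trans hhu)
        · exact IsUnit.of_mul_eq_one _ ((mul_comm _ _).trans hhu)
      · exact hT' h2
    · exact hdet ((hmem _).1 h1)
  haveI := hQ₂p
  obtain ⟨f, hfQ, het⟩ := exists_etale_of_det (R := R) (Equiv.refl (Fin 2)) Q₂ g hdet₂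
  let P₃ := Localization.Away f
  have hdisj₃ : Disjoint (Submonoid.powers f : Set P₂) Q₂ := by
    rw [Set.disjoint_left]
    rintro _ ⟨m, rfl⟩ hm
    exact hfQ (hQ₂p.mem_of_pow_mem m hm)
  haveI : Algebra.Etale P₂ P₃ := Algebra.Etale.of_isLocalizationAway f
  haveI : Algebra.Etale P P₃ := Algebra.Etale.comp P P₂ P₃
  haveI : IsScalarTower R P P₃ := IsScalarTower.of_algebraMap_eq fun t => by
    rw [IsScalarTower.algebraMap_apply R P₂ P₃, IsScalarTower.algebraMap_apply P P₂ P₃]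
    rfl
  refine ⟨P₃, inferInstance, inferInstance, inferInstance, inferInstance, inferInstance,
    Q₂.map (algebraMap P₂ P₃), fun j => algebraMap P₂ P₃ (g j),
    IsLocalization.isPrime_of_isPrime_disjoint (Submonoid.powers f) P₃ Q₂ hQ₂p hdisj₃, ?_, het, ?_⟩
  · ext t
    rw [Ideal.mem_comap, IsScalarTower.algebraMap_apply P P₂ P₃]
    rw [← hmem]
    exact SetLike.ext_iff.1
      (IsLocalization.under_map_of_isPrime_disjoint (Submonoid.powers f) P₃ inferInstance hdisj₃) _
  · show algebraMap P₂ P₃ (φ G) = _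
    rw [hG, map_add, map_mul, ← IsScalarTower.algebraMap_apply]

end

end Groth.Agent.Node12.Loc
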