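import Groth.Agent.Node12.Loc.Dvr
import Groth.Agent.CAlg1.SectionPowerSeries
import Groth.Agent.Unr55.CompletionCrit
import Groth.Agent.NeronHD28.SectionSmooth
import Groth.Agent.Henz21.SchemeSections
import Groth.Agent.VarGal.SmoothGeomReg
import Mathlib.RingTheory.RegularLocalRing.Defs

/-!
# Split nodes: rational points of etale neighbourhoods of the standard node
-/

set_option autoImplicit false
set_option linter.style.haveILetI false
set_option maxHeartbeats 1600000
set_option synthInstance.maxHeartbeats 100000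
set_option backward.isDefEq.respectTransparency.types false

universe u

open CategoryTheory Limits AlgebraicGeometry IsLocalRing

noncomputable section

namespace Groth.Agent.Node12.Loc

section Algebra

variable {k : Type u} [Field k]

/-- A flat unramified local map with trivial residue extension is an isomorphism on completions. -/
theorem completion_algEquiv_of_flat {A B : Type u} [CommRing A] [CommRing B] [IsLocalRing A] [IsLocalRing B]
    [IsNoetherianRing A] [IsNoetherianRing B] [Algebra k A] [Algebra k B] (φ : A →ₐ[k] B) [IsLocalHom φ.toRingHom]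
    (hflat : φ.toRingHom.Flat) (hm : (maximalIdeal A).map φ.toRingHom = maximalIdeal B)
    (hres : ∀ b : B, ∃ a, b - φ a ∈ maximalIdeal B) :
    Nonempty (AdicCompletion (maximalIdeal A) A ≃ₐ[k] AdicCompletion (maximalIdeal B) B) := by
  let _ : Algebra A B := φ.toRingHom.toAlgebra
  haveI : IsLocalHom (algebraMap A B) := ‹IsLocalHom φ.toRingHom›
  haveI : Module.Flat A B := hflat
  have hsurj := Unr55.forall_surjective_iff.2 ⟨hm, hres⟩
  have hker := (Unr55.flat_iff_forall_ker hsurj).1 inferInstance
  have hle : ∀ n, maximalIdeal A ^ n ≤ (maximalIdeal B ^ n).comap φ := fun n a ha => by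
    have h := (hker n).ge ha
    rw [RingHom.mem_ker, RingHom.comp_apply, Ideal.Quotient.eq_zero_iff_mem] at h
    exact h
  refine CAlg1.completion_equiv_of_bijective_quotients _ _ φ hle fun n => ⟨?_, ?_⟩
  · rw [injective_iff_map_eq_zero]
    intro x hx
    obtain ⟨a, rfl⟩ := Ideal.Quotient.mk_surjective x
    rw [Ideal.Quotient.eq_zero_iff_mem, ← hker n, RingHom.mem_ker]
    exact hx
  · intro z
    obtain ⟨a, ha⟩ := hsurj n z
    exact ⟨Ideal.Quotient.mk _ a, ha⟩

/-- Ordinary double points only depend on the completion. -/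
theorem isOrdDoublePt_of_algEquiv {A B : Type u} [CommRing A] [CommRing B] [IsLocalRing A] [IsLocalRing B]
    [Algebra k A] [Algebra k B]
    (E : AdicCompletion (maximalIdeal A) A ≃ₐ[k] AdicCompletion (maximalIdeal B) B)
    (h : Curv2.IsOrdDoublePt k A) : Curv2.IsOrdDoublePt k B := by
  obtain ⟨e, he⟩ := h
  refine ⟨E.symm.toRingEquiv.trans e, fun c => ?_⟩
  show e (E.symm (algebraMap B _ (algebraMap k B c))) = _
  rw [← IsScalarTower.algebraMap_apply k B, AlgEquiv.commutes, IsScalarTower.algebraMap_apply k A]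
  exact he c

/-- A rational quadratic point with two coordinates of product zero is an ordinary double point. -/
theorem isOrdDoublePt_of_split {A : Type u} [CommRing A] [IsLocalRing A] [IsNoetherianRing A] [Algebra k A]
    (h : IsQuadPt A) (hres : Function.Surjective (algebraMap k (ResidueField A))) {u v : A}
    (hm : maximalIdeal A = Ideal.span {u, v}) (huv : u * v = 0) : Curv2.IsOrdDoublePt k A := by
  let B := AdicCompletion (maximalIdeal A) A
  haveI : IsNoetherianRing B := Cohen12.isNoetherianRing_completion A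
  haveI : IsAdicComplete (maximalIdeal B) B := Cohen12.isAdicComplete_completion A
  haveI : Module.Flat A B := AdicCompletion.flat_of_isNoetherian _
  haveI : IsLocalHom (algebraMap A B) :=
    ((IsLocalRing.local_hom_TFAE _).out 2 0 rfl rfl).mp AdicCompletion.maximalIdeal_eq_map.symm.le
  let σ : k →+* B := (algebraMap A B).comp (algebraMap k A)
  have hσ : Function.Surjective ((residue B).comp σ) := fun z => by
    obtain ⟨z, rfl⟩ := residue_surjective z
    obtain ⟨a, ha⟩ := Cohen12.exists_sub_mem_pow A 1 z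
    rw [pow_one] at ha
    obtain ⟨t, ht⟩ := hres (residue A a)
    refine ⟨t, ?_⟩
    have h1 : a - algebraMap k A t ∈ maximalIdeal A := by
      rw [← residue_eq_zero_iff, map_sub, ← ht]
      exact sub_self _
    have h2 : algebraMap A B (a - algebraMap k A t) ∈ maximalIdeal B :=
      AdicCompletion.maximalIdeal_eq_map (R := A) ▸ Ideal.mem_map_of_mem _ h1
    rw [map_sub] at h2
    rw [RingHom.comp_apply, eq_comm, ← sub_eq_zero, ← map_sub, residue_eq_zero_iff]
    convert add_mem ha h2 using 1; simp [σ, B]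
  obtain ⟨-, -, -, -, -, -, -, -, hpr, e, hem, he⟩ := h.map (B := B) AdicCompletion.maximalIdeal_eq_map.symm
  have hmB : maximalIdeal B = Ideal.span {algebraMap A B u, algebraMap A B v} := by
    refine (AdicCompletion.maximalIdeal_eq_map (R := A)).trans ((congrArg (Ideal.map (algebraMap A B)) hm).trans ?_)
    rw [Ideal.map_span, Set.image_pair]
  obtain ⟨E', hE', -⟩ := exists_equiv_of_relation σ hσ hmB (a := 0) (b := 1) (c := 0)
    (by norm_num) (by simp [← map_mul, huv]) hpr hem he
  have hI : quadIdeal k (0 : k) 1 0 = Ideal.span {(MvPowerSeries.X 0 * MvPowerSeries.X 1 : MvPowerSeries (Fin 2) k)} := by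
    simp [quadIdeal]
  refine ⟨E'.trans (Ideal.quotEquivOfEq hI), fun t => ?_⟩
  show Ideal.quotEquivOfEq hI (E' (σ t)) = _
  rw [hE', Ideal.quotEquivOfEq_mk]

end Algebra

section Scheme

variable {k : Type u} [Field k] {X Y : Scheme.{u}} [X.Over (Spec (CommRingCat.of k))]
  [Y.Over (Spec (CommRingCat.of k))]

attribute [local instance] Curv2.stalkAlgebra

/-- At a rational point an etale morphism does not change being an ordinary double point. -/
theorem isOrdDoublePt_iff_of_etale_section [LocallyOfFiniteType (X ↘ Spec (CommRingCat.of k))]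
    (π : Y ⟶ X) [Etale π] (hπ : π ≫ (X ↘ Spec (CommRingCat.of k)) = Y ↘ Spec (CommRingCat.of k))
    (σ : Spec (CommRingCat.of k) ⟶ Y) (hσ : σ ≫ Y ↘ Spec (CommRingCat.of k) = 𝟙 _) :
    Curv2.IsOrdDoublePt k (X.presheaf.stalk (π (σ (closedPoint k)))) ↔
      Curv2.IsOrdDoublePt k (Y.presheaf.stalk (σ (closedPoint k))) := by
  have : LocallyOfFiniteType (Y ↘ Spec (CommRingCat.of k)) := hπ ▸ inferInstance
  have : IsLocallyNoetherian X := LocallyOfFiniteType.isLocallyNoetherian (X ↘ Spec (CommRingCat.of k))
  have : IsLocallyNoetherian Y := LocallyOfFiniteType.isLocallyNoetherian (Y ↘ Spec (CommRingCat.of k))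
  let y := σ (closedPoint k)
  let φ : X.presheaf.stalk (π y) →ₐ[k] Y.presheaf.stalk y :=
    { (π.stalkMap y).hom with commutes' := fun r => stalkMap_comp_struct π hπ y r }
  haveI : IsLocalHom φ.toRingHom := inferInstanceAs (IsLocalHom (π.stalkMap y).hom)
  obtain ⟨_, _, hm⟩ := Unr55.stalkMap_facts π y
  have hres : ∀ b : Y.presheaf.stalk y, ∃ a, b - φ a ∈ maximalIdeal (Y.presheaf.stalk y) := fun b => by
    obtain ⟨t, ht⟩ := NeronHD28.resMap_surjective_of_section σ hσ (Y.residue y b)
    refine ⟨algebraMap k _ t, ?_⟩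
    rw [AlgHom.commutes]
    exact Ideal.Quotient.eq.1 ht.symm
  obtain ⟨E⟩ := completion_algEquiv_of_flat φ (Flat.stalkMap π y) hm hres
  exact ⟨isOrdDoublePt_of_algEquiv E, isOrdDoublePt_of_algEquiv E.symm⟩

/-- A node of a curve is not a smooth point. -/
theorem not_smooth_of_node [LocallyOfFiniteType (X ↘ Spec (CommRingCat.of k))]
    (hequi : ∀ Z ∈ irreducibleComponents (X : Type u), topologicalKrullDim Z = 1) (x : X)
    (hx : Curv2.IsNode k X x) : x ∉ (X ↘ Spec (CommRingCat.of k)).smoothLocus := by
  intro hs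
  have : IsLocallyNoetherian X := LocallyOfFiniteType.isLocallyNoetherian (X ↘ Spec (CommRingCat.of k))
  have : JacobsonSpace X := LocallyOfFiniteType.jacobsonSpace (X ↘ Spec (CommRingCat.of k))
  haveI := VarGal.regular_of_mem_smoothLocus (k := k) _ hs
  obtain ⟨hcl, -, hQ⟩ := (Node12.isNode_iff x).1 hx
  obtain ⟨_, _, _, _, _, -, -, -, hpr, -⟩ := hQ
  let A := X.presheaf.stalk x
  have h1 : ((maximalIdeal A).spanFinrank : WithBot ℕ∞) = ((1 : ℕ) : WithBot ℕ∞) := by
    rw [(isRegularLocalRing_iff A).1 inferInstance, (equidim_one_iff X).1 hequi x hcl]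
    rfl
  have h2 : (maximalIdeal A).spanFinrank = 1 := by exact_mod_cast h1
  have hfg : (maximalIdeal A).FG := IsNoetherian.noetherian _
  obtain ⟨s, hs⟩ : ∃ s, maximalIdeal A = Ideal.span {s} := by
    have h3 := Submodule.FG.generators_ncard hfg
    rw [h2, Set.ncard_eq_one] at h3
    obtain ⟨s, hs⟩ := h3
    exact ⟨s, by rw [← Submodule.span_generators (maximalIdeal A), hs]⟩
  exact hpr s hs

end Scheme

section Node

attribute [local instance] Curv2.stalkAlgebra

/-- The origin section of the standard family with vanishing parameter. -/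
def nodeOrigin {R : Type u} [CommRing R] (r : R) (h : (0 : R) * 0 = r) : NodeRing r →ₐ[R] R :=
  nodeLift r ![0, 0] (by simpa using h)

theorem nodeOrigin_var {R : Type u} [CommRing R] (r : R) (h : (0 : R) * 0 = r) (i : Fin 2) :
    nodeOrigin r h (nodeVar r i) = 0 := by
  rw [nodeOrigin, nodeLift_var]
  fin_cases i <;> rfl

/-- Every element of the standard family with vanishing parameter is a constant plus an element of
the ideal of the origin. -/
theorem exists_origin_decomp {R : Type u} [CommRing R] (r : R) (h : (0 : R) * 0 = r) (q : NodeRing r) :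
    ∃ a b, q = algebraMap R (NodeRing r) (nodeOrigin r h q) + a * nodeVar r 0 + b * nodeVar r 1 := by
  obtain ⟨p, rfl⟩ := Ideal.Quotient.mk_surjective q
  induction p using MvPolynomial.induction_on with
  | C t =>
    refine ⟨0, 0, ?_⟩
    rw [show Ideal.Quotient.mk _ (MvPolynomial.C t) = algebraMap R (NodeRing r) t from rfl, AlgHom.commutes]
    simp
  | add p q hp hq =>
    obtain ⟨a, b, hp⟩ := hp
    obtain ⟨c, d, hq⟩ := hq
    refine ⟨a + c, b + d, ?_⟩
    rw [map_add, map_add, map_add]
    linear_combination hp + hq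
  | mul_X p i _ =>
    rw [map_mul, show Ideal.Quotient.mk _ (MvPolynomial.X i) = nodeVar r i from rfl, map_mul, nodeOrigin_var,
      mul_zero, map_zero]
    fin_cases i
    · exact ⟨Ideal.Quotient.mk _ p, 0, by simp⟩
    · exact ⟨0, Ideal.Quotient.mk _ p, by simp⟩

/-- The origin of the standard family with parameter zero is an ordinary double point. -/
theorem isOrdDoublePt_origin {κ : Type u} [Field κ] {c : κ} (w : Spec (CommRingCat.of (NodeRing c)))
    (hw : ∀ i, nodeVar c i ∈ w.asIdeal) :
    @Curv2.IsOrdDoublePt κ _ ((Spec (CommRingCat.of (NodeRing c))).presheaf.stalk w) _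
      (@Curv2.stalkAlgebra κ _ (Spec (CommRingCat.of (NodeRing c))) ⟨nodeStruct c⟩ w) _ := by
  obtain rfl : c = 0 := by
    by_contra hc
    refine w.isPrime.ne_top (Ideal.eq_top_of_isUnit_mem _ (w.asIdeal.mul_mem_right (nodeVar c 1) (hw 0)) ?_)
    rw [nodeVar_mul]
    exact (Ne.isUnit hc).map _
  let X := Spec (CommRingCat.of (NodeRing (0 : κ)))
  let iX : X.Over (Spec (CommRingCat.of κ)) := ⟨nodeStruct (0 : κ)⟩
  have : LocallyOfFiniteType (X ↘ Spec (CommRingCat.of κ)) :=
    (inferInstance : LocallyOfFiniteType (nodeStruct (0 : κ)))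
  have : IsLocallyNoetherian X := LocallyOfFiniteType.isLocallyNoetherian (X ↘ Spec (CommRingCat.of κ))
  let A := X.presheaf.stalk w
  let _ : Algebra (NodeRing (0 : κ)) A := StructureSheaf.stalkAlgebra (NodeRing (0 : κ)) w
  have : IsLocalization.AtPrime A w.asIdeal := StructureSheaf.IsLocalization.to_stalk (NodeRing (0 : κ)) w
  let _ : Algebra κ A := Curv2.stalkAlgebra κ X w
  have : IsScalarTower κ (NodeRing (0 : κ)) A := IsScalarTower.of_algebraMap_eq' (by
    have h : Spec.map (CommRingCat.ofHom (Curv2.stalkMap κ X w)) =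
        Spec.map (CommRingCat.ofHom (algebraMap κ (NodeRing (0 : κ))) ≫ StructureSheaf.toStalk _ w) := by
      rw [Spec.map_comp, ← Spec.fromSpecStalk_eq' (R := CommRingCat.of (NodeRing (0 : κ)))]
      exact (Curves2.fromSpecStalk_struct (X ↘ Spec (CommRingCat.of κ)) w).symm
    exact congrArg CommRingCat.Hom.hom (Spec.map_injective h))
  obtain ⟨hQ, hres⟩ := isQuadPt_origin w.asIdeal hw A
  have hspan : w.asIdeal = Ideal.span {nodeVar (0 : κ) 0, nodeVar (0 : κ) 1} := by
    refine le_antisymm (fun q hq => ?_) (Ideal.span_le.2 (by rintro _ (rfl | rfl) <;> exact hw _))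
    obtain ⟨a, b, hab⟩ := exists_origin_decomp (0 : κ) (mul_zero _) q
    rw [hab] at hq
    have h0 : nodeOrigin (0 : κ) (mul_zero _) q = 0 := by
      by_contra h
      have h1 : algebraMap κ (NodeRing (0 : κ)) (nodeOrigin (0 : κ) (mul_zero _) q) ∈ w.asIdeal := by
        have := sub_mem hq (add_mem (w.asIdeal.mul_mem_left a (hw 0)) (w.asIdeal.mul_mem_left b (hw 1)))
        simpa [add_sub_cancel_right, add_assoc] using this
      exact w.isPrime.ne_top (Ideal.eq_top_of_isUnit_mem _ h1 ((Ne.isUnit h).map _))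
    rw [hab, h0, map_zero, zero_add]
    exact add_mem (Ideal.mul_mem_left _ _ (Ideal.subset_span (by simp)))
      (Ideal.mul_mem_left _ _ (Ideal.subset_span (by simp)))
  refine isOrdDoublePt_of_split hQ hres (u := algebraMap _ A (nodeVar (0 : κ) 0))
    (v := algebraMap _ A (nodeVar (0 : κ) 1)) ?_ (by rw [← map_mul, nodeVar_mul, map_zero, map_zero])
  rw [← IsLocalization.AtPrime.map_eq_maximalIdeal w.asIdeal A]
  refine (congrArg (Ideal.map (algebraMap (NodeRing (0 : κ)) A)) hspan).trans ?_
  rw [Ideal.map_span, Set.image_pair]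

end Node

end Groth.Agent.Node12.Loc
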