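import Groth.Agent.Node12.Loc.Model
import Groth.Agent.Node12.Etale
import Groth.Agent.Open62.SmoothBaseChange
import Groth.Agent.DR39.NormShriek
import Mathlib.RingTheory.Polynomial.Nilpotent
import Mathlib.Algebra.TrivSqZeroExt.Basic

/-!
# The standard nodal family over a field
-/

set_option autoImplicit false
set_option linter.style.haveILetI false
set_option maxHeartbeats 1600000
set_option synthInstance.maxHeartbeats 100000
set_option backward.isDefEq.respectTransparency.types false

universe u

open IsLocalRing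

noncomputable section

namespace Groth.Agent.Node12.Loc

section Ring

variable {R : Type u} [CommRing R]

/-- The coordinates of the standard nodal family. -/
abbrev nodeVar (r : R) (i : Fin 2) : MvPolynomial (Fin 2) R ⧸ nodeEq r :=
  Ideal.Quotient.mk (nodeEq r) (MvPolynomial.X i)

theorem nodeVar_mul (r : R) : nodeVar r 0 * nodeVar r 1 = algebraMap R (MvPolynomial (Fin 2) R ⧸ nodeEq r) r := by
  rw [← map_mul]
  exact Ideal.Quotient.eq.2 (Ideal.mem_span_singleton_self _)

theorem nodeVar_mul' (r : R) {i j : Fin 2} (hij : i ≠ j) :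
    nodeVar r i * nodeVar r j = algebraMap R (MvPolynomial (Fin 2) R ⧸ nodeEq r) r := by
  fin_cases i <;> fin_cases j
  · exact absurd rfl hij
  · exact nodeVar_mul r
  · exact (mul_comm _ _).trans (nodeVar_mul r)
  · exact absurd rfl hij

/-- The standard nodal family is smooth where one of the coordinates is invertible. -/
theorem formallySmooth_away (r : R) (i : Fin 2) :
    Algebra.FormallySmooth R (Localization.Away (nodeVar r i)) := by
  classical
  let P := Localization.Away (Polynomial.X : Polynomial R)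
  let L := Localization.Away (nodeVar r i)
  let t : P := algebraMap (Polynomial R) P Polynomial.X
  let ti : P := IsLocalization.Away.invSelf (Polynomial.X : Polynomial R)
  have hti : t * ti = 1 := IsLocalization.Away.mul_invSelf _
  let a : Fin 2 → P := fun l => if l = i then t else algebraMap R P r * ti
  have ha : a 0 * a 1 = algebraMap R P r := by
    fin_cases i <;> simp [a] <;> linear_combination algebraMap R P r * hti
  let φ₀ : MvPolynomial (Fin 2) R ⧸ nodeEq r →ₐ[R] P := Ideal.Quotient.liftₐ (nodeEq r) (MvPolynomial.aeval a)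
    fun x hx => by
      obtain ⟨x, rfl⟩ := Ideal.mem_span_singleton'.1 hx
      simp [ha]
  have hφ₀ : φ₀ (nodeVar r i) = t := by
    show MvPolynomial.aeval a (MvPolynomial.X i) = t
    simp [a]
  let φ : L →ₐ[R] P := IsLocalization.liftAlgHom (M := Submonoid.powers (nodeVar r i)) (f := φ₀) (by
    rintro ⟨_, n, rfl⟩
    show IsUnit (φ₀ (nodeVar r i ^ n))
    rw [map_pow, hφ₀]
    exact (IsUnit.of_mul_eq_one ti hti).pow n)
  have hφ : ∀ q, φ (algebraMap (MvPolynomial (Fin 2) R ⧸ nodeEq r) L q) = φ₀ q := fun q =>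
    IsLocalization.lift_eq _ q
  let v : Fin 2 → L := fun l => algebraMap (MvPolynomial (Fin 2) R ⧸ nodeEq r) L (nodeVar r l)
  let ψ₀ : Polynomial R →ₐ[R] L := Polynomial.aeval (v i)
  let ψ : P →ₐ[R] L := IsLocalization.liftAlgHom (M := Submonoid.powers (Polynomial.X : Polynomial R)) (f := ψ₀) (by
    rintro ⟨_, n, rfl⟩
    show IsUnit (ψ₀ (Polynomial.X ^ n))
    rw [map_pow]
    simp only [ψ₀, Polynomial.aeval_X]
    exact (IsLocalization.map_units L (⟨nodeVar r i, 1, pow_one _⟩ : Submonoid.powers (nodeVar r i))).pow n)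
  have hψ : ψ t = v i := by
    show IsLocalization.lift _ (algebraMap (Polynomial R) P Polynomial.X) = v i
    rw [IsLocalization.lift_eq]
    simp [ψ₀]
  have key : ∀ l, ψ (a l) = v l := by
    intro l
    by_cases hl : l = i
    · subst hl
      simp [a, hψ]
    · have h1 : v i * v l = algebraMap R L r := by
        simp only [v, ← map_mul, nodeVar_mul' r (Ne.symm hl)]
        exact (IsScalarTower.algebraMap_apply _ _ _ r).symm
      have h2 : v i * ψ ti = 1 := by rw [← hψ, ← map_mul, hti, map_one]
      simp only [a, if_neg hl, map_mul, AlgHom.commutes]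
      linear_combination v l * h2 - ψ ti * h1
  have hid : ψ.comp φ = AlgHom.id R L := by
    refine IsLocalization.algHom_ext (Submonoid.powers (nodeVar r i)) (Ideal.Quotient.algHom_ext R
      (MvPolynomial.algHom_ext fun l => ?_))
    show ψ (φ (algebraMap _ L (nodeVar r l))) = v l
    rw [hφ]
    show ψ (MvPolynomial.aeval a (MvPolynomial.X l)) = v l
    rw [MvPolynomial.aeval_X, key]
  have hid' : φ.comp ψ = AlgHom.id R P := by
    refine IsLocalization.algHom_ext (Submonoid.powers (Polynomial.X : Polynomial R))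
      (Polynomial.algHom_ext ?_)
    show φ (ψ t) = t
    rw [hψ, hφ, hφ₀]
  have : Algebra.FormallyEtale (Polynomial R) P :=
    .of_isLocalization (Submonoid.powers (Polynomial.X : Polynomial R))
  have : Algebra.FormallySmooth R P := Algebra.FormallySmooth.comp R (Polynomial R) P
  exact Algebra.FormallySmooth.of_equiv (AlgEquiv.ofAlgHom ψ φ hid hid')

end Ring

section Field

variable {κ : Type u} [Field κ] (c : κ)

theorem nodeEqn_ne_zero :
    (MvPolynomial.X 0 * MvPolynomial.X 1 - MvPolynomial.C c : MvPolynomial (Fin 2) κ) ≠ 0 := fun h => by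
  have := congrArg (MvPolynomial.eval ![(1 : κ), c + 1]) h
  simp at this

/-- The local rings at maximal ideals of the standard nodal family over a field are one-dimensional. -/
theorem height_maximal (m : Ideal (MvPolynomial (Fin 2) κ ⧸ nodeEq c)) [m.IsMaximal] : m.height = 1 := by
  let P := MvPolynomial (Fin 2) κ
  let g : P := MvPolynomial.X 0 * MvPolynomial.X 1 - MvPolynomial.C c
  have hg : g ∈ nonZeroDivisors P := mem_nonZeroDivisors_of_ne_zero (nodeEqn_ne_zero c)
  have hd : ringKrullDim (P ⧸ nodeEq c) ≤ 1 := by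
    have h1 := ringKrullDim_quotient_succ_le_of_nonZeroDivisor hg
    have h2 : ringKrullDim P = 2 := by
      show ringKrullDim (MvPolynomial (Fin 2) κ) = 2
      simp [MvPolynomial.ringKrullDim_of_isNoetherianRing, ringKrullDim_eq_zero_of_field]
    rw [h2] at h1
    change ringKrullDim (P ⧸ nodeEq c) + 1 ≤ 2 at h1
    generalize ringKrullDim (P ⧸ nodeEq c) = d at h1 ⊢
    induction d with
    | bot => exact bot_le
    | coe d =>
      induction d with
      | top => exact absurd h1 (by decide)
      | coe d =>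
        have : d + 1 ≤ 2 := by
          have h1' : ((d + 1 : ℕ) : WithBot ℕ∞) ≤ ((2 : ℕ) : WithBot ℕ∞) := by simpa using h1
          exact_mod_cast h1'
        exact_mod_cast (by omega : d ≤ 1)
  refine le_antisymm ?_ ?_
  · exact_mod_cast (Ideal.height_le_ringKrullDim_of_ne_top (Ideal.IsMaximal.ne_top ‹_›)).trans hd
  · rw [Order.one_le_iff_pos, pos_iff_ne_zero]
    intro h0
    rw [Ideal.height_eq_zero_iff] at h0
    let M := m.comap (Ideal.Quotient.mk (nodeEq c))
    have hM : M.IsMaximal := Ideal.comap_isMaximal_of_surjective _ Ideal.Quotient.mk_surjective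
    have hMmin : M ∈ (nodeEq c).minimalPrimes := by
      rw [Ideal.minimalPrimes_eq_comap]
      exact ⟨m, h0, rfl⟩
    have h1 : M.height ≤ 1 := Ideal.height_le_one_of_isPrincipal_of_mem_minimalPrimes (nodeEq c) M hMmin
    rw [DR39.height_maximal_mvPolynomial κ 2 M] at h1
    exact absurd h1 (by decide)

/-- At the origin of `uv = 0` the local ring is a quadratic point. -/
theorem isQuadPt_origin (m : Ideal (MvPolynomial (Fin 2) κ ⧸ nodeEq (0 : κ))) [m.IsPrime]
    (hu : ∀ i, nodeVar (0 : κ) i ∈ m)
    (A : Type u) [CommRing A] [IsLocalRing A] [Algebra (MvPolynomial (Fin 2) κ ⧸ nodeEq (0 : κ)) A] [Algebra κ A]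
    [IsScalarTower κ (MvPolynomial (Fin 2) κ ⧸ nodeEq (0 : κ)) A] [IsLocalization.AtPrime A m] :
    IsQuadPt A ∧ Function.Surjective (algebraMap κ (ResidueField A)) := by
  classical
  let Q := MvPolynomial (Fin 2) κ ⧸ nodeEq (0 : κ)
  let al := algebraMap Q A
  let T := TrivSqZeroExt κ (κ × κ)
  let e : Fin 2 → T := ![TrivSqZeroExt.inr (1, 0), TrivSqZeroExt.inr (0, 1)]
  let χ₀ : Q →ₐ[κ] T := Ideal.Quotient.liftₐ (nodeEq (0 : κ)) (MvPolynomial.aeval e) fun x hx => by
    obtain ⟨x, rfl⟩ := Ideal.mem_span_singleton'.1 hx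
    simp only [map_mul, MvPolynomial.aeval_X, map_zero, sub_zero, e, Matrix.cons_val_zero, Matrix.cons_val_one]
    exact mul_eq_zero_of_right _ (TrivSqZeroExt.inr_mul_inr κ _ _)
  have hconst : ∀ q : Q, q - algebraMap κ Q (χ₀ q).fst ∈ m := by
    intro q
    obtain ⟨p, rfl⟩ := Ideal.Quotient.mk_surjective q
    induction p using MvPolynomial.induction_on with
    | C a =>
      have h : χ₀ (algebraMap κ Q a) = algebraMap κ T a := χ₀.commutes a
      have h' : (χ₀ (algebraMap κ Q a)).fst = a := by rw [h]; rfl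
      show algebraMap κ Q a - algebraMap κ Q (χ₀ (algebraMap κ Q a)).fst ∈ m
      rw [h', sub_self]
      exact zero_mem _
    | add p q hp hq =>
      have := add_mem hp hq
      rw [map_add, map_add, TrivSqZeroExt.fst_add, map_add]
      convert this using 1
      ring
    | mul_X p l hp =>
      have h0 : (χ₀ (Ideal.Quotient.mk _ (p * MvPolynomial.X l))).fst = 0 := by
        show (MvPolynomial.aeval e (p * MvPolynomial.X l)).fst = 0
        rw [map_mul, MvPolynomial.aeval_X, TrivSqZeroExt.fst_mul]
        fin_cases l <;> simp [e]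
      rw [h0, map_zero, sub_zero, map_mul]
      exact m.mul_mem_left _ (hu l)
  have hker : ∀ q : Q, (χ₀ q).fst = 0 ↔ q ∈ m := by
    intro q
    constructor
    · intro h
      simpa [h] using hconst q
    · intro hq
      by_contra h
      have h1 := sub_mem hq (hconst q)
      rw [sub_sub_cancel] at h1
      exact Ideal.IsPrime.ne_top ‹_› (Ideal.eq_top_of_isUnit_mem _ h1 ((Ne.isUnit h).map (algebraMap κ Q)))
  have hu' : ∀ s : m.primeCompl, IsUnit (χ₀ s.1) := fun s => by
    rw [TrivSqZeroExt.isUnit_iff_isUnit_fst]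
    exact Ne.isUnit fun h => s.2 ((hker _).1 h)
  let χ : A →+* T := IsLocalization.lift (M := m.primeCompl) (g := χ₀.toRingHom) hu'
  have hχ : ∀ q, χ (al q) = χ₀ q := fun q => IsLocalization.lift_eq _ q
  have hspan : m = Ideal.span {nodeVar (0 : κ) 0, nodeVar (0 : κ) 1} := by
    refine le_antisymm (fun q hq => ?_) ?_
    · obtain ⟨p, rfl⟩ := Ideal.Quotient.mk_surjective q
      have key : ∀ p : MvPolynomial (Fin 2) κ, Ideal.Quotient.mk (nodeEq (0 : κ)) p -
          algebraMap κ Q (MvPolynomial.constantCoeff p) ∈ Ideal.span {nodeVar (0 : κ) 0, nodeVar (0 : κ) 1} := by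
        intro p
        induction p using MvPolynomial.induction_on with
        | C a =>
          rw [MvPolynomial.constantCoeff_C]
          show algebraMap κ Q a - algebraMap κ Q a ∈ _
          rw [sub_self]
          exact zero_mem _
        | add p q hp hq => convert add_mem hp hq using 1; simp; ring
        | mul_X p l hp =>
          rw [map_mul, map_mul, MvPolynomial.constantCoeff_X, mul_zero, map_zero, sub_zero]
          refine Ideal.mul_mem_left _ _ (Ideal.subset_span ?_)
          fin_cases l <;> simp [nodeVar]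
      have h1 := key p
      have h2 : algebraMap κ Q (MvPolynomial.constantCoeff p) ∈ m := by
        have := sub_mem hq (show Ideal.Quotient.mk (nodeEq (0 : κ)) p - algebraMap κ Q (MvPolynomial.constantCoeff p) ∈ m
          from Ideal.span_le.2 (by rintro _ (rfl | rfl) <;> exact hu _) h1)
        rwa [sub_sub_cancel] at this
      have h3 : MvPolynomial.constantCoeff p = 0 := by
        by_contra h
        exact Ideal.IsPrime.ne_top ‹_› (Ideal.eq_top_of_isUnit_mem _ h2 ((Ne.isUnit h).map (algebraMap κ Q)))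
      simpa [h3] using h1
    · exact Ideal.span_le.2 (by rintro _ (rfl | rfl) <;> exact hu _)
  have hA : maximalIdeal A = Ideal.span {al (nodeVar 0 0), al (nodeVar 0 1)} := by
    refine (IsLocalization.AtPrime.map_eq_maximalIdeal m A).symm.trans ((congrArg (Ideal.map al) hspan).trans ?_)
    rw [Ideal.map_span, Set.image_pair]
  have huv : al (nodeVar (0 : κ) 0) * al (nodeVar (0 : κ) 1) = 0 := by
    rw [← map_mul, nodeVar_mul, map_zero, map_zero]
  have hmem : ∀ i, al (nodeVar (0 : κ) i) ∈ maximalIdeal A := fun i => by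
    rw [← IsLocalization.AtPrime.map_eq_maximalIdeal m A]
    exact Ideal.mem_map_of_mem _ (hu i)
  refine ⟨⟨al (nodeVar 0 0), al (nodeVar 0 1), 0, 1, 0, hA, ?_, ?_, ?_,
    al (nodeVar 0 0 + nodeVar 0 1), ?_, ?_⟩, ?_⟩
  · rw [show (4 * 0 * 0 - 1 ^ 2 : A) = -1 by ring]
    exact isUnit_one.neg
  · rw [one_mul, huv, zero_mul, zero_mul]
    simp
  · intro g hg
    obtain ⟨a, ha⟩ := Ideal.mem_span_singleton'.1 (hg ▸ hmem 0)
    obtain ⟨b, hb⟩ := Ideal.mem_span_singleton'.1 (hg ▸ hmem 1)
    have hgm : g ∈ maximalIdeal A := hg ▸ Ideal.mem_span_singleton_self g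
    have hg0 : (χ g).fst = 0 := by
      by_contra h
      obtain ⟨⟨q, s⟩, hqs⟩ := IsLocalization.surj m.primeCompl g
      have h1 : al q ∈ maximalIdeal A := hqs ▸ Ideal.mul_mem_right _ _ hgm
      have h2 : (χ₀ q).fst = 0 := (hker q).2 ((IsLocalization.AtPrime.to_map_mem_maximal_iff A m q).1 h1)
      have h3 := congrArg (fun z => (χ z).fst) hqs
      simp only [map_mul, TrivSqZeroExt.fst_mul] at h3
      rw [hχ, hχ, h2] at h3
      exact (mul_ne_zero h fun h' => s.2 ((hker _).1 h')) h3
    have e0 : χ a * χ g = e 0 := by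
      rw [← map_mul, ha, hχ]
      show MvPolynomial.aeval e (MvPolynomial.X 0) = e 0
      simp
    have e1 : χ b * χ g = e 1 := by
      rw [← map_mul, hb, hχ]
      show MvPolynomial.aeval e (MvPolynomial.X 1) = e 1
      simp
    have p0 := congrArg (fun z : T => z.snd) e0
    have p1 := congrArg (fun z : T => z.snd) e1
    change (TrivSqZeroExt.snd (χ a * χ g)) = TrivSqZeroExt.snd (e 0) at p0
    change (TrivSqZeroExt.snd (χ b * χ g)) = TrivSqZeroExt.snd (e 1) at p1
    rw [TrivSqZeroExt.snd_mul, hg0] at p0 p1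
    simp [e, Prod.ext_iff] at p0 p1
    rcases p0 with ⟨q1, q2⟩
    rcases p1 with ⟨q3, q4⟩
    rcases q2 with q2 | q2
    · rw [q2, zero_mul] at q1
      exact zero_ne_one q1
    · rw [q2, mul_zero] at q4
      exact zero_ne_one q4
  · rw [← IsLocalization.AtPrime.map_eq_maximalIdeal m A]
    exact Ideal.mem_map_of_mem _ (add_mem (hu 0) (hu 1))
  · have hnzd : nodeVar (0 : κ) 0 + nodeVar (0 : κ) 1 ∈ nonZeroDivisors Q := by
      refine mem_nonZeroDivisors_iff_right.2 fun q hq => ?_
      obtain ⟨p, rfl⟩ := Ideal.Quotient.mk_surjective q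
      rw [← map_add, ← map_mul, Ideal.Quotient.eq_zero_iff_mem, Ideal.mem_span_singleton, map_zero, sub_zero] at hq
      rw [Ideal.Quotient.eq_zero_iff_mem, Ideal.mem_span_singleton, map_zero, sub_zero]
      have hnd : ∀ i j : Fin 2, i ≠ j → ¬ (MvPolynomial.X i : MvPolynomial (Fin 2) κ) ∣ MvPolynomial.X i + MvPolynomial.X j := by
        intro i j hij h
        rw [dvd_add_right dvd_rfl, MvPolynomial.X_dvd_X] at h
        exact hij h
      obtain ⟨p', rfl⟩ := ((MvPolynomial.X_prime (R := κ) (i := (0 : Fin 2))).dvd_or_dvd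
        ((dvd_mul_right _ _).trans hq)).resolve_right (hnd 0 1 (by decide))
      refine mul_dvd_mul_left _ ?_
      rw [mul_assoc] at hq
      have hq' := (mul_dvd_mul_iff_left (MvPolynomial.X_ne_zero (R := κ) (0 : Fin 2))).1 hq
      exact ((MvPolynomial.X_prime (R := κ) (i := (1 : Fin 2))).dvd_or_dvd hq').resolve_right
        (by rw [add_comm]; exact hnd 1 0 (by decide))
    refine mem_nonZeroDivisors_iff_right.2 fun z hz => ?_
    obtain ⟨⟨q, s⟩, hqs⟩ := IsLocalization.surj m.primeCompl z
    have h1 : al (q * (nodeVar 0 0 + nodeVar 0 1)) = 0 := by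
      rw [map_mul, ← hqs, mul_assoc, mul_comm _ (al _), ← mul_assoc, hz, zero_mul]
    obtain ⟨t, ht⟩ := (IsLocalization.map_eq_zero_iff m.primeCompl A _).1 h1
    rw [← mul_assoc] at ht
    have h2 := mem_nonZeroDivisors_iff_right.1 hnzd _ ht
    have h3 : al q = 0 := (IsLocalization.map_eq_zero_iff m.primeCompl A _).2 ⟨t, h2⟩
    exact (IsLocalization.map_units A s).mul_left_eq_zero.1 (hqs.trans h3)
  · intro z
    obtain ⟨z, rfl⟩ := residue_surjective z
    obtain ⟨⟨q, s⟩, hqs⟩ := IsLocalization.surj m.primeCompl z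
    refine ⟨(χ₀ q).fst * (χ₀ s.1).fst⁻¹, ?_⟩
    have hres : ∀ q : Q, residue A (al q) = algebraMap κ (ResidueField A) (χ₀ q).fst := fun q => by
      rw [← sub_eq_zero]
      have h := Ideal.mem_map_of_mem al (hconst q)
      rw [IsLocalization.AtPrime.map_eq_maximalIdeal m A, map_sub] at h
      have h' := (residue_eq_zero_iff _).2 h
      rw [map_sub] at h'
      rw [show algebraMap κ (ResidueField A) (χ₀ q).fst = residue A (al (algebraMap κ Q (χ₀ q).fst)) from
        congrArg (residue A) (IsScalarTower.algebraMap_apply κ Q A _)]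
      exact h'
    have hs : (χ₀ s.1).fst ≠ 0 := fun h => s.2 ((hker _).1 h)
    have h1 : residue A z * algebraMap κ (ResidueField A) (χ₀ s.1).fst =
        algebraMap κ (ResidueField A) (χ₀ q).fst := by
      rw [← hres, ← hres, ← map_mul, hqs]
    rw [map_mul, map_inv₀, ← h1, mul_assoc, mul_inv_cancel₀ (by simpa using hs), mul_one]

end Field

end Groth.Agent.Node12.Loc
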