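import Groth.Agent.Node12.Loc.Locus
import Groth.Agent.RedPts82.RelDim
import Groth.Prelude.Def_StrictSS

/-!
# Strictly semistable curves are semistable
-/

set_option autoImplicit false
set_option linter.style.haveILetI false
set_option maxHeartbeats 1600000
set_option synthInstance.maxHeartbeats 100000
set_option backward.isDefEq.respectTransparency.types false

universe u

open CategoryTheory Limits AlgebraicGeometry

noncomputable section

namespace Groth.Agent.Node12.Loc

variable {C D S : Scheme.{u}}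

/-- The affine line is smooth of relative dimension one. -/
theorem smoothRelDim_lineToBase (A : Type u) [CommRing A] :
    SmoothOfRelativeDimension 1 (StrictSS.lineToBase A) := by
  have h : Algebra.IsStandardSmoothOfRelativeDimension 1 A (Polynomial A) := by
    have := RedPts82.mvPolynomial_relDim A PUnit.{1}
    rw [Nat.card_unique] at this
    exact Algebra.IsStandardSmoothOfRelativeDimension.of_algEquiv 1 (MvPolynomial.pUnitAlgEquiv A)
  rw [HasRingHomProperty.Spec_iff (P := @SmoothOfRelativeDimension 1)]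
  refine RingHom.locally_of RingHom.isStandardSmoothOfRelativeDimension_respectsIso _ ?_
  exact (RingHom.isStandardSmoothOfRelativeDimension_algebraMap 1).2 h

theorem smoothRelDim_of_lineChart {φ : C ⟶ S} {A : CommRingCat.{u}} (j : Spec A ⟶ S) [IsOpenImmersion j]
    {U : C.Opens} (q : (U : Scheme.{u}) ⟶ Spec A) (hq : U.ι ≫ φ = q ≫ j)
    (f : (U : Scheme.{u}) ⟶ Spec (CommRingCat.of (Polynomial A))) [Etale f]
    (hf : f ≫ StrictSS.lineToBase A = q) : SmoothOfRelativeDimension 1 (U.ι ≫ φ) := by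
  haveI := smoothRelDim_lineToBase A
  have h0 : SmoothOfRelativeDimension 0 f := inferInstance
  have h1 : SmoothOfRelativeDimension 0 j := inferInstance
  rw [hq, ← hf]
  exact (inferInstance : SmoothOfRelativeDimension (0 + 1 + 0) ((f ≫ StrictSS.lineToBase A) ≫ j))

theorem isNodalFamily_of_nodeChart {φ : C ⟶ S} [Flat φ] {A : CommRingCat.{u}} (j : Spec A ⟶ S) [IsOpenImmersion j]
    {U : C.Opens} (q : (U : Scheme.{u}) ⟶ Spec A) (hq : U.ι ≫ φ = q ≫ j) (a : A)
    (f : (U : Scheme.{u}) ⟶ Spec (CommRingCat.of (StrictSS.NodeAlg A a))) [Etale f]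
    (hf : f ≫ StrictSS.nodeToBase A a = q) : Curv2.IsNodalFamily (U.ι ≫ φ) := by
  have hflat : Flat q := by
    have : Flat (q ≫ j) := hq ▸ (inferInstance : Flat (U.ι ≫ φ))
    exact MorphismProperty.of_postcomp (W := @Flat) (W' := @IsOpenImmersion) q j ‹_› ‹_›
  subst hf
  rw [hq]
  exact S1595.result j (f ≫ nodeStruct a)
    ⟨hflat, inferInstance, fun v => fibres_of_etale (nodeStruct a) f (nodeStruct_fibre_nodal a) v⟩

/-- A strictly semistable curve is semistable. -/
theorem isSemistable_of_strict (φ : C ⟶ S) (i : D ⟶ C) (h : StrictSS.IsStrictlySemistable φ i) :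
    SSMod.IsSemistable φ i := by
  obtain ⟨hmp, hch⟩ := h
  haveI : Flat φ := hmp.1
  haveI : LocallyOfFinitePresentation φ := hmp.2.1
  have hline : ∀ d : D, StrictSS.HasLineChartAt φ i (i d) := fun d => by
    rcases hch (i d) with hl | ⟨A, j, hj, U, hxU, q, hq, a, f, hf, hfq, hdis⟩
    · exact hl
    · exact absurd hxU (Set.disjoint_left.1 hdis ⟨d, rfl⟩)
  refine ⟨hmp, ?_, ?_, ?_⟩
  · have hloc : ∀ x : C, ∃ U : C.Opens, x ∈ U ∧ Curv2.IsNodalFamily (U.ι ≫ φ) := fun x => by
      rcases hch x with ⟨A, j, hj, U, hxU, q, hq, f, fD, hf, hfq, -, -⟩ |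
        ⟨A, j, hj, U, hxU, q, hq, a, f, hf, hfq, -⟩
      · have := smoothRelDim_of_lineChart j q hq f hfq
        exact ⟨U, hxU, isNodalFamily_of_smooth_one _⟩
      · exact ⟨U, hxU, isNodalFamily_of_nodeChart j q hq a f hfq⟩
    choose V hV hnod using hloc
    exact S1593.result φ C (fun x => (V x : Scheme.{u})) (fun x => (V x).ι) (fun x => ⟨x, ⟨x, hV x⟩, rfl⟩) hnod
  · have hloc : ∀ d : D, ∃ W : D.Opens, d ∈ W ∧ Etale (W.ι ≫ i ≫ φ) := fun d => by
      obtain ⟨A, j, hj, U, hxU, q, hq, f, fD, hf, hfq, hfD, hcomm⟩ := hline d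
      refine ⟨i ⁻¹ᵁ U, hxU, ?_⟩
      have h1 : StrictSS.lineZero A ≫ StrictSS.lineToBase A = 𝟙 _ := by
        rw [← Spec.map_comp, ← Spec.map_id]
        exact congrArg Spec.map (CommRingCat.hom_ext (RingHom.ext fun t => Polynomial.eval_C))
      rw [← morphismRestrict_ι_assoc, hq, ← hfq, ← Category.assoc, ← Category.assoc, ← hcomm, Category.assoc fD,
        h1]
      infer_instance
    choose W hW het using hloc
    exact (IsZariskiLocalAtSource.iff_of_iSup_eq_top (P := @Etale) W
      (eq_top_iff.2 fun d _ => TopologicalSpace.Opens.mem_iSup.2 ⟨d, hW d⟩)).2 het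
  · rw [Set.disjoint_left]
    rintro _ ⟨d, rfl⟩ hns
    obtain ⟨A, j, hj, U, hxU, q, hq, f, fD, hf, hfq, -, -⟩ := hline d
    have := smoothRelDim_of_lineChart j q hq f hfq
    exact hns ((Unr55.exists_smooth_iff φ _).1 ⟨U, hxU, SmoothOfRelativeDimension.smooth 1 _⟩)

end Groth.Agent.Node12.Loc
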